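import Cfsg.Agent.Lib.Char.Table
import Cfsg.Agent.Lib.Char.Induced
import Cfsg.Agent.Lib.Char.Virtual
import Cfsg.Agent.Lib.Char.Counting
import Cfsg.Agent.Lib.Char.Kernel

/-!
Tools for characters of rank one groups: Fourier coefficients on a root subgroup, sums over
multiplicative characters, induction through coset representatives.
-/

set_option autoImplicit false
set_option linter.unusedSectionVars false

namespace CfsgLib.RankOne

open Cfsg CfsgLib.Char
open scoped ComplexConjugate

universe u v

variable {F : Type u} [Field F] [Fintype F] [DecidableEq F]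

/-- A primitive additive character. -/
noncomputable def psi (F : Type u) [Field F] [Fintype F] : AddChar F ℂ :=
  AddChar.FiniteField.primitiveChar_to_Complex F

theorem psi_sum (b : F) :
    ∑ x : F, psi F (b * x) = if b = 0 then (Fintype.card F : ℂ) else 0 := by
  have := AddChar.sum_mulShift b (AddChar.FiniteField.primitiveChar_to_Complex_isPrimitive F)
  refine Eq.trans (Finset.sum_congr rfl fun x _ => by rw [mul_comm]; rfl) (this.trans ?_)
  split_ifs <;> simp

variable {G : Type v} [Group G]

/-- A Fourier coefficient of the restriction to the root group `u`. -/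
noncomputable def ures (u : AddChar F G) (χ : G → ℂ) (a : F) : ℂ :=
  (Fintype.card F : ℂ)⁻¹ * ∑ c : F, χ (u c) * conj (psi F (a * c))

theorem ures_add (u : AddChar F G) (χ χ' : G → ℂ) (a : F) :
    ures u (χ + χ') a = ures u χ a + ures u χ' a := by
  simp [ures, Pi.add_apply, add_mul, Finset.sum_add_distrib, mul_add]

theorem ures_zero (u : AddChar F G) (χ : G → ℂ) :
    ures u χ 0 = (Fintype.card F : ℂ)⁻¹ * ∑ c : F, χ (u c) := by
  simp [ures]

/-- Fourier inversion. -/
theorem ures_expand (u : AddChar F G) (χ : G → ℂ) (c : F) :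
    χ (u c) = ∑ a : F, ures u χ a * psi F (a * c) := by
  classical
  have h : ∀ a x : F, χ (u x) * conj (psi F (a * x)) * psi F (a * c) =
      χ (u x) * psi F ((c - x) * a) := fun a x => by
    rw [← AddChar.map_neg_eq_conj, mul_assoc, ← AddChar.map_add_eq_mul]
    congr 2; ring
  simp only [ures, mul_assoc, Finset.sum_mul]
  rw [← Finset.mul_sum, Finset.sum_comm]
  simp only [← mul_assoc, h, ← Finset.mul_sum, psi_sum, sub_eq_zero]
  rw [Finset.sum_eq_single c]
  · rw [if_pos rfl, ← mul_assoc, mul_comm _ (χ (u c)), mul_assoc,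
      inv_mul_cancel₀ (Nat.cast_ne_zero.2 Fintype.card_ne_zero), mul_one]
  · intro x _ hx; rw [if_neg (Ne.symm hx), mul_zero]
  · simp

/-- Fourier coefficients of a character are natural numbers. -/
theorem exists_nat_ures (u : AddChar F G) {χ : G → ℂ} (hχ : IsCharacter G χ) (a : F) :
    ∃ n : ℕ, ures u χ a = n := by
  have h1 : IsCharacter (Multiplicative F) (fun c => χ (u.toMonoidHom c)) :=
    isCharacter_comp u.toMonoidHom hχ
  have h2 : IsCharacter (Multiplicative F)
      (fun c => (((AddChar.mulShift (psi F) a).toMonoidHom.toHomUnits c : ℂˣ) : ℂ)) :=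
    isCharacter_monoidHom _
  obtain ⟨n, hn⟩ := exists_nat_classInner h1 h2
  refine ⟨n, ?_⟩
  rw [← hn, classInner, ures, Nat.card_eq_fintype_card]
  simp only [Fintype.card_multiplicative]
  congr 1
  refine Fintype.sum_equiv Multiplicative.ofAdd _ _ fun c => ?_
  simp

/-- Symmetry under a scaling of the root group. -/
theorem ures_scale (u : AddChar F G) {χ : G → ℂ} {s : F} (hs : s ≠ 0)
    (h : ∀ c, χ (u (s * c)) = χ (u c)) (a : F) : ures u χ (s * a) = ures u χ a := by
  unfold ures
  congr 1
  refine Fintype.sum_equiv (Equiv.mulLeft₀ s hs) _ _ fun c => ?_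
  rw [show Equiv.mulLeft₀ s hs c = s * c from rfl, h]
  congr 3
  ring

/-- Conjugation gives a scaling. -/
theorem scale_of_conj (u : AddChar F G) {χ : G → ℂ} (hχ : IsClassFunction G χ) {s : F} (x : G)
    (h : ∀ c, x * u c * x⁻¹ = u (s * c)) (c : F) : χ (u (s * c)) = χ (u c) := by
  rw [← h, hχ]

/-- Orthogonality of multiplicative characters on the units. -/
theorem sum_units_mulChar (α β : MulChar F ℂ) [Decidable (α = β)] :
    ∑ x : Fˣ, α x * conj (β x) = if α = β then (Fintype.card F : ℂ) - 1 else 0 := by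
  classical
  have e : ∀ x : Fˣ, α x * conj (β x) = (α * β⁻¹) (x : F) := fun x => by
    rw [MulChar.mul_apply, ← MulChar.star_apply']; rfl
  simp only [e]
  split_ifs with h
  · subst h
    rw [mul_inv_cancel]
    simp only [MulChar.one_apply_coe, Finset.sum_const, Finset.card_univ, nsmul_eq_mul, mul_one]
    rw [Fintype.card_units, Nat.cast_sub Fintype.card_pos, Nat.cast_one]
  · have h0 := MulChar.sum_eq_zero_of_ne_one
      (show α * β⁻¹ ≠ 1 from fun e => h (mul_inv_eq_one.1 e))
    rw [Fintype.sum_eq_add_sum_subtype_ne _ (0 : F), MulChar.map_zero, zero_add] at h0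
    rw [← h0]
    exact Fintype.sum_equiv (unitsEquivNeZero (G₀ := F)) _ _ fun x => rfl

/-- A function on the units with nonzero value at one correlates with some character. -/
theorem exists_mulChar (f : Fˣ → ℂ) (h : f 1 ≠ 0) :
    ∃ α : MulChar F ℂ, ∑ x : Fˣ, f x * conj (α x) ≠ 0 := by
  classical
  have : Fintype (MulChar F ℂ) := Fintype.ofFinite _
  by_contra hc
  push Not at hc
  have hz : ∀ x : Fˣ, x ≠ 1 → ∑ α : MulChar F ℂ, conj (α x) = 0 := by
    intro x hx
    obtain ⟨η, hη⟩ := MulChar.exists_apply_ne_one_of_hasEnoughRootsOfUnity (M := F) ℂ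
      (a := (x : F)) (fun e => hx (Units.ext e))
    have key : (∑ α : MulChar F ℂ, α x) = 0 := by
      refine eq_zero_of_mul_eq_self_left hη ?_
      rw [Finset.mul_sum]
      exact Fintype.sum_bijective _ (Group.mulLeft_bijective η) _ _ fun α => (MulChar.mul_apply _ _ _).symm
    rw [← map_sum, key, map_zero]
  have h0 : ∑ α : MulChar F ℂ, ∑ x : Fˣ, f x * conj (α x) = 0 := Finset.sum_eq_zero fun α _ => hc α
  rw [Finset.sum_comm] at h0
  simp only [← Finset.mul_sum] at h0
  rw [Finset.sum_eq_single (1 : Fˣ) (fun x _ hx => by rw [hz x hx, mul_zero]) (by simp)] at h0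
  simp [h] at h0

variable [Fintype G]

/-- Induction through a system of coset representatives. -/
theorem indFun_eq_sum {ι : Type*} [Fintype ι] (B : Subgroup G) (θ : B → ℂ) (r : ι → G)
    (hr : Function.Bijective fun p : ι × B => r p.1 * (p.2 : G))
    (hθ : IsClassFunction B θ) (g : G) :
    indFun B θ g = ∑ i, extendByZero B θ ((r i)⁻¹ * g * r i) := by
  classical
  have hb : ∀ (b : B) (y : G), extendByZero B θ ((b : G)⁻¹ * y * b) = extendByZero B θ y := by
    intro b y
    by_cases hy : y ∈ B
    · rw [extendByZero_mem B θ hy, extendByZero_mem B θ (B.mul_mem (B.mul_mem (B.inv_mem b.2) hy) b.2)]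
      conv_rhs => rw [← hθ ⟨y, hy⟩ b⁻¹]
      refine congrArg θ (Subtype.ext ?_)
      simp
    · rw [extendByZero_notMem B θ hy, extendByZero_notMem B θ fun h => hy ?_]
      have := B.mul_mem (B.mul_mem b.2 h) (B.inv_mem b.2)
      simpa [mul_assoc] using this
  unfold indFun
  rw [← Fintype.sum_bijective _ hr (fun p => extendByZero B θ ((r p.1)⁻¹ * g * r p.1)) _ fun p => by
      rw [← hb p.2 ((r p.1)⁻¹ * g * r p.1), mul_inv_rev]; simp [mul_assoc],
    Fintype.sum_prod_type]
  simp only [Finset.sum_const, Finset.card_univ, nsmul_eq_mul, ← Finset.mul_sum,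
    ← Nat.card_eq_fintype_card]
  rw [inv_mul_cancel_left₀ (Nat.cast_ne_zero.2 Nat.card_pos.ne')]

/-- A difference of characters of norm one and positive degree is irreducible. -/
theorem isIrr_sub_of_norm_one {χ θ : G → ℂ} (hχ : IsCharacter G χ) (hθ : IsCharacter G θ)
    (h : classInner (χ - θ) (χ - θ) = 1) {n : ℕ} (hn : χ 1 - θ 1 = n) :
    IsIrrCharacter G (χ - θ) := by
  obtain ⟨ε, hε, ψ, hψ⟩ := exists_of_norm_one ⟨χ, θ, hχ, hθ, rfl⟩ h
  rcases hε with rfl | rfl
  · rw [hψ, one_smul]; exact ψ.2
  · exfalso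
    obtain ⟨m, hm, e⟩ := exists_nat_degree_irr ψ.2
    have h1 := congrFun hψ 1
    rw [Pi.sub_apply, hn, Pi.smul_apply, e, neg_smul, one_smul, eq_neg_iff_add_eq_zero] at h1
    have : n + m = 0 := by exact_mod_cast h1
    omega

/-- Two irreducible characters with nonzero inner product coincide. -/
theorem eq_of_inner_ne_zero {χ θ : G → ℂ} (hχ : IsIrrCharacter G χ) (hθ : IsIrrCharacter G θ)
    (h : classInner χ θ ≠ 0) : χ = θ :=
  by_contra fun e => h (classInner_irr_ne hχ hθ e)

end CfsgLib.RankOne
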