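import Cfsg.Agent.Lib.RankOne.SLDegree
import Cfsg.Agent.Lib.Char.Artin
import Cfsg.Agent.Lib.Char.MeanValue

/-!
Values of the cuspidal characters of `SL₂(q)`, `q` odd, on a non-split torus.

They follow from the two relations `⟨χ, χ⟩ = 1` and `⟨χ, 1⟩ = 0`: the sums over the elements with and
without eigenvector are separately computable, the latter as a multiple of a sum over the torus.
-/

set_option autoImplicit false
set_option linter.unusedSectionVars false

namespace CfsgLib.RankOne.SLTwo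

open Cfsg CfsgLib.Char CfsgLib.RankOne CfsgLib.SL2
open scoped ComplexConjugate MatrixGroups

universe u

variable {F : Type u} [Field F] [Fintype F] [DecidableEq F]

local notation "G" => Matrix.SpecialLinearGroup (Fin 2) F

/-- No eigenvector in `F²`. -/
def Aniso (g : G) : Prop :=
  ∀ (c : F) (v : Fin 2 → F), v ≠ 0 → (g : Matrix (Fin 2) (Fin 2) F).mulVec v ≠ c • v

noncomputable instance : DecidablePred (Aniso : G → Prop) := _root_.Classical.decPred _

theorem aniso_iff (g : G) :
    Aniso g ↔ ∀ l : F, l * l - (g : Matrix (Fin 2) (Fin 2) F).trace * l + 1 ≠ 0 := by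
  have hd : ∀ l : F, ((g : Matrix (Fin 2) (Fin 2) F) - l • 1).det =
      l * l - (g : Matrix (Fin 2) (Fin 2) F).trace * l + 1 := by
    intro l
    have h := g.det_coe
    rw [Matrix.det_fin_two] at h
    simp [Matrix.det_fin_two, Matrix.trace_fin_two]
    linear_combination h
  constructor
  · intro h l hl
    rw [← hd] at hl
    obtain ⟨v, hv, hv'⟩ := Matrix.exists_mulVec_eq_zero_iff.2 hl
    rw [Matrix.sub_mulVec, Matrix.smul_mulVec, Matrix.one_mulVec, sub_eq_zero] at hv'
    exact h l v hv hv'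
  · intro h l v hv hv'
    refine h l ((hd l).symm.trans (Matrix.exists_mulVec_eq_zero_iff.1 ⟨v, hv, ?_⟩))
    rw [Matrix.sub_mulVec, Matrix.smul_mulVec, Matrix.one_mulVec, hv', sub_self]

theorem aniso_conj_iff (x g : G) : Aniso (x * g * x⁻¹) ↔ Aniso g := by
  rw [aniso_iff, aniso_iff, trace_conj]

theorem trace_tri (a : Fˣ) (b : F) :
    ((tri a b : G) : Matrix (Fin 2) (Fin 2) F).trace = (a : F) + ((a⁻¹ : Fˣ) : F) := by
  simp [tri_coe, Matrix.trace_fin_two]

theorem not_aniso_tri (a : Fˣ) (b : F) : ¬ Aniso (tri a b : G) := fun h =>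
  (aniso_iff _).1 h (a : F) (by rw [trace_tri]; linear_combination -a.inv_mul)

theorem not_aniso_of_eq_tri {g : G} {a : Fˣ} {b : F} (h : g = tri a b) : ¬ Aniso g :=
  h ▸ not_aniso_tri a b

theorem Aniso.regular (h2 : ringChar F ≠ 2) {g : G} (hg : Aniso g) : Regular g := fun e =>
  (aniso_iff g).1 hg ((g : Matrix (Fin 2) (Fin 2) F).trace / 2) (by
    have : (2 : F) ≠ 0 := Ring.two_ne_zero h2
    field_simp
    linear_combination -e)

theorem Aniso.card_cent {g : G} (hg : Aniso g) :
    Nat.card (cent g) = Fintype.card F + 1 := by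
  rw [(cent_nonsplit ((aniso_iff g).1 hg)).2, Nat.card_eq_fintype_card]

theorem exists_conj_bor {g : G} (hg : ¬ Aniso g) :
    ∃ (x : G) (a : Fˣ) (b : F), x⁻¹ * g * x = tri a b := by
  suffices h : ∃ x : G, ((x⁻¹ * g * x : G) : Matrix (Fin 2) (Fin 2) F) 1 0 = 0 by
    obtain ⟨x, hx⟩ := h
    obtain ⟨a, b, e⟩ := exists_tri hx
    exact ⟨x, a, b, e⟩
  by_cases h10 : (g : Matrix (Fin 2) (Fin 2) F) 1 0 = 0
  · exact ⟨1, by simpa using h10⟩
  rw [aniso_iff] at hg
  push Not at hg
  obtain ⟨l, hl⟩ := hg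
  refine ⟨rep (some ((l - (g : Matrix (Fin 2) (Fin 2) F) 1 1) / (g : Matrix (Fin 2) (Fin 2) F) 1 0)), ?_⟩
  rw [rep_some_conj]
  have h := g.det_coe
  rw [Matrix.det_fin_two] at h
  rw [Matrix.trace_fin_two] at hl
  simp only [Matrix.of_apply, Matrix.cons_val', Matrix.cons_val_zero, Matrix.cons_val_one,
    Matrix.cons_val_fin_one, neg_eq_zero]
  field_simp
  linear_combination -hl - h

theorem tri_conj {φ : G → ℂ} (hφ : IsClassFunction G φ) {a : Fˣ} (ha : (a : F) ^ 2 ≠ 1) (b : F) :
    φ (tri a b) = φ (tri a 0) := by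
  have hd : ((a⁻¹ : Fˣ) : F) - a ≠ 0 := fun e => ha (by
    rw [sub_eq_zero] at e
    calc (a : F) ^ 2 = (a : F) * (a : F) := sq _
      _ = (a : F) * ((a⁻¹ : Fˣ) : F) := by rw [← e]
      _ = 1 := a.mul_inv)
  rw [← hφ (tri a 0) (uSL (b / (((a⁻¹ : Fˣ) : F) - a)))]
  congr 1
  rw [eq_mul_inv_iff_mul_eq]
  refine Subtype.ext ?_
  simp only [Matrix.SpecialLinearGroup.coe_mul, tri_coe, uSL_coe, Matrix.mul_fin_two]
  ext i j
  fin_cases i <;> fin_cases j <;> simp
  rw [Units.val_inv_eq_inv_val] at hd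
  field_simp
  field_simp at hd
  ring

theorem tri_one (b : F) : (tri 1 b : G) = uSL b :=
  Subtype.ext (by simp [tri_coe, uSL_coe])

theorem tri_neg_one (b : F) : (tri (-1) b : G) = (-1 : G) * uSL (-b) :=
  Subtype.ext (by rw [coe_neg_one_mul]; simp [tri_coe, uSL_coe])

theorem neg_one_ne_one' (h2 : ringChar F ≠ 2) : (-1 : G) ≠ 1 :=
  CfsgLib.SL2.neg_one_ne_one (Ring.two_ne_zero h2)

/-- The sum of a class function vanishing on the split torus over the elements with an eigenvector. -/
theorem sum_not_aniso (h2 : ringChar F ≠ 2) {φ : G → ℂ} (hφ : IsClassFunction G φ)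
    (hs : ∀ a : Fˣ, (a : F) ^ 2 ≠ 1 → φ (tri a 0) = 0) :
    (∑ g : G, if Aniso g then 0 else φ g) =
      φ 1 + φ (-1) + ((Fintype.card F : ℂ) + 1) *
        (∑ b ∈ Finset.univ.erase (0 : F), (φ (uSL b) + φ ((-1 : G) * uSL b))) := by
  classical
  set q : ℂ := (Fintype.card F : ℂ) with hq
  have hpt : ∀ g : G, ps 1 g * φ g =
      (if Aniso g then 0 else φ g) + if g = 1 ∨ g = -1 then q * φ g else 0 := by
    intro g
    by_cases hg : Aniso g
    · have hne : ¬ (g = 1 ∨ g = -1) := by
        rintro (e | e)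
        · exact not_aniso_of_eq_tri (a := 1) (b := 0) (by rw [e, tri_one, AddChar.map_zero_eq_one]) hg
        · exact not_aniso_of_eq_tri (a := -1) (b := 0)
            (by rw [e, tri_neg_one, neg_zero, AddChar.map_zero_eq_one, mul_one]) hg
      rw [ps_anisotropic 1 g hg, if_pos hg, if_neg hne, zero_mul, zero_add]
    rw [if_neg hg]
    obtain ⟨x, a, b, e⟩ := exists_conj_bor hg
    have hg' : g = x * tri a b * x⁻¹ := by rw [← e]; group
    have hv : ∀ ψ : G → ℂ, IsClassFunction G ψ → ψ g = ψ (tri a b) := fun ψ hψ => by rw [hg', hψ]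
    have hz : ∀ z : G, z ∈ Subgroup.center G → (g = z ↔ tri a b = z) := fun z hz => by
      rw [← e]
      constructor
      · rintro rfl
        rw [(Subgroup.mem_center_iff.1 hz x⁻¹), inv_mul_cancel_right]
      · intro h
        rw [hg', ← e, h, Subgroup.mem_center_iff.1 hz x, mul_inv_cancel_right]
    simp only [hz 1 (Subgroup.one_mem _), hz (-1) neg_one_mem_center]
    rw [hv φ hφ, hv (ps 1) (isClassFunction_of_isCharacter (isCharacter_ps 1))]
    by_cases ha : (a : F) ^ 2 = 1
    · have hai : ((a⁻¹ : Fˣ) : F) = a := by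
        rw [Units.val_inv_eq_inv_val, inv_eq_of_mul_eq_one_left (by rw [← sq]; exact ha)]
      rw [ps_tri]
      simp only [hai, sub_self, mul_zero, add_zero, MulChar.one_apply_coe]
      by_cases hb : b = 0
      · subst hb
        simp only [if_true, Finset.sum_const, Finset.card_univ, nsmul_eq_mul, mul_one]
        rw [if_pos]
        · rw [← hq]; ring
        · rcases sq_eq_one_iff.1 ha with h | h
          · left; rw [show a = 1 from Units.ext h, tri_one, AddChar.map_zero_eq_one]
          · right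
            rw [show a = -1 from Units.ext (by simpa using h), tri_neg_one, neg_zero,
              AddChar.map_zero_eq_one, mul_one]
      · simp only [hb, if_false, Finset.sum_const_zero, add_zero, one_mul]
        rw [if_neg, add_zero]
        rintro (h | h)
        all_goals exact hb (by simpa [tri_coe] using congrArg (fun y : G => (y : Matrix (Fin 2) (Fin 2) F) 0 1) h)
    · rw [tri_conj hφ ha b, hs a ha, mul_zero, zero_add, mul_zero, ite_self]
  have hB : ∑ g : G, ps 1 g * φ g = (q + 1) * ∑ a : Fˣ, ∑ b : F, φ (tri a b) := by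
    have hc : IsClassFunction G (fun g => conj (φ g)) := fun g h => by simp [hφ g h]
    have h := frobenius_reciprocity (Bor F) (lam 1) hc
    rw [classInner, classInner, sum_bor, card_bor, card_group] at h
    simp only [Complex.conj_conj] at h
    have h1 : ∀ (a : Fˣ) (b : F), lam 1 ⟨tri a b, tri_mem a b⟩ = (1 : ℂ) := fun a b => by
      simp [lam, tri_coe]
    simp only [h1, one_mul] at h
    rw [← hq] at h
    have hq0 : q ≠ 0 := Nat.cast_ne_zero.2 Fintype.card_ne_zero
    have hq1 : q - 1 ≠ 0 := GLTwo.card_sub_one_ne (F := F)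
    have hq2 : q + 1 ≠ 0 := by rw [hq]; exact_mod_cast Nat.succ_ne_zero (Fintype.card F)
    have hq3 : q ^ 2 - 1 ≠ 0 := by
      rw [show q ^ 2 - 1 = (q - 1) * (q + 1) by ring]; exact mul_ne_zero hq1 hq2
    change (q * (q ^ 2 - 1))⁻¹ * (∑ g : G, ps 1 g * φ g) = _ at h
    generalize (∑ g : G, ps 1 g * φ g) = X at h ⊢
    generalize (∑ a : Fˣ, ∑ b : F, φ (tri a b)) = Y at h ⊢
    field_simp at h
    apply mul_right_cancel₀ (mul_ne_zero hq1 hq0)
    linear_combination q * h
  have hbor : ∑ a : Fˣ, ∑ b : F, φ (tri a b) = ∑ b : F, φ (uSL b) + ∑ b : F, φ ((-1 : G) * uSL b) := by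
    have hne : (1 : Fˣ) ≠ -1 := fun e => Ring.neg_one_ne_one_of_char_ne_two h2
      (by simpa using (congrArg Units.val e).symm)
    rw [← Finset.sum_subset (Finset.subset_univ ({1, -1} : Finset Fˣ)), Finset.sum_pair hne]
    · simp only [tri_one, tri_neg_one]
      congr 1
      exact Fintype.sum_equiv (Equiv.neg F) _ _ fun b => rfl
    · intro a _ ha
      have ha2 : (a : F) ^ 2 ≠ 1 := fun e => ha (by
        rcases sq_eq_one_iff.1 e with h | h
        · simp [show a = 1 from Units.ext h]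
        · simp [show a = -1 from Units.ext (by simpa using h)])
      simp [tri_conj hφ ha2, hs a ha2]
  have hcen : ∑ g : G, (if g = 1 ∨ g = -1 then q * φ g else 0) = q * φ 1 + q * φ (-1) := by
    rw [← Finset.sum_filter, show (Finset.univ.filter fun g : G => g = 1 ∨ g = -1) = {1, -1} by
      ext g; simp, Finset.sum_pair (neg_one_ne_one' h2).symm]
  rw [Finset.sum_congr rfl fun g _ => hpt g, Finset.sum_add_distrib, hcen, hbor] at hB
  rw [← Finset.add_sum_erase _ _ (Finset.mem_univ (0 : F)), AddChar.map_zero_eq_one,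
    ← Finset.add_sum_erase Finset.univ (fun b => φ ((-1 : G) * uSL b)) (Finset.mem_univ (0 : F)),
    AddChar.map_zero_eq_one, mul_one] at hB
  rw [Finset.sum_add_distrib]
  linear_combination hB

variable {C : Subgroup (Matrix.SpecialLinearGroup (Fin 2) F)}

/-- Data of a non-split torus. -/
structure Torus (C : Subgroup (Matrix.SpecialLinearGroup (Fin 2) F)) : Prop where
  odd : ringChar F ≠ 2
  cyclic : IsCyclic C
  card : Nat.card C = Fintype.card F + 1

theorem Torus.comm (hT : Torus C) (a b : C) : a * b = b * a := by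
  letI := hT.cyclic
  letI := IsCyclic.commGroup (α := C)
  exact mul_comm a b

theorem Torus.four_le (hT : Torus C) : 4 ≤ Fintype.card F + 1 := by
  have h1 := card_mod_two_eq_one hT.odd
  have h2 : 2 ≤ Fintype.card F := Fintype.one_lt_card
  omega

theorem mem_center_iff' (g : G) : g ∈ Subgroup.center G ↔ g = 1 ∨ g = -1 :=
  ⟨eq_one_or_eq_neg_one_of_mem_center g, by
    rintro (rfl | rfl)
    · exact Subgroup.one_mem _
    · exact neg_one_mem_center⟩

theorem Torus.aniso (hT : Torus C) {c : G} (hc : c ∈ C) (hz : c ∉ Subgroup.center G) :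
    Aniso c ∧ cent c = C := by
  classical
  set q := Fintype.card F with hq
  obtain ⟨p, hp⟩ := CharP.exists F
  haveI : Fact p.Prime := ⟨CharP.char_is_prime F p⟩
  have hcq : c ^ (q + 1) = 1 := by
    have h : ((⟨c, hc⟩ : C) : G) ^ (q + 1) = 1 := by
      rw [← SubgroupClass.coe_pow, ← hT.card, pow_card_eq_one', Subgroup.coe_one]
    exact h
  have hreg : Regular c := by
    by_contra hr
    obtain ⟨n, -, hpn⟩ := FiniteField.card F p
    have hcop : Nat.Coprime p (q + 1) := by
      refine (Fact.out : p.Prime).coprime_iff_not_dvd.2 fun hd => ?_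
      have : p ∣ q := by rw [hq, hpn]; exact dvd_pow_self p n.ne_zero
      exact (Fact.out : p.Prime).not_dvd_one ((Nat.dvd_add_iff_right this).2 hd)
    have h1 : orderOf c ∣ Nat.gcd (2 * p) (q + 1) :=
      Nat.dvd_gcd (orderOf_dvd_of_pow_eq_one (pow_two_mul_char_of_not_regular hr p))
        (orderOf_dvd_of_pow_eq_one hcq)
    rw [Nat.Coprime.gcd_mul_right_cancel 2 hcop] at h1
    have h2' : c * c = 1 := by
      rw [← sq, ← orderOf_dvd_iff_pow_eq_one]
      exact h1.trans (Nat.gcd_dvd_left _ _)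
    refine hz ((mem_center_iff' c).2 ?_)
    by_cases h : c = 1
    · exact Or.inl h
    · exact Or.inr (eq_neg_one_of_mul_self (Ring.two_ne_zero hT.odd) h2' h)
  have hle : C ≤ cent c := fun y hy => mem_cent_iff.2 (congrArg Subtype.val (hT.comm ⟨c, hc⟩ ⟨y, hy⟩))
  have hcard := Subgroup.card_le_of_le hle
  rw [hT.card] at hcard
  have hfour := hT.four_le
  have han : Aniso c := by
    rw [aniso_iff]
    intro l hl
    rw [(cent_split hl hreg).2, Nat.card_eq_fintype_card] at hcard
    omega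
  exact ⟨han, (Subgroup.eq_of_le_of_card_ge hle (by rw [han.card_cent, hT.card])).symm⟩

theorem Torus.exists_noncentral (hT : Torus C) :
    ∃ c : C, (∀ x : C, x ∈ Subgroup.zpowers c) ∧ (c : G) ∉ Subgroup.center G ∧
      orderOf c = Fintype.card F + 1 := by
  obtain ⟨c, hc⟩ := hT.cyclic.exists_generator
  have ho : orderOf c = Fintype.card F + 1 := by
    rw [orderOf_eq_card_of_forall_mem_zpowers hc, hT.card]
  refine ⟨c, hc, fun hz => ?_, ho⟩
  have hfour := hT.four_le
  have : orderOf c ∣ 2 := by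
    rw [← Subgroup.orderOf_coe]
    refine orderOf_dvd_of_pow_eq_one ?_
    rcases (mem_center_iff' _).1 hz with h | h <;> rw [h] <;> simp
  have := Nat.le_of_dvd two_pos this
  omega

theorem Torus.exists_conj (hT : Torus C) {g : G} (hg : Aniso g) :
    ∃ x : G, x * g * x⁻¹ ∈ C ∧ x * g * x⁻¹ ∉ Subgroup.center G := by
  obtain ⟨c, -, hz, -⟩ := hT.exists_noncentral
  obtain ⟨han, he⟩ := hT.aniso c.2 hz
  obtain ⟨x, hx⟩ := exists_conj_mem_cent (han.regular hT.odd) (hg.regular hT.odd)
    (by rw [han.card_cent, ← hg.card_cent]; exact orderOf_dvd_card_cent g)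
  rw [he] at hx
  refine ⟨x, hx, fun h => ?_⟩
  have h1 : Aniso (x * g * x⁻¹) := (aniso_conj_iff x g).2 hg
  exact ((h1.regular hT.odd).nonScalar) |> fun hn => (mem_center_iff_not_nonScalar _).1 h hn

/-- The sum of a class function over the elements without eigenvector. -/
theorem Torus.sum_aniso (hT : Torus C) {φ : G → ℂ} (hφ : IsClassFunction G φ) [Fintype C] :
    (∑ g : G, if Aniso g then φ g else 0) =
      (Fintype.card F : ℂ) * ((Fintype.card F : ℂ) - 1) / 2 *
        (∑ c : C, if (c : G) = 1 ∨ (c : G) = -1 then 0 else φ c) := by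
  classical
  set q : ℂ := (Fintype.card F : ℂ) with hq
  set f : C → ℂ := fun c => if (c : G) = 1 ∨ (c : G) = -1 then 0 else 1 with hf
  have hext : ∀ y : G, extendByZero C f y =
      if y ∈ C ∧ y ∉ Subgroup.center G then 1 else 0 := by
    intro y
    by_cases hy : y ∈ C
    · rw [extendByZero_mem C f hy, hf]
      by_cases hz : y ∈ Subgroup.center G
      · simp [hy, hz, (mem_center_iff' y).1 hz]
      · simp [hy, hz, mt (mem_center_iff' y).2 hz]
    · rw [extendByZero_notMem C f hy, if_neg fun h => hy h.1]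
  have hval : ∀ g : G, indFun C f g = if Aniso g then 2 else 0 := by
    intro g
    simp only [indFun, hext]
    rw [Finset.sum_boole]
    by_cases hg : Aniso g
    · rw [if_pos hg]
      obtain ⟨x₀, hx₀, hz₀⟩ := hT.exists_conj hg
      set c := x₀ * g * x₀⁻¹ with hc
      obtain ⟨han, he⟩ := hT.aniso hx₀ hz₀
      have hreg := han.regular hT.odd
      set N := Subgroup.normalizer (cent c : Set G)
      have hcount : (Finset.univ.filter fun x : G => x⁻¹ * g * x ∈ C ∧ x⁻¹ * g * x ∉ Subgroup.center G).card =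
          Nat.card N := by
        rw [← Fintype.card_subtype, ← Nat.card_eq_fintype_card]
        have key : ∀ x : G, (x⁻¹ * g * x ∈ C ∧ x⁻¹ * g * x ∉ Subgroup.center G) ↔ (x₀ * x)⁻¹ ∈ N := by
          intro x
          have e : (x₀ * x)⁻¹ * c * (x₀ * x) = x⁻¹ * g * x := by rw [hc]; group
          rw [mem_normalizer_cent_iff hreg, inv_inv, e]
          constructor
          · rintro ⟨h1, -⟩
            rw [← he] at h1
            refine eq_or_eq_inv_of_trace hreg h1 ?_
            rw [← e]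
            simpa using trace_conj (x₀ * x)⁻¹ c
          · rintro (h | h) <;> rw [h]
            · exact ⟨hx₀, hz₀⟩
            · exact ⟨inv_mem hx₀, fun hh => hz₀ (by simpa using inv_mem hh)⟩
        exact Nat.card_congr
          { toFun := fun x => ⟨(x₀ * x.1)⁻¹, (key x.1).1 x.2⟩
            invFun := fun n => ⟨x₀⁻¹ * (n.1)⁻¹, (key _).2 (by simpa using n.2)⟩
            left_inv := fun x => Subtype.ext (by simp)
            right_inv := fun n => Subtype.ext (by simp) }
      rw [hcount, card_normalizer_cent hreg, he, hT.card]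
      push_cast
      field_simp
    · rw [if_neg hg]
      rw [Finset.filter_false_of_mem, Finset.card_empty, Nat.cast_zero, mul_zero]
      rintro x - ⟨h1, h2⟩
      refine hg ((aniso_conj_iff x⁻¹ g).1 ?_)
      rw [inv_inv]
      exact (hT.aniso h1 h2).1
  have h := frobenius_reciprocity' C f hφ
  rw [classInner, classInner, card_group, hT.card] at h
  simp only [hval] at h
  have hl : ∀ g : G, φ g * conj (if Aniso g then (2 : ℂ) else 0) = 2 * if Aniso g then φ g else 0 := by
    intro g; split_ifs <;> simp [Complex.conj_ofNat] <;> ring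
  have hr : ∀ c : C, φ c * conj (f c) = if (c : G) = 1 ∨ (c : G) = -1 then 0 else φ c := by
    intro c; simp only [hf]; split_ifs <;> simp
  rw [Finset.sum_congr rfl fun g _ => hl g, Finset.sum_congr rfl fun c _ => hr c, ← Finset.mul_sum] at h
  have hq0 : q ≠ 0 := Nat.cast_ne_zero.2 Fintype.card_ne_zero
  have hq1 : q - 1 ≠ 0 := GLTwo.card_sub_one_ne (F := F)
  have hq2 : q + 1 ≠ 0 := by rw [hq]; exact_mod_cast Nat.succ_ne_zero (Fintype.card F)
  have hq3 : q ^ 2 - 1 ≠ 0 := by
    rw [show q ^ 2 - 1 = (q - 1) * (q + 1) by ring]; exact mul_ne_zero hq1 hq2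
  push_cast at h
  rw [← hq] at h
  generalize (∑ g : G, if Aniso g then φ g else 0) = X at h ⊢
  generalize (∑ c : C, if (c : G) = 1 ∨ (c : G) = -1 then 0 else φ c) = Y at h ⊢
  field_simp at h ⊢
  apply mul_right_cancel₀ hq2
  linear_combination h

/-! ### The torus values of cuspidal characters -/

theorem exists_sign {χ : G → ℂ} (hχ : IsIrrCharacter G χ) :
    ∃ ω : ℂ, (ω = 1 ∨ ω = -1) ∧ ∀ g : G, χ ((-1 : G) * g) = ω * χ g := by
  have hd := irr_degree_ne_zero hχ
  have hz : (-1 : G) ∈ Subgroup.center G := neg_one_mem_center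
  refine ⟨χ (-1) / χ 1, ?_, fun g => ?_⟩
  · have h := central_mul hχ hz (-1)
    rw [show (-1 : G) * -1 = 1 from Subtype.ext (by simp)] at h
    refine mul_self_eq_one_iff.1 ?_
    field_simp
    linear_combination -h
  · have h := central_mul hχ hz g
    rw [← Subgroup.mem_center_iff.1 hz g]
    field_simp
    linear_combination h

theorem sum_normSq_uSL (χ : G → ℂ) :
    ∑ b : F, χ (uSL b) * conj (χ (uSL b)) =
      (Fintype.card F : ℂ) * ∑ a : F, ures uSL χ a * conj (ures uSL χ a) := by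
  have hq : (Fintype.card F : ℂ) ≠ 0 := Nat.cast_ne_zero.2 Fintype.card_ne_zero
  have h : ∀ b : F, χ (uSL b) * conj (χ (uSL b)) =
      ∑ a : F, conj (ures uSL χ a) * (χ (uSL b) * conj (psi F (a * b))) := by
    intro b
    nth_rewrite 2 [ures_expand uSL χ b]
    rw [map_sum, Finset.mul_sum]
    refine Finset.sum_congr rfl fun a _ => ?_
    rw [map_mul]; ring
  rw [Finset.sum_congr rfl fun b _ => h b, Finset.sum_comm, Finset.mul_sum]
  refine Finset.sum_congr rfl fun a _ => ?_
  rw [← Finset.mul_sum]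
  simp only [ures]
  field_simp

theorem Torus.exists_z (hT : Torus C) :
    ∃ z : C, (z : G) = -1 ∧ z ^ 2 = 1 ∧ z ≠ 1 := by
  obtain ⟨c, -, -, ho⟩ := hT.exists_noncentral
  obtain ⟨m, hm⟩ : ∃ m, Fintype.card F + 1 = 2 * m := by
    have := card_mod_two_eq_one hT.odd
    exact ⟨(Fintype.card F + 1) / 2, by omega⟩
  have hfour := hT.four_le
  have h2 : (c ^ m) ^ 2 = 1 := by rw [← pow_mul, mul_comm, ← hm, ← ho, pow_orderOf_eq_one]
  have h1 : c ^ m ≠ 1 := fun e => by
    have := Nat.le_of_dvd (by omega) (orderOf_dvd_of_pow_eq_one e)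
    omega
  refine ⟨c ^ m, ?_, h2, h1⟩
  refine eq_neg_one_of_mul_self (Ring.two_ne_zero hT.odd) ?_ fun e => h1 (Subtype.ext e)
  rw [← Subgroup.coe_mul, ← sq, h2, Subgroup.coe_one]

theorem Torus.sum_C (hT : Torus C) [Fintype C] (φ : G → ℂ) :
    ∑ c : C, φ c = φ 1 + φ (-1) + ∑ c : C, if (c : G) = 1 ∨ (c : G) = -1 then 0 else φ c := by
  classical
  obtain ⟨z, hz, -, hz1⟩ := hT.exists_z
  have hset : (Finset.univ.filter fun c : C => (c : G) = 1 ∨ (c : G) = -1) = {1, z} := by
    ext c
    simp only [Finset.mem_filter, Finset.mem_univ, true_and, Finset.mem_insert, Finset.mem_singleton]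
    constructor
    · rintro (h | h)
      · exact Or.inl (Subtype.ext h)
      · exact Or.inr (Subtype.ext (h.trans hz.symm))
    · rintro (rfl | rfl)
      · exact Or.inl rfl
      · exact Or.inr hz
  rw [← Finset.sum_filter_add_sum_filter_not Finset.univ (fun c : C => (c : G) = 1 ∨ (c : G) = -1),
    hset, Finset.sum_pair (Ne.symm hz1), hz, Subgroup.coe_one]
  congr 1
  rw [Finset.sum_filter]
  exact Finset.sum_congr rfl fun c _ => by split_ifs <;> first | rfl | contradiction

theorem Torus.inv_value (hT : Torus C) {χ : G → ℂ} (hχ : IsClassFunction G χ) (c : C) :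
    χ ((c : G)⁻¹) = χ c := by
  by_cases hz : (c : G) ∈ Subgroup.center G
  · rcases (mem_center_iff' _).1 hz with h | h <;> rw [h]
    · rw [inv_one]
    · rw [show (-1 : G)⁻¹ = -1 from inv_eq_of_mul_eq_one_right (Subtype.ext (by simp))]
  · obtain ⟨w, hw⟩ := exists_inverting ((hT.aniso c.2 hz).1.regular hT.odd)
    rw [← hw, hχ]

/-- The deficiencies of a cuspidal character on the torus. -/
theorem Cusp.torus (hT : Torus C) [Fintype C] {χ : G → ℂ} (hc : Cusp χ) (hχ : IsIrrCharacter G χ)
    {k : ℕ} (hk : χ 1 = (k : ℂ) * ((Fintype.card F : ℂ) - 1) / 2)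
    {ω : ℂ} (hω : ω = 1 ∨ ω = -1) (hω' : ∀ g : G, χ ((-1 : G) * g) = ω * χ g)
    {z : C} (hz : (z : G) = -1) :
    ∃ e : IrrCharacter C → ℤ,
      ∑ ψ, e ψ = (k : ℤ) ∧ ∑ ψ, e ψ ^ 2 = (k : ℤ) ^ 2 - 2 * k + 2 ∧
      (∀ ψ : IrrCharacter C, e ψ ≠ 0 → (ψ : C → ℂ) z = ω) ∧
      (∀ ψ ψ' : IrrCharacter C, (∀ c, (ψ' : C → ℂ) c = (ψ : C → ℂ) c⁻¹) → e ψ' = e ψ) ∧
      (∀ ψ : IrrCharacter C, (∀ c, (ψ : C → ℂ) c = 1) → e ψ = 0) ∧
      ∀ c : C, (c : G) ∉ Subgroup.center G → χ c = -∑ ψ, (e ψ : ℂ) * (ψ : C → ℂ) c := by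
  classical
  set q : ℂ := (Fintype.card F : ℂ) with hq
  have hq0 : q ≠ 0 := Nat.cast_ne_zero.2 Fintype.card_ne_zero
  have hq1 : q - 1 ≠ 0 := GLTwo.card_sub_one_ne (F := F)
  have hq2 : q + 1 ≠ 0 := by rw [hq]; exact_mod_cast Nat.succ_ne_zero (Fintype.card F)
  have hcl := isClassFunction_of_isCharacter (isCharacter_of_isIrr hχ)
  have hsplit : ∀ a : Fˣ, (a : F) ^ 2 ≠ 1 → χ (tri a 0) = 0 := hc.split hcl
  set d : ℂ := χ 1 with hd
  have hdr : conj d = d := by
    obtain ⟨n, hn⟩ := exists_nat_degree (isCharacter_of_isIrr hχ)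
    rw [hd, hn, Complex.conj_natCast]
  have hωr : conj ω = ω := by rcases hω with rfl | rfl <;> simp
  have hωω : ω * ω = 1 := by rcases hω with rfl | rfl <;> norm_num
  have hneg1 : χ (-1) = ω * d := by
    have h := hω' 1
    rwa [mul_one] at h
  have hres : ∀ a : F, ures uSL χ a * conj (ures uSL χ a) = ures uSL χ a := by
    intro a
    obtain ⟨n, hn, hn1, -⟩ := hc.bound hχ a
    rw [hn, Complex.conj_natCast]
    interval_cases n <;> norm_num
  have hsum_ures : ∑ a : F, ures uSL χ a = d := by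
    rw [hd, ← AddChar.map_zero_eq_one (uSL (F := F)), ures_expand uSL χ 0]
    exact Finset.sum_congr rfl fun a _ => by rw [mul_zero, AddChar.map_zero_eq_one, mul_one]
  have hu2 : ∑ b ∈ Finset.univ.erase (0 : F), χ (uSL b) * conj (χ (uSL b)) = q * d - d * d := by
    rw [Finset.sum_erase_eq_sub (Finset.mem_univ _), sum_normSq_uSL, Finset.sum_congr rfl fun a _ => hres a,
      hsum_ures, AddChar.map_zero_eq_one, ← hd, hdr]
  have hu1 : ∑ b ∈ Finset.univ.erase (0 : F), χ (uSL b) = -d := by
    have h0 := ures_zero uSL χ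
    rw [hc.ures_zero' hχ, eq_comm, mul_eq_zero] at h0
    rw [Finset.sum_erase_eq_sub (Finset.mem_univ _), h0.resolve_left (inv_ne_zero hq0),
      AddChar.map_zero_eq_one, zero_sub]
  -- the two sums over the non-central elements of the torus
  set S2 : ℂ := ∑ c : C, if (c : G) = 1 ∨ (c : G) = -1 then 0 else χ c * conj (χ c) with hS2
  set S1 : ℂ := ∑ c : C, if (c : G) = 1 ∨ (c : G) = -1 then 0 else χ c with hS1
  have key : ∀ φ : G → ℂ, IsClassFunction G φ → (∀ a : Fˣ, (a : F) ^ 2 ≠ 1 → φ (tri a 0) = 0) →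
      ∑ g : G, φ g = φ 1 + φ (-1) + (q + 1) *
          (∑ b ∈ Finset.univ.erase (0 : F), (φ (uSL b) + φ ((-1 : G) * uSL b))) +
        q * (q - 1) / 2 * ∑ c : C, if (c : G) = 1 ∨ (c : G) = -1 then 0 else φ c := by
    intro φ hφ hφs
    rw [← sum_not_aniso hT.odd hφ hφs, ← hT.sum_aniso hφ, ← Finset.sum_add_distrib]
    exact Finset.sum_congr rfl fun g _ => by split_ifs <;> simp
  have e2 : q * (q ^ 2 - 1) = 2 * d * d + 2 * (q + 1) * (q * d - d * d) + q * (q - 1) / 2 * S2 := by
    have h := key (fun g => χ g * conj (χ g)) (fun g x => by simp only [hcl g x])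
      (fun a ha => by simp [hsplit a ha])
    have hn := classInner_irr_self hχ
    rw [classInner, inv_mul_eq_one₀ (Nat.cast_ne_zero.2 Nat.card_pos.ne'), card_group, ← hq] at hn
    rw [← hn] at h
    have hcomb : ∀ b : F, χ ((-1 : G) * uSL b) * conj (χ ((-1 : G) * uSL b)) =
        χ (uSL b) * conj (χ (uSL b)) := by
      intro b
      rw [hω', map_mul, hωr]
      linear_combination χ (uSL b) * conj (χ (uSL b)) * hωω
    simp only [hcomb, Finset.sum_add_distrib, hu2, hneg1, ← hd, map_mul, hωr, hdr] at h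
    linear_combination h + d * d * hωω
  have e1 : 0 = d + ω * d + (q + 1) * (-d + ω * -d) + q * (q - 1) / 2 * S1 := by
    have h := key χ hcl hsplit
    have hn := hc.inner_triv hχ
    rw [← classInner_conj_symm, starRingEnd_apply, star_eq_zero, classInner, mul_eq_zero] at hn
    simp only [triv, map_one, mul_one] at hn
    rw [hn.resolve_left (inv_ne_zero (Nat.cast_ne_zero.2 Nat.card_pos.ne'))] at h
    simp only [hω', Finset.sum_add_distrib, ← Finset.mul_sum, hu1, hneg1, ← hd] at h
    linear_combination h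
  -- expansion on the torus
  have hcomm := hT.comm
  set f : C → ℂ := fun c => χ c with hf
  have hfcl : IsClassFunction C f := fun g h => by rw [hcomm h g, mul_inv_cancel_right]
  have hfch : IsCharacter C f := isCharacter_restrict C (isCharacter_of_isIrr hχ)
  choose n hn using fun ψ : IrrCharacter C => exists_nat_classInner hfch (isCharacter_of_isIrr ψ.2)
  have hexp : f = ∑ ψ : IrrCharacter C, ((n ψ : ℤ) : ℂ) • (ψ : C → ℂ) := by
    conv_lhs => rw [classFunction_expansion hfcl]
    exact Finset.sum_congr rfl fun ψ _ => by rw [hn]; push_cast; rfl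
  have hdeg1 : ∀ ψ : IrrCharacter C, (ψ : C → ℂ) 1 = 1 := degree_one_of_comm hcomm
  have hmul : ∀ (ψ : IrrCharacter C) (a b : C), (ψ : C → ℂ) (a * b) = (ψ : C → ℂ) a * (ψ : C → ℂ) b :=
    fun ψ a b => linear_mul (isCharacter_of_isIrr ψ.2) (hdeg1 ψ) a b
  have hz2 : z * z = 1 := Subtype.ext (by rw [Subgroup.coe_mul, hz]; exact Subtype.ext (by simp))
  have hpm : ∀ ψ : IrrCharacter C, (ψ : C → ℂ) z = 1 ∨ (ψ : C → ℂ) z = -1 := fun ψ =>
    mul_self_eq_one_iff.1 (by rw [← hmul, hz2, hdeg1])
  have hfz : ∀ c : C, f (z * c) = ω * f c := fun c => by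
    show χ ((z * c : C) : G) = _
    rw [Subgroup.coe_mul, hz, hω']
  have hoff : ∀ ψ : IrrCharacter C, (ψ : C → ℂ) z ≠ ω → n ψ = 0 := by
    intro ψ hne
    have hψz : (ψ : C → ℂ) z = -ω := by
      rcases hω with e1 | e1 <;> rcases hpm ψ with e2 | e2 <;> rw [e1] at hne ⊢ <;> rw [e2] at hne ⊢
      all_goals first
        | exact absurd rfl hne
        | norm_num
    have h : ∑ c : C, f c * conj ((ψ : C → ℂ) c) = ω * conj (-ω) * ∑ c : C, f c * conj ((ψ : C → ℂ) c) := by
      conv_lhs => rw [← Equiv.sum_comp (Equiv.mulLeft z)]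
      rw [Finset.mul_sum]
      refine Finset.sum_congr rfl fun c _ => ?_
      rw [Equiv.coe_mulLeft, hfz, hmul, hψz, map_mul]
      ring
    rw [map_neg, hωr, mul_neg, hωω] at h
    have h0 : ∑ c : C, f c * conj ((ψ : C → ℂ) c) = 0 := by linear_combination h / 2
    have := hn ψ
    rw [classInner, h0, mul_zero] at this
    exact_mod_cast this.symm
  set e : IrrCharacter C → ℤ := fun ψ => (if (ψ : C → ℂ) z = ω then (k : ℤ) else 0) - n ψ with he
  have hreg : ∀ c : C, ∑ ψ : IrrCharacter C, (ψ : C → ℂ) c = if c = 1 then q + 1 else 0 := by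
    intro c
    have h := sum_degree_mul_irr c
    rw [hT.card, Finset.sum_congr rfl fun ψ _ => by rw [hdeg1, one_mul]] at h
    push_cast at h
    convert h using 1
  have hS : ∀ c : C, ∑ ψ : IrrCharacter C, (if (ψ : C → ℂ) z = ω then (ψ : C → ℂ) c else 0) =
      ((if c = 1 then q + 1 else 0) + ω * if z * c = 1 then q + 1 else 0) / 2 := by
    intro c
    rw [← hreg c, ← hreg (z * c), Finset.mul_sum, ← Finset.sum_add_distrib, Finset.sum_div]
    refine Finset.sum_congr rfl fun ψ _ => ?_
    rw [hmul]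
    rcases hω with rfl | rfl <;> rcases hpm ψ with h | h <;> rw [h] <;> norm_num
  have hz1 : z ≠ 1 := fun h => neg_one_ne_one' hT.odd (by rw [← hz, h, Subgroup.coe_one])
  have hsupp : ∀ ψ : IrrCharacter C, (if (ψ : C → ℂ) z = ω then (k : ℂ) else 0) * n ψ = k * n ψ := by
    intro ψ
    split_ifs with h
    · rfl
    · rw [hoff ψ h, Nat.cast_zero, mul_zero, mul_zero]
  have hnsum : ∑ ψ : IrrCharacter C, (n ψ : ℂ) = d := by
    have h := congrFun hexp 1
    simp only [Finset.sum_apply, Pi.smul_apply, smul_eq_mul, hdeg1, mul_one, hf, Subgroup.coe_one] at h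
    rw [hd, h]; push_cast; rfl
  have hS_one : ∑ ψ : IrrCharacter C, (if (ψ : C → ℂ) z = ω then (1 : ℂ) else 0) = (q + 1) / 2 := by
    have h := hS 1
    simp only [hdeg1, if_true, mul_one, if_neg hz1, mul_zero, add_zero] at h
    exact h
  have hkS : ∑ ψ : IrrCharacter C, (if (ψ : C → ℂ) z = ω then (k : ℂ) else 0) = k * ((q + 1) / 2) := by
    rw [← hS_one, Finset.mul_sum]
    exact Finset.sum_congr rfl fun ψ _ => by split_ifs <;> simp
  have he_cast : ∀ ψ : IrrCharacter C, (e ψ : ℂ) = (if (ψ : C → ℂ) z = ω then (k : ℂ) else 0) - n ψ := by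
    intro ψ
    simp only [he]
    split_ifs <;> simp
  have hN2 : ((∑ ψ : IrrCharacter C, (n ψ : ℤ) ^ 2 : ℤ) : ℂ) = (q + 1)⁻¹ * (2 * d * d + S2) := by
    rw [← sum_sq_coeff, ← hexp, classInner, hT.card, hS2]
    push_cast
    rw [← hq]
    congr 1
    rw [hT.sum_C (fun g => χ g * conj (χ g)), hneg1, ← hd, map_mul, hωr, hdr]
    linear_combination d * d * hωω
  refine ⟨e, ?_, ?_, ?_, ?_, ?_, ?_⟩
  · have h : ((∑ ψ, e ψ : ℤ) : ℂ) = ((k : ℤ) : ℂ) := by
      push_cast
      simp only [he_cast]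
      rw [Finset.sum_sub_distrib, hkS, hnsum, hk]
      ring
    exact_mod_cast h
  · have h : ((∑ ψ, e ψ ^ 2 : ℤ) : ℂ) = (((k : ℤ) ^ 2 - 2 * k + 2 : ℤ) : ℂ) := by
      push_cast
      simp only [he_cast]
      have hpt : ∀ ψ : IrrCharacter C, ((if (ψ : C → ℂ) z = ω then (k : ℂ) else 0) - n ψ) ^ 2 =
          (k : ℂ) * (if (ψ : C → ℂ) z = ω then (k : ℂ) else 0) - 2 * k * n ψ + (n ψ : ℂ) ^ 2 := by
        intro ψ
        have := hsupp ψ
        have hsq : (if (ψ : C → ℂ) z = ω then (k : ℂ) else 0) ^ 2 =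
            (k : ℂ) * (if (ψ : C → ℂ) z = ω then (k : ℂ) else 0) := by split_ifs <;> ring
        linear_combination hsq - 2 * this
      push_cast at hN2
      rw [Finset.sum_congr rfl fun ψ _ => hpt ψ, Finset.sum_add_distrib, Finset.sum_sub_distrib,
        ← Finset.mul_sum, ← Finset.mul_sum, hkS, hnsum, hN2]
      rw [hk] at e2 ⊢
      generalize S2 = T at e2 ⊢
      field_simp at e2 ⊢
      refine mul_left_cancel₀ (mul_ne_zero hq0 hq1) ?_
      linear_combination -2 * e2
    exact_mod_cast h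
  · intro ψ hψ
    by_contra hne
    apply hψ
    simp only [he, if_neg hne, hoff ψ hne]
    simp
  · intro ψ ψ' h
    have hzi : z⁻¹ = z := inv_eq_of_mul_eq_one_right hz2
    have hn' : n ψ' = n ψ := by
      have : classInner f (ψ' : C → ℂ) = classInner f (ψ : C → ℂ) := by
        simp only [classInner]
        congr 1
        refine Fintype.sum_equiv (Equiv.inv C) _ _ fun c => ?_
        rw [h]
        congr 1
        exact (hT.inv_value hcl c).symm
      rw [hn, hn] at this
      exact_mod_cast this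
    simp only [he, hn', h z, hzi]
  · intro ψ hψ
    simp only [he, hψ z]
    rcases hω with hω1 | hω1
    · subst hω1
      have hn1 : ((n ψ : ℕ) : ℂ) = k := by
        rw [← hn ψ, classInner, hT.card, hf]
        simp only [hψ, map_one, mul_one]
        rw [hT.sum_C χ, hneg1, ← hd, ← hS1]
        push_cast
        rw [← hq]
        rw [hk] at e1 ⊢
        generalize S1 = T at e1 ⊢
        field_simp at e1 ⊢
        refine mul_left_cancel₀ (mul_ne_zero hq0 hq1) ?_
        linear_combination -2 * e1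
      have : n ψ = k := by exact_mod_cast hn1
      simp [this]
    · subst hω1
      have h1 : (ψ : C → ℂ) z ≠ -1 := by rw [hψ z]; norm_num
      rw [if_neg (by norm_num : (1 : ℂ) ≠ -1), hoff ψ h1]
      simp
  · intro c hcz
    have h := congrFun hexp c
    simp only [Finset.sum_apply, Pi.smul_apply, smul_eq_mul, hf] at h
    push_cast at h
    have hc1 : c ≠ 1 := fun e => hcz (by rw [e]; exact Subgroup.one_mem _)
    have hc2 : z * c ≠ 1 := fun e => hcz (by
      rw [eq_inv_of_mul_eq_one_right e, inv_eq_of_mul_eq_one_right hz2, hz]; exact neg_one_mem_center)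
    have h0 := hS c
    simp only [if_neg hc1, if_neg hc2, mul_zero, add_zero, zero_div] at h0
    rw [h, eq_comm, neg_eq_iff_add_eq_zero, ← Finset.sum_add_distrib, ← mul_zero (k : ℂ), ← h0,
      Finset.mul_sum]
    refine Finset.sum_congr rfl fun ψ _ => ?_
    rw [he_cast]
    split_ifs <;> ring

end CfsgLib.RankOne.SLTwo
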