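import Cfsg.Agent.Lib.RankOne.SLElliptic

/-!
Cuspidal characters of `SL₂(q)`, `q` odd, and characters of a non-split torus.
-/

set_option autoImplicit false
set_option linter.unusedSectionVars false

namespace CfsgLib.RankOne.SLTwo

open Cfsg CfsgLib.Char CfsgLib.RankOne CfsgLib.SL2
open scoped ComplexConjugate MatrixGroups

universe u

variable {F : Type u} [Field F] [Fintype F] [DecidableEq F]

local notation "G" => Matrix.SpecialLinearGroup (Fin 2) F

variable {C : Subgroup (Matrix.SpecialLinearGroup (Fin 2) F)}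

/-- An integral vector with equal sum and sum of squares is an indicator. -/
theorem indicator_of_sum_sq {ι : Type*} [Fintype ι] [DecidableEq ι] (e : ι → ℤ) {k : ℕ}
    (h1 : ∑ i, e i = (k : ℤ)) (h2 : ∑ i, e i ^ 2 = (k : ℤ)) :
    (∀ i, e i = if i ∈ (Finset.univ.filter fun i => e i ≠ 0) then 1 else 0) ∧
      (Finset.univ.filter fun i => e i ≠ 0).card = k := by
  have h0 : ∑ i, (e i ^ 2 - e i) = 0 := by rw [Finset.sum_sub_distrib, h1, h2, sub_self]
  have hnn : ∀ i ∈ Finset.univ, 0 ≤ e i ^ 2 - e i := fun i _ => by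
    rcases le_or_gt (e i) 0 with h | h <;> nlinarith
  have hz := (Finset.sum_eq_zero_iff_of_nonneg hnn).1 h0
  have h01 : ∀ i, e i = if i ∈ (Finset.univ.filter fun i => e i ≠ 0) then 1 else 0 := by
    intro i
    by_cases h : e i = 0
    · simp [h]
    · rw [if_pos (by simp [h])]
      refine mul_left_cancel₀ h ?_
      linear_combination hz i (Finset.mem_univ i)
  refine ⟨h01, ?_⟩
  rw [Finset.sum_congr rfl fun i _ => h01 i, Finset.sum_boole, Finset.filter_univ_mem] at h1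
  exact_mod_cast h1

/-- The composite of a homomorphism on the torus with inversion. -/
theorem Torus.exists_inv_char (hT : Torus C) [Fintype C] (θ : C →* ℂˣ) :
    ∃ ψ : IrrCharacter C, ∀ c : C, (ψ : C → ℂ) c = (θ c⁻¹ : ℂ) := by
  refine ⟨⟨_, isIrrCharacter_monoidHom θ⁻¹⟩, fun c => ?_⟩
  show ((θ⁻¹ c : ℂˣ) : ℂ) = _
  rw [MonoidHom.inv_apply, map_inv]

theorem Torus.linear (hT : Torus C) [Fintype C] (ψ : IrrCharacter C) :
    ∃ θ : C →* ℂˣ, ∀ c, (θ c : ℂ) = (ψ : C → ℂ) c :=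
  ⟨linearHom (isCharacter_of_isIrr ψ.2) (degree_one_of_comm hT.comm ψ), fun c =>
    linearHom_apply _ _ c⟩

/-- A non-trivial character of order two of the torus is `-1` at a generator. -/
theorem Torus.quad_apply (hT : Torus C) {θ : C →* ℂˣ} (h2 : ∀ c, θ c ^ 2 = 1) (h1 : θ ≠ 1)
    {g : C} (hg : ∀ x : C, x ∈ Subgroup.zpowers g) : (θ g : ℂ) = -1 := by
  have h : (θ g : ℂ) * (θ g : ℂ) = 1 := by rw [← Units.val_mul, ← sq, h2, Units.val_one]
  refine (mul_self_eq_one_iff.1 h).resolve_left fun e => h1 (MonoidHom.ext fun x => ?_)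
  obtain ⟨n, rfl⟩ := hg x
  have e' : θ g = 1 := Units.ext e
  simp [map_zpow, e']

theorem Torus.quad_unique (hT : Torus C) {θ θ' : C →* ℂˣ} (h2 : ∀ c, θ c ^ 2 = 1) (h1 : θ ≠ 1)
    (h2' : ∀ c, θ' c ^ 2 = 1) (h1' : θ' ≠ 1) : θ = θ' := by
  obtain ⟨g, hg, -, -⟩ := hT.exists_noncentral
  refine MonoidHom.ext fun x => ?_
  obtain ⟨n, rfl⟩ := hg x
  simp only [map_zpow]
  rw [Units.ext ((hT.quad_apply h2 h1 hg).trans (hT.quad_apply h2' h1' hg).symm)]

/-- The values of a cuspidal character of degree `(q - 1) / 2` on the torus. -/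
theorem Cusp.torus_half (hT : Torus C) [Fintype C] {χ : G → ℂ} (hc : Cusp χ)
    (hχ : IsIrrCharacter G χ) (hd : χ 1 = ((Fintype.card F : ℂ) - 1) / 2) :
    ∃ θ : C →* ℂˣ, θ ≠ 1 ∧ (∀ c, θ c ^ 2 = 1) ∧
      ∀ c : C, (c : G) ∉ Subgroup.center G → χ c = -(θ c : ℂ) := by
  classical
  obtain ⟨ω, hω, hω'⟩ := exists_sign hχ
  obtain ⟨z, hz, -, -⟩ := hT.exists_z
  obtain ⟨e, h1, h2, -, h4, h5, h6⟩ := hc.torus hT hχ (k := 1) (by rw [hd]; simp) hω hω' hz
  obtain ⟨h01, hcard⟩ := indicator_of_sum_sq e h1 (h2.trans (by norm_num))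
  obtain ⟨a, ha⟩ := Finset.card_eq_one.1 hcard
  obtain ⟨θ, hθ⟩ := hT.linear a
  have hea : e a = 1 := by rw [h01, ha]; simp
  obtain ⟨a', ha'⟩ := hT.exists_inv_char θ
  have hinv : a' = a := by
    have : e a' = 1 := by rw [h4 a a' fun c => by rw [ha', hθ], hea]
    have hm : a' ∈ Finset.univ.filter fun i => e i ≠ 0 := by simp [this]
    rw [ha] at hm
    exact Finset.mem_singleton.1 hm
  refine ⟨θ, ?_, ?_, fun c hc' => ?_⟩
  · intro hone
    have h0 := h5 a fun c => by rw [← hθ, hone]; simp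
    omega
  · intro c
    have h : θ c⁻¹ = θ c := Units.ext (by rw [← ha', hinv, hθ])
    rw [map_inv] at h
    rw [sq]
    nth_rewrite 1 [← h]
    exact inv_mul_cancel _
  · rw [h6 c hc', hθ]
    congr 1
    rw [Finset.sum_eq_single a (fun b _ hb => by rw [h01, if_neg (by rw [ha]; simpa using hb)]; simp)
      (by simp), hea]
    simp

/-- The values of a cuspidal character of degree `q - 1` on the torus. -/
theorem Cusp.torus_full (hT : Torus C) [Fintype C] {χ : G → ℂ} (hc : Cusp χ)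
    (hχ : IsIrrCharacter G χ) (hd : χ 1 = (Fintype.card F : ℂ) - 1) :
    ∃ θ : C →* ℂˣ, (∃ c, θ c ^ 2 ≠ 1) ∧
      (∀ c : C, (c : G) ∉ Subgroup.center G → χ c = -((θ c : ℂ) + ((θ c)⁻¹ : ℂˣ))) ∧
      (∀ c : C, (c : G) = -1 → ∀ g : G, χ ((c : G) * g) = (θ c : ℂ) * χ g) := by
  classical
  obtain ⟨ω, hω, hω'⟩ := exists_sign hχ
  obtain ⟨z, hz, -, -⟩ := hT.exists_z
  obtain ⟨e, h1, h2, h3, h4, h5, h6⟩ := hc.torus hT hχ (k := 2) (by rw [hd]; push_cast; ring) hω hω' hz
  obtain ⟨h01, hcard⟩ := indicator_of_sum_sq e h1 (h2.trans (by norm_num))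
  obtain ⟨a, b, hab, hS⟩ := Finset.card_eq_two.1 hcard
  have hmem : ∀ x, e x = 1 → x = a ∨ x = b := by
    intro x hx
    have hm : x ∈ Finset.univ.filter fun i => e i ≠ 0 := by simp [hx]
    rw [hS] at hm
    simpa using hm
  have hea : e a = 1 := by rw [h01, hS]; simp
  have heb : e b = 1 := by rw [h01, hS]; simp
  obtain ⟨θ, hθ⟩ := hT.linear a
  obtain ⟨θ', hθ'⟩ := hT.linear b
  obtain ⟨a', ha'⟩ := hT.exists_inv_char θ
  obtain ⟨b', hb'⟩ := hT.exists_inv_char θ'
  have hne1 : ∀ (x : IrrCharacter C) (φ : C →* ℂˣ), (∀ c, (φ c : ℂ) = (x : C → ℂ) c) → e x = 1 → φ ≠ 1 := by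
    intro x φ hφ hx hone
    have h0 := h5 x fun c => by rw [← hφ, hone]; simp
    omega
  have hsq : ∀ (x x' : IrrCharacter C) (φ : C →* ℂˣ), (∀ c, (φ c : ℂ) = (x : C → ℂ) c) →
      (∀ c, (x' : C → ℂ) c = (φ c⁻¹ : ℂ)) → x' = x → ∀ c, φ c ^ 2 = 1 := by
    intro x x' φ hφ hx' he c
    have h : φ c⁻¹ = φ c := Units.ext (by rw [← hx', he, hφ])
    rw [map_inv] at h
    rw [sq]
    nth_rewrite 1 [← h]
    exact inv_mul_cancel _
  have hab' : a' = b := by
    refine (hmem a' (by rw [h4 a a' fun c => by rw [ha', hθ], hea])).resolve_left fun hh => ?_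
    have hb2 : b' = b := by
      refine (hmem b' (by rw [h4 b b' fun c => by rw [hb', hθ'], heb])).resolve_left fun hh' => hab ?_
      refine Subtype.ext (funext fun c => ?_)
      rw [← hθ, ← inv_inv c, ← ha', hh, ← hh', hb', inv_inv, hθ']
    have := hT.quad_unique (hsq a a' θ hθ ha' hh) (hne1 a θ hθ hea) (hsq b b' θ' hθ' hb' hb2)
      (hne1 b θ' hθ' heb)
    exact hab (Subtype.ext (funext fun c => by rw [← hθ, this, hθ']))
  refine ⟨θ, ?_, fun c hc' => ?_, fun c hc' g => ?_⟩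
  · by_contra hn
    push Not at hn
    refine hab ((?_ : a = a').trans hab')
    refine Subtype.ext (funext fun c => ?_)
    rw [ha', ← hθ, map_inv, inv_eq_of_mul_eq_one_right (by rw [← sq]; exact hn c)]
  · rw [h6 c hc']
    congr 1
    rw [← Finset.sum_subset (Finset.subset_univ ({a, b} : Finset (IrrCharacter C))) fun x _ hx => by
      rw [h01, if_neg (by rw [hS]; exact hx)]; simp, Finset.sum_pair hab, hea, heb, hθ,
      show (((θ c)⁻¹ : ℂˣ) : ℂ) = (b : C → ℂ) c by rw [← map_inv, ← ha', hab']]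
    simp
  · rw [hc', hω', hθ, show c = z from Subtype.ext (hc'.trans hz.symm), h3 a (by omega)]

/-- A cuspidal character of degree `q - 1` is determined by its sign and its values on the torus. -/
theorem Cusp.ext_full (hT : Torus C) {χ χ' : G → ℂ} (hc : Cusp χ) (hχ : IsIrrCharacter G χ)
    (hc' : Cusp χ') (hχ' : IsIrrCharacter G χ') (hd : χ 1 = (Fintype.card F : ℂ) - 1)
    (hd' : χ' 1 = (Fintype.card F : ℂ) - 1) {ω : ℂ}
    (hω : ∀ g, χ ((-1 : G) * g) = ω * χ g) (hω' : ∀ g, χ' ((-1 : G) * g) = ω * χ' g)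
    (h : ∀ c : C, (c : G) ∉ Subgroup.center G → χ c = χ' c) : χ = χ' := by
  have hcl := isClassFunction_of_isCharacter (isCharacter_of_isIrr hχ)
  have hcl' := isClassFunction_of_isCharacter (isCharacter_of_isIrr hχ')
  have hall : ∀ {ψ : G → ℂ}, Cusp ψ → IsIrrCharacter G ψ → ψ 1 = (Fintype.card F : ℂ) - 1 →
      ∀ a : F, a ≠ 0 → ures uSL ψ a = 1 := by
    intro ψ hψ hψ' hψd
    rcases hψ.shape hψ' with ⟨-, h⟩ | ⟨-, e, -⟩
    · exact h
    · exact absurd (show (Fintype.card F : ℂ) - 1 = 0 by rw [hψd] at e; linear_combination 2 * e)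
        GLTwo.card_sub_one_ne
  have hu : ∀ b : F, χ (uSL b) = χ' (uSL b) := fun b => by
    rw [ures_expand uSL χ b, ures_expand uSL χ' b]
    refine Finset.sum_congr rfl fun a _ => ?_
    rcases eq_or_ne a 0 with rfl | ha
    · rw [hc.ures_zero' hχ, hc'.ures_zero' hχ']
    · rw [hall hc hχ hd a ha, hall hc' hχ' hd' a ha]
  funext g
  by_cases hg : Aniso g
  · obtain ⟨x, hx, hz⟩ := hT.exists_conj hg
    rw [← hcl g x, ← hcl' g x]
    exact h ⟨_, hx⟩ hz
  · obtain ⟨x, a, b, e⟩ := exists_conj_bor hg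
    have hg' : g = x * tri a b * x⁻¹ := by rw [← e]; group
    rw [hg', hcl, hcl']
    by_cases ha : (a : F) ^ 2 = 1
    · rcases sq_eq_one_iff.1 ha with h1 | h1
      · rw [show a = 1 from Units.ext h1, tri_one, hu]
      · rw [show a = -1 from Units.ext (by simpa using h1), tri_neg_one, hω, hω', hu]
    · rw [tri_conj hcl ha b, tri_conj hcl' ha b, hc.split hcl a ha, hc'.split hcl' a ha]

/-- Every regular character of the torus belongs to a cuspidal character of degree `q - 1`. -/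
theorem Torus.exists_cusp (hT : Torus C) [Fintype C] (θ : C →* ℂˣ) (hθ : ∃ c, θ c ^ 2 ≠ 1) :
    ∃ χ : G → ℂ, IsIrrCharacter G χ ∧ Cusp χ ∧ χ 1 = (Fintype.card F : ℂ) - 1 ∧
      (∀ c : C, (c : G) ∉ Subgroup.center G → χ c = -((θ c : ℂ) + ((θ c)⁻¹ : ℂˣ))) ∧
      (∀ c : C, (c : G) = -1 → ∀ g : G, χ ((c : G) * g) = (θ c : ℂ) * χ g) := by
  classical
  set A := {χ : IrrCharacter G // Cusp (χ : G → ℂ) ∧ (χ : G → ℂ) 1 = (Fintype.card F : ℂ) - 1}
  set T := {φ : C →* ℂˣ // ∃ c, φ c ^ 2 ≠ 1}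
  have : Finite (IrrCharacter G) := finite_irrCharacter
  have : Finite (IrrCharacter C) := finite_irrCharacter
  have hcardHom : Nat.card (C →* ℂˣ) = Fintype.card F + 1 := by
    rw [← Nat.card_congr linearEquiv,
      Nat.card_congr (Equiv.subtypeUnivEquiv fun ψ : IrrCharacter C => degree_one_of_comm hT.comm ψ)]
    have h : ∑ ψ : IrrCharacter C, (ψ : C → ℂ) 1 ^ 2 = (Nat.card C : ℂ) := sum_sq_degree
    simp only [degree_one_of_comm hT.comm, one_pow, Finset.sum_const, Finset.card_univ, nsmul_eq_mul,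
      mul_one, hT.card] at h
    rw [Nat.card_eq_fintype_card]
    exact_mod_cast h
  have : Finite (C →* ℂˣ) := Nat.finite_of_card_ne_zero (by rw [hcardHom]; omega)
  have hT2 : Nat.card T + 2 ≤ Fintype.card F + 1 := by
    obtain ⟨g, hg, -, ho⟩ := hT.exists_noncentral
    obtain ⟨m, hm⟩ : ∃ m, Fintype.card F + 1 = 2 * m := by
      have := card_mod_two_eq_one hT.odd
      exact ⟨(Fintype.card F + 1) / 2, by omega⟩
    have hgen : Subgroup.zpowers g = ⊤ := Subgroup.eq_top_iff' _ |>.2 hg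
    let η : C →* ℂˣ :=
      monoidHomOfForallMemZpowers hg (g' := (-1 : ℂˣ)) (orderOf_dvd_of_pow_eq_one (by
        rw [ho, hm, pow_mul, neg_one_sq, one_pow]))
    have hηg : η g = -1 := monoidHomOfForallMemZpowers_apply_gen _ _
    have hη2 : ∀ c, η c ^ 2 = 1 := fun c => by
      obtain ⟨k, rfl⟩ := hg c
      rw [map_zpow, hηg, ← zpow_natCast, ← zpow_mul, mul_comm, zpow_mul]
      simp
    have hη1 : η ≠ 1 := fun e => by
      rw [e, MonoidHom.one_apply] at hηg
      have := congrArg Units.val hηg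
      norm_num at this
    rw [← hcardHom]
    have hsub : ({1, η} : Set (C →* ℂˣ)) ⊆ {φ | ¬ ∃ c, φ c ^ 2 ≠ 1} := by
      intro φ hφ
      simp only [Set.mem_insert_iff, Set.mem_singleton_iff] at hφ
      rintro ⟨c, hc⟩
      rcases hφ with rfl | rfl
      · exact hc (by simp)
      · exact hc (hη2 c)
    have h := Set.ncard_le_ncard hsub (Set.toFinite _)
    rw [Set.ncard_pair hη1.symm] at h
    have h' := Set.ncard_add_ncard_compl {φ : C →* ℂˣ | ∃ c, φ c ^ 2 ≠ 1}
    rw [Set.compl_setOf, ← Nat.card_coe_set_eq, Set.coe_setOf] at h'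
    change Nat.card T + 2 ≤ _
    rw [← h']
    exact Nat.add_le_add_left h _
  have hA : 2 * Nat.card A + 1 = Fintype.card F := by
    have h := (card_cusp_odd (F := F) hT.odd).1
    have h' : ((2 * Nat.card A + 1 : ℕ) : ℂ) = (Fintype.card F : ℂ) := by
      push_cast
      linear_combination h
    exact_mod_cast h'
  choose φ hφ hφv hφz using fun χ : A => χ.2.1.torus_full hT χ.1.2 χ.2.2
  let Φ : A × Bool → T := fun p =>
    ⟨if p.2 then φ p.1 else (φ p.1)⁻¹, by
      obtain ⟨c, hc⟩ := hφ p.1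
      refine ⟨c, ?_⟩
      split_ifs
      · exact hc
      · rw [MonoidHom.inv_apply, inv_pow]; exact fun h => hc (inv_eq_one.1 h)⟩
  obtain ⟨z, hz, hz2, -⟩ := hT.exists_z
  have hzφ : ∀ χ : A, (φ χ)⁻¹ z = φ χ z := fun χ => by
    rw [MonoidHom.inv_apply, inv_eq_of_mul_eq_one_right]
    rw [← sq, ← map_pow, hz2, map_one]
  have hinj : Function.Injective Φ := by
    rintro ⟨χ, i⟩ ⟨χ', j⟩ h
    have h' := congrArg Subtype.val h
    simp only [Φ] at h'
    have hv : (φ χ z = φ χ' z) ∧ ∀ c : C, (φ χ c : ℂ) + ((φ χ c)⁻¹ : ℂˣ) = (φ χ' c : ℂ) + ((φ χ' c)⁻¹ : ℂˣ) := by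
      have e1 := fun c => DFunLike.congr_fun h' c
      cases i <;> cases j <;> simp only [if_true, if_false, Bool.false_eq_true] at e1 <;>
        refine ⟨?_, fun c => ?_⟩
      · rw [← hzφ χ, ← hzφ χ']; exact e1 z
      · have := e1 c; simp only [MonoidHom.inv_apply, inv_inj] at this; rw [this]
      · rw [← hzφ χ]; exact e1 z
      · have := e1 c; simp only [MonoidHom.inv_apply] at this; rw [← this, inv_inv, add_comm]
      · rw [← hzφ χ']; exact e1 z
      · have := e1 c; simp only [MonoidHom.inv_apply] at this; rw [this, inv_inv, add_comm]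
      · exact e1 z
      · rw [e1 c]
    have hχ : χ = χ' := Subtype.ext (Subtype.ext (χ.2.1.ext_full hT χ.1.2 χ'.2.1 χ'.1.2 χ.2.2 χ'.2.2
      (ω := (φ χ z : ℂ)) (fun g => hz ▸ hφz χ z hz g)
      (fun g => by rw [hv.1]; exact hz ▸ hφz χ' z hz g)
      fun c hc => by rw [hφv χ c hc, hφv χ' c hc, hv.2 c]))
    subst hχ
    obtain ⟨c, hc⟩ := hφ χ
    have e1 := DFunLike.congr_fun h' c
    cases i <;> cases j <;> simp only [if_true, if_false, Bool.false_eq_true, MonoidHom.inv_apply] at e1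
    · rfl
    · exact absurd (by rw [sq]; nth_rewrite 1 [← e1]; exact inv_mul_cancel _) hc
    · exact absurd (by rw [sq]; nth_rewrite 1 [e1]; exact inv_mul_cancel _) hc
    · rfl
  have hbij : Function.Bijective Φ := by
    have : Finite A := Subtype.finite
    have : Finite T := Subtype.finite
    refine (Nat.bijective_iff_injective_and_card Φ).2 ⟨hinj, le_antisymm (Nat.card_le_card_of_injective Φ hinj) ?_⟩
    rw [Nat.card_prod, Nat.card_eq_fintype_card (α := Bool), Fintype.card_bool]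
    omega
  obtain ⟨⟨χ, i⟩, hi⟩ := hbij.2 ⟨θ, hθ⟩
  have hi' := congrArg Subtype.val hi
  simp only [Φ] at hi'
  refine ⟨χ.1.1, χ.1.2, χ.2.1, χ.2.2, fun c hc => ?_, fun c hc g => ?_⟩
  · rw [hφv χ c hc, ← hi']
    cases i
    · simp [add_comm]
    · simp
  · rw [hφz χ c hc g, ← hi']
    cases i
    · simp only [Bool.false_eq_true, if_false]
      rw [show c = z from Subtype.ext (hc.trans hz.symm), hzφ]
    · simp

end CfsgLib.RankOne.SLTwo
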