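import Cfsg.Agent.Lib.RankOne.SLDegree
import Cfsg.Agent.Lib.RankOne.SLTorusChar
import Cfsg.Agent.Lib.Blocks.Inflate
import Cfsg.Agent.Lib.SL2.Facts
import Cfsg.Prelude.Def_DegreeGraph

/-!
The degree set of a central quotient of `SL₂(q)`.
-/

set_option autoImplicit false
set_option linter.unusedSectionVars false

namespace CfsgLib.RankOne.SLTwo

open Cfsg CfsgLib.Char CfsgLib.RankOne
open scoped MatrixGroups

universe u v

theorem charDegree_of_apply_one {H : Type v} [Group H] {χ : H → ℂ} {n : ℕ} (h : χ 1 = (n : ℂ)) :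
    charDegree χ = n := by
  simp [charDegree, h]

variable {F : Type u} [Field F] [Fintype F] [DecidableEq F]
variable {S : Type v} [Group S]

local notation "G" => Matrix.SpecialLinearGroup (Fin 2) F

/-- Every degree of a quotient is a degree of `SL₂(q)`. -/
theorem charDegree_quot_cases (f : G →* S) (hf : Function.Surjective f) (η : IrrCharacter S) :
    charDegree (η : S → ℂ) = 1 ∨ charDegree (η : S → ℂ) = Fintype.card F ∨
      charDegree (η : S → ℂ) = Fintype.card F + 1 ∨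
      (ringChar F ≠ 2 ∧ charDegree (η : S → ℂ) = (Fintype.card F + 1) / 2) ∨
      charDegree (η : S → ℂ) = Fintype.card F - 1 ∨
      (ringChar F ≠ 2 ∧ charDegree (η : S → ℂ) = (Fintype.card F - 1) / 2) := by
  have hq : 1 ≤ Fintype.card F := Fintype.card_pos
  have hh : ∀ h : ringChar F ≠ 2, _ ∧ _ := fun h => half_cast (F := F)
    (Nat.odd_iff.2 (FiniteField.odd_card_of_char_ne_two h))
  set χ := CfsgLib.Blocks.inflate f hf η with hχ
  have e : (η : S → ℂ) 1 = (χ : G → ℂ) 1 := by simp [hχ, CfsgLib.Blocks.inflate]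
  rcases degree_cases χ.2 with ⟨-, h⟩ | ⟨-, h⟩ | ⟨-, h⟩ | ⟨hH, h⟩ | ⟨-, h⟩ | ⟨-, h2, h⟩
  · exact Or.inl (charDegree_of_apply_one (by simpa [e] using h))
  · exact Or.inr (Or.inl (charDegree_of_apply_one (by rw [e, h])))
  · exact Or.inr (Or.inr (Or.inl (charDegree_of_apply_one (by rw [e, h]; push_cast; rfl))))
  · exact Or.inr (Or.inr (Or.inr (Or.inl ⟨hH.odd,
      charDegree_of_apply_one (by rw [e, h, (hh hH.odd).1])⟩)))
  · exact Or.inr (Or.inr (Or.inr (Or.inr (Or.inl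
      (charDegree_of_apply_one (by rw [e, h, Nat.cast_sub hq, Nat.cast_one]))))))
  · exact Or.inr (Or.inr (Or.inr (Or.inr (Or.inr ⟨h2,
      charDegree_of_apply_one (by rw [e, h, (hh h2).2])⟩))))

/-- A character trivial on the kernel gives a degree of the quotient. -/
theorem mem_charDegrees_quot [Finite S] (f : G →* S) (hf : Function.Surjective f) {χ : G → ℂ}
    (hχ : IsIrrCharacter G χ) (hk : ∀ u ∈ f.ker, χ u = χ 1) {n : ℕ} (hn : χ 1 = (n : ℂ)) :
    n ∈ charDegrees S := by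
  obtain ⟨η, hη⟩ := CfsgLib.Blocks.exists_inflate_eq_of_ker f.ker ⟨χ, hχ⟩ hk
  let e := QuotientGroup.quotientKerEquivOfSurjective f hf
  refine ⟨CfsgLib.Blocks.inflate e.symm.toMonoidHom e.symm.surjective η, charDegree_of_apply_one ?_⟩
  have h1 : χ 1 = (η : G ⧸ f.ker → ℂ) 1 := by
    have := congrArg (fun x : IrrCharacter G => (x : G → ℂ) 1) hη
    simpa [CfsgLib.Blocks.inflate] using this
  rw [← hn, h1]
  simp [CfsgLib.Blocks.inflate]

/-- The hypothesis of the statements gives a central quotient map. -/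
theorem exists_quot {S : Type v} [Group S]
    (hS : Nonempty (S ≃* Matrix.ProjectiveSpecialLinearGroup (Fin 2) F) ∨
      Nonempty (S ≃* Matrix.SpecialLinearGroup (Fin 2) F)) :
    ∃ f : G →* S, Function.Surjective f ∧ f.ker ≤ Subgroup.center G := by
  rcases hS with ⟨⟨e⟩⟩ | ⟨⟨e⟩⟩
  · refine ⟨e.symm.toMonoidHom.comp (QuotientGroup.mk' _),
      e.symm.surjective.comp (QuotientGroup.mk'_surjective _), fun x hx => ?_⟩
    rw [MonoidHom.mem_ker, MonoidHom.comp_apply] at hx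
    exact (QuotientGroup.eq_one_iff x).1 (e.symm.injective (hx.trans (map_one e.symm).symm))
  · refine ⟨e.symm.toMonoidHom, e.symm.surjective, fun x hx => ?_⟩
    rw [MonoidHom.mem_ker] at hx
    rw [e.symm.injective (hx.trans (map_one e.symm).symm)]
    exact Subgroup.one_mem _

theorem const_on_center {χ : G → ℂ} (h : χ (-1) = χ 1) : ∀ u ∈ Subgroup.center G, χ u = χ 1 := by
  intro u hu
  rcases (mem_center_iff' u).1 hu with rfl | rfl
  · rfl
  · exact h

theorem ps_neg_one (α : MulChar F ℂ) : ps α (-1 : G) = ((Fintype.card F : ℂ) + 1) * α (-1) := by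
  rw [ps_apply]
  simp
  ring

theorem stb_neg_one : (stb : G → ℂ) (-1) = (stb : G → ℂ) 1 := by
  have h : (1 : MulChar F ℂ) (-1) = 1 := MulChar.one_apply (isUnit_one.neg)
  rw [stb_one, stb, Pi.sub_apply, ps_neg_one, h]
  simp [triv]

theorem card_mem_charDegrees [Finite S] (f : G →* S) (hf : Function.Surjective f)
    (hk : f.ker ≤ Subgroup.center G) : Fintype.card F ∈ charDegrees S :=
  mem_charDegrees_quot f hf isIrr_stb (fun u hu => const_on_center stb_neg_one u (hk hu)) stb_one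

theorem exists_ps_succ (hq : 5 < Fintype.card F) :
    ∃ α : MulChar F ℂ, α ^ 2 ≠ 1 ∧ α (-1) = 1 := by
  obtain ⟨β, hβ⟩ := MulChar.exists_mulChar_orderOf F (dvd_refl (Fintype.card F - 1))
    (Complex.isPrimitiveRoot_exp (Fintype.card F - 1) (by omega))
  refine ⟨β ^ 2, fun h => ?_, ?_⟩
  · have h4 : β ^ 4 = 1 := by rw [← h, ← pow_mul]
    have := Nat.le_of_dvd (by norm_num) (hβ ▸ orderOf_dvd_of_pow_eq_one h4)
    omega
  · rw [MulChar.pow_apply' _ two_ne_zero, ← map_pow]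
    simp

theorem exists_pred [hq : Fact (5 < Fintype.card F)] (h2 : ringChar F ≠ 2) :
    ∃ χ : G → ℂ, IsIrrCharacter G χ ∧ χ 1 = (Fintype.card F : ℂ) - 1 ∧ χ (-1) = χ 1 := by
  classical
  obtain ⟨g, -, hc, hn⟩ := CfsgLib.SL2.exists_regular_nonsplit (F := F)
  have hT : Torus (CfsgLib.SL2.cent g) := ⟨h2, hc, by rw [hn, Nat.card_eq_fintype_card]⟩
  obtain ⟨x, hx⟩ := hc.exists_generator
  have hox : orderOf x = Fintype.card F + 1 := by
    rw [orderOf_eq_card_of_forall_mem_zpowers hx, hT.card]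
  have hne : Fintype.card F + 1 ≠ 0 := Nat.succ_ne_zero _
  have hζ0 := Complex.isPrimitiveRoot_exp (Fintype.card F + 1) hne
  obtain ⟨ζ, hζ⟩ : ∃ ζ : ℂˣ, IsPrimitiveRoot (ζ : ℂ) (Fintype.card F + 1) :=
    ⟨(hζ0.isUnit hne).unit, hζ0⟩
  have hoζ : orderOf ζ = Fintype.card F + 1 := by
    rw [← orderOf_units, ← hζ.eq_orderOf]
  let φ := monoidHomOfForallMemZpowers hx (g' := ζ) (by rw [hoζ, hox])
  have hφ : φ x = ζ := monoidHomOfForallMemZpowers_apply_gen _ _
  obtain ⟨z, hz, hz2, -⟩ := hT.exists_z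
  obtain ⟨χ, hi, -, hd, -, hzv⟩ := hT.exists_cusp (φ ^ 2) ⟨x, fun e => by
    rw [MonoidHom.pow_apply, hφ, ← pow_mul] at e
    have := Nat.le_of_dvd (by norm_num) (hoζ ▸ orderOf_dvd_of_pow_eq_one e)
    have := hq.out
    omega⟩
  refine ⟨χ, hi, hd, ?_⟩
  have h := hzv z hz 1
  rw [hz, mul_one] at h
  rw [h, MonoidHom.pow_apply, ← map_pow, hz2, map_one, Units.val_one, one_mul]

theorem succ_pred_mem_charDegrees [Finite S] (hq : 5 < Fintype.card F) (h2 : ringChar F ≠ 2)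
    (f : G →* S) (hf : Function.Surjective f) (hk : f.ker ≤ Subgroup.center G) :
    Fintype.card F + 1 ∈ charDegrees S ∧ Fintype.card F - 1 ∈ charDegrees S := by
  have := Fact.mk hq
  obtain ⟨α, hα, hα1⟩ := exists_ps_succ (F := F) hq
  obtain ⟨χ, hi, hd, hn⟩ := exists_pred (F := F) h2
  refine ⟨mem_charDegrees_quot f hf (isIrr_ps hα) (fun u hu => const_on_center ?_ u (hk hu)) ?_,
    mem_charDegrees_quot f hf hi (fun u hu => const_on_center hn u (hk hu)) ?_⟩
  · rw [ps_neg_one, hα1, ps_one, mul_one]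
  · rw [ps_one]; push_cast; rfl
  · rw [hd, Nat.cast_sub Fintype.card_pos, Nat.cast_one]

/-- Two distinct primes dividing a number. -/
theorem mul_dvd_of_primes {r s n : ℕ} (hr : r.Prime) (hs : s.Prime) (hne : r ≠ s) (h1 : r ∣ n)
    (h2 : s ∣ n) : r * s ∣ n :=
  ((Nat.coprime_primes hr hs).2 hne).mul_dvd_of_dvd_of_dvd h1 h2

theorem sq_sub_one (q : ℕ) : q ^ 2 - 1 = (q + 1) * (q - 1) := by
  simpa using Nat.sq_sub_sq q 1

/-- The graph data, from the degree set. -/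
theorem degreeGraph_aux {q t n : ℕ} (hq : q = t ^ n) (ht : t.Prime) {D : Set ℕ}
    (hD : ∀ d ∈ D, d = 1 ∨ d = q ∨ d ∣ q + 1 ∨ d ∣ q - 1)
    (h0 : q ∈ D) (h1 : q + 1 ∈ D) (h2 : q - 1 ∈ D) :
    {p : ℕ | p.Prime ∧ ∃ d ∈ D, p ∣ d} = {r : ℕ | r.Prime ∧ r ∣ q * (q ^ 2 - 1)} ∧
      ∀ r s : ℕ, (r ≠ s ∧ r.Prime ∧ s.Prime ∧ ∃ d ∈ D, r * s ∣ d) ↔
        (r ≠ s ∧ r.Prime ∧ s.Prime ∧ ((r ∣ q + 1 ∧ s ∣ q + 1) ∨ (r ∣ q - 1 ∧ s ∣ q - 1))) := by
  refine ⟨?_, fun r s => ?_⟩
  · ext p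
    simp only [Set.mem_ofPred_eq, sq_sub_one]
    refine and_congr_right fun hp => ⟨?_, fun h => ?_⟩
    · rintro ⟨d, hd, hpd⟩
      rcases hD d hd with rfl | rfl | h | h
      · exact absurd (Nat.dvd_one.1 hpd) hp.ne_one
      · exact dvd_mul_of_dvd_left hpd _
      · exact dvd_mul_of_dvd_right (dvd_mul_of_dvd_left (hpd.trans h) _) _
      · exact dvd_mul_of_dvd_right (dvd_mul_of_dvd_right (hpd.trans h) _) _
    · rcases hp.dvd_mul.1 h with h | h
      · exact ⟨_, h0, h⟩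
      · rcases hp.dvd_mul.1 h with h | h
        · exact ⟨_, h1, h⟩
        · exact ⟨_, h2, h⟩
  · refine and_congr_right fun hne => and_congr_right fun hr => and_congr_right fun hs => ⟨?_, ?_⟩
    · rintro ⟨d, hd, hrs⟩
      have hrd := (dvd_mul_right r s).trans hrs
      have hsd := (dvd_mul_left s r).trans hrs
      rcases hD d hd with rfl | rfl | h | h
      · exact absurd (Nat.dvd_one.1 hrd) hr.ne_one
      · rw [hq] at hrd hsd
        exact absurd (((Nat.prime_dvd_prime_iff_eq hr ht).1 (hr.dvd_of_dvd_pow hrd)).trans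
          ((Nat.prime_dvd_prime_iff_eq hs ht).1 (hs.dvd_of_dvd_pow hsd)).symm) hne
      · exact Or.inl ⟨hrd.trans h, hsd.trans h⟩
      · exact Or.inr ⟨hrd.trans h, hsd.trans h⟩
    · rintro (⟨a, b⟩ | ⟨a, b⟩)
      · exact ⟨_, h1, mul_dvd_of_primes hr hs hne a b⟩
      · exact ⟨_, h2, mul_dvd_of_primes hr hs hne a b⟩

end CfsgLib.RankOne.SLTwo
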