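import Cfsg.Agent.Lib.RankOne.Restrict
import Cfsg.Agent.Lib.SL2.Basic
import Cfsg.Prelude.Def_ParabolicCharacters

/-!
The irreducible characters of `GL₂(q)`: principal series, Steinberg twists and the rest.
-/

set_option autoImplicit false
set_option linter.unusedSectionVars false

namespace CfsgLib.RankOne.GLTwo

open Cfsg CfsgLib.Char CfsgLib.RankOne
open scoped ComplexConjugate MatrixGroups

universe u

variable {F : Type u} [Field F] [Fintype F] [DecidableEq F]

local notation "G" => Matrix.GeneralLinearGroup (Fin 2) F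

/-- The standard Borel subgroup. -/
abbrev Bor (F : Type u) [Field F] : Subgroup (Matrix.GeneralLinearGroup (Fin 2) F) :=
  Cfsg.upperTriangularGL 2 F

theorem mem_bor {g : G} : g ∈ Bor F ↔ (g : Matrix (Fin 2) (Fin 2) F) 1 0 = 0 := by
  show (g : Matrix (Fin 2) (Fin 2) F).BlockTriangular id ↔ _
  refine ⟨fun h => h (show id (0 : Fin 2) < id 1 by decide), fun h i j hij => ?_⟩
  fin_cases i <;> fin_cases j <;> first | exact h | simp at hij

/-- The root subgroup. -/
def uGL : AddChar F G where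
  toFun c := ⟨!![1, c; 0, 1], !![1, -c; 0, 1],
    by rw [Matrix.mul_fin_two, Matrix.one_fin_two]; simp,
    by rw [Matrix.mul_fin_two, Matrix.one_fin_two]; simp⟩
  map_zero_eq_one' := Units.ext (by simp [Matrix.one_fin_two])
  map_add_eq_mul' a b := Units.ext (by simp [add_comm])

theorem uGL_coe (c : F) : ((uGL c : G) : Matrix (Fin 2) (Fin 2) F) = !![1, c; 0, 1] := rfl

/-- An upper triangular element. -/
def tri (a d : Fˣ) (b : F) : G :=
  ⟨!![(a : F), b; 0, (d : F)], !![((a⁻¹ : Fˣ) : F), -((a⁻¹ : Fˣ) : F) * b * ((d⁻¹ : Fˣ) : F); 0, ((d⁻¹ : Fˣ) : F)],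
    by rw [Matrix.mul_fin_two, Matrix.one_fin_two]; simp [mul_assoc],
    by rw [Matrix.mul_fin_two, Matrix.one_fin_two]; simp [mul_assoc]⟩

theorem tri_coe (a d : Fˣ) (b : F) :
    ((tri a d b : G) : Matrix (Fin 2) (Fin 2) F) = !![(a : F), b; 0, (d : F)] := rfl

theorem tri_mem (a d : Fˣ) (b : F) : tri a d b ∈ Bor F := mem_bor.2 rfl

/-- The coordinates of the Borel subgroup. -/
noncomputable def borEquiv : (Fˣ × Fˣ) × F ≃ Bor F :=
  Equiv.ofBijective (fun p => ⟨tri p.1.1 p.1.2 p.2, tri_mem _ _ _⟩) ⟨by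
    rintro ⟨⟨a, d⟩, b⟩ ⟨⟨a', d'⟩, b'⟩ e
    have e' := congrArg (fun x : Bor F => ((x : G) : Matrix (Fin 2) (Fin 2) F)) e
    have h1 := congrFun (congrFun e' 0) 0
    have h2 := congrFun (congrFun e' 0) 1
    have h3 := congrFun (congrFun e' 1) 1
    simp [tri_coe] at h1 h2 h3
    rw [Units.ext h1, h2, Units.ext h3], by
    rintro ⟨g, hg⟩
    have hdet : ((g : G) : Matrix (Fin 2) (Fin 2) F).det ≠ 0 :=
      ((Matrix.isUnit_iff_isUnit_det _).1 g.isUnit).ne_zero
    rw [Matrix.det_fin_two, mem_bor.1 hg, mul_zero, sub_zero, mul_ne_zero_iff] at hdet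
    refine ⟨((Units.mk0 _ hdet.1, Units.mk0 _ hdet.2), (g : Matrix (Fin 2) (Fin 2) F) 0 1),
      Subtype.ext (Units.ext ?_)⟩
    rw [tri_coe]
    ext i j
    fin_cases i <;> fin_cases j <;> simp [mem_bor.1 hg]⟩

noncomputable instance borFintype : Fintype (Bor F) := Fintype.ofEquiv _ borEquiv

theorem borEquiv_apply (p : (Fˣ × Fˣ) × F) : (borEquiv p : G) = tri p.1.1 p.1.2 p.2 := rfl

/-- The linear character of the Borel subgroup. -/
noncomputable def lam (α β : MulChar F ℂ) : Bor F → ℂ := fun b =>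
  α (((b : G) : Matrix (Fin 2) (Fin 2) F) 0 0) * β (((b : G) : Matrix (Fin 2) (Fin 2) F) 1 1)

theorem lam_mul (α β : MulChar F ℂ) (b c : Bor F) : lam α β (b * c) = lam α β b * lam α β c := by
  have hb := mem_bor.1 b.2
  have hc := mem_bor.1 c.2
  simp only [lam, Subgroup.coe_mul, Units.val_mul, Matrix.mul_apply, Fin.sum_univ_two, hb, hc,
    mul_zero, add_zero, zero_mul, zero_add, map_mul]
  ring

theorem lam_one (α β : MulChar F ℂ) : lam α β 1 = 1 := by simp [lam]

/-- The character `lam` as a homomorphism. -/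
noncomputable def lamHom (α β : MulChar F ℂ) : Bor F →* ℂ where
  toFun := lam α β
  map_one' := lam_one α β
  map_mul' := lam_mul α β

theorem isCharacter_lam (α β : MulChar F ℂ) : IsCharacter (Bor F) (lam α β) :=
  isCharacter_monoidHom (lamHom α β).toHomUnits

/-- The principal series character. -/
noncomputable def ps (α β : MulChar F ℂ) : G → ℂ := indFun (Bor F) (lam α β)

theorem isCharacter_ps (α β : MulChar F ℂ) : IsCharacter G (ps α β) :=
  isCharacter_indFun _ (isCharacter_lam α β)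

/-- Representatives of the lines. -/
def rep : Option F → G
  | none => 1
  | some c => ⟨!![c, 1; 1, 0], !![0, 1; 1, -c],
      by rw [Matrix.mul_fin_two, Matrix.one_fin_two]; simp,
      by rw [Matrix.mul_fin_two, Matrix.one_fin_two]; simp⟩

theorem rep_some_conj (c : F) (g : G) :
    (((rep (some c))⁻¹ * g * rep (some c) : G) : Matrix (Fin 2) (Fin 2) F) =
      !![(g : Matrix (Fin 2) (Fin 2) F) 1 1 + c * (g : Matrix (Fin 2) (Fin 2) F) 1 0,
          (g : Matrix (Fin 2) (Fin 2) F) 1 0;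
        (g : Matrix (Fin 2) (Fin 2) F) 0 1 +
            c * ((g : Matrix (Fin 2) (Fin 2) F) 0 0 - (g : Matrix (Fin 2) (Fin 2) F) 1 1) -
            c * c * (g : Matrix (Fin 2) (Fin 2) F) 1 0,
          (g : Matrix (Fin 2) (Fin 2) F) 0 0 - c * (g : Matrix (Fin 2) (Fin 2) F) 1 0] := by
  show !![0, 1; 1, -c] * (g : Matrix (Fin 2) (Fin 2) F) * !![c, 1; 1, 0] = _
  ext i j
  fin_cases i <;> fin_cases j <;>
    simp [Matrix.mul_apply, Matrix.vecMul, dotProduct, Fin.sum_univ_two] <;> ring

theorem rep_bijective : Function.Bijective fun p : Option F × Bor F => rep p.1 * (p.2 : G) := by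
  refine ⟨?_, fun g => ?_⟩
  · rintro ⟨i, b⟩ ⟨j, b'⟩ e
    have e' := congrArg (fun x : G => (x : Matrix (Fin 2) (Fin 2) F)) e
    have hb := mem_bor.1 b.2
    have hb' := mem_bor.1 b'.2
    have hd : ∀ b : Bor F, ((b : G) : Matrix (Fin 2) (Fin 2) F) 0 0 ≠ 0 := fun b h => by
      have := ((Matrix.isUnit_iff_isUnit_det _).1 (b : G).isUnit).ne_zero
      rw [Matrix.det_fin_two, mem_bor.1 b.2, h] at this
      simp at this
    have h00 := congrFun (congrFun e' 0) 0
    have h10 := congrFun (congrFun e' 1) 0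
    rcases i with _ | c <;> rcases j with _ | c'
    · simpa [rep] using e
    · simp [rep, Matrix.mul_apply, Fin.sum_univ_two, hb, hb'] at h10
      exact absurd h10.symm (hd b')
    · simp [rep, Matrix.mul_apply, Fin.sum_univ_two, hb, hb'] at h10
      exact absurd h10 (hd b)
    · simp [rep, Matrix.mul_apply, Fin.sum_univ_two, hb, hb'] at h00 h10
      rw [h10] at h00
      obtain rfl := mul_right_cancel₀ (hd b') h00
      exact congrArg _ (Subtype.ext (mul_left_cancel e))
  · by_cases h : (g : Matrix (Fin 2) (Fin 2) F) 1 0 = 0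
    · exact ⟨(none, ⟨g, mem_bor.2 h⟩), one_mul g⟩
    · refine ⟨(some ((g : Matrix (Fin 2) (Fin 2) F) 0 0 / (g : Matrix (Fin 2) (Fin 2) F) 1 0),
        ⟨(rep (some _))⁻¹ * g, mem_bor.2 ?_⟩), mul_inv_cancel_left _ _⟩
      show ((!![0, 1; 1, -((g : Matrix (Fin 2) (Fin 2) F) 0 0 / (g : Matrix (Fin 2) (Fin 2) F) 1 0)] :
        Matrix (Fin 2) (Fin 2) F) * (g : Matrix (Fin 2) (Fin 2) F)) 1 0 = 0
      simp [Matrix.mul_apply, Fin.sum_univ_two, div_mul_cancel₀ _ h]

theorem extend_lam (α β : MulChar F ℂ) (g : G) :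
    extendByZero (Bor F) (lam α β) g =
      if (g : Matrix (Fin 2) (Fin 2) F) 1 0 = 0 then
        α ((g : Matrix (Fin 2) (Fin 2) F) 0 0) * β ((g : Matrix (Fin 2) (Fin 2) F) 1 1) else 0 := by
  split_ifs with h
  · rw [extendByZero_mem _ _ (mem_bor.2 h)]; rfl
  · exact extendByZero_notMem _ _ fun e => h (mem_bor.1 e)

/-- The value of a principal series character. -/
theorem ps_apply (α β : MulChar F ℂ) (g : G) :
    ps α β g = (if (g : Matrix (Fin 2) (Fin 2) F) 1 0 = 0 then
        α ((g : Matrix (Fin 2) (Fin 2) F) 0 0) * β ((g : Matrix (Fin 2) (Fin 2) F) 1 1) else 0) +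
      ∑ c : F, if (g : Matrix (Fin 2) (Fin 2) F) 0 1 +
            c * ((g : Matrix (Fin 2) (Fin 2) F) 0 0 - (g : Matrix (Fin 2) (Fin 2) F) 1 1) -
            c * c * (g : Matrix (Fin 2) (Fin 2) F) 1 0 = 0 then
          α ((g : Matrix (Fin 2) (Fin 2) F) 1 1 + c * (g : Matrix (Fin 2) (Fin 2) F) 1 0) *
            β ((g : Matrix (Fin 2) (Fin 2) F) 0 0 - c * (g : Matrix (Fin 2) (Fin 2) F) 1 0) else 0 := by
  rw [ps, indFun_eq_sum _ _ rep rep_bijective
    (isClassFunction_of_isCharacter (isCharacter_lam α β)), Fintype.sum_option]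
  congr 1
  · simp [rep, extend_lam]
  · refine Finset.sum_congr rfl fun c _ => ?_
    rw [extend_lam, rep_some_conj]
    simp

theorem ps_one (α β : MulChar F ℂ) : ps α β 1 = (Fintype.card F : ℂ) + 1 := by
  rw [ps_apply]; simp [add_comm]

theorem ps_tri (α β : MulChar F ℂ) (a d : Fˣ) (b : F) :
    ps α β (tri a d b) = α a * β d + ∑ c : F, if b + c * ((a : F) - d) = 0 then α d * β a else 0 := by
  rw [ps_apply, tri_coe]
  simp

theorem ps_anisotropic (α β : MulChar F ℂ) (g : G)
    (h : ∀ (c : F) (v : Fin 2 → F), v ≠ 0 → (g : Matrix (Fin 2) (Fin 2) F).mulVec v ≠ c • v) :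
    ps α β g = 0 := by
  have h10 : (g : Matrix (Fin 2) (Fin 2) F) 1 0 ≠ 0 := fun e =>
    h ((g : Matrix (Fin 2) (Fin 2) F) 0 0) ![1, 0] (by simp) (by
      ext i; fin_cases i <;> simp [e])
  rw [ps_apply, if_neg h10, zero_add]
  refine Finset.sum_eq_zero fun c _ => if_neg fun e => ?_
  refine h ((g : Matrix (Fin 2) (Fin 2) F) 1 1 + c * (g : Matrix (Fin 2) (Fin 2) F) 1 0) ![c, 1]
    (fun e' => by simpa using congrFun e' 1) ?_
  ext i
  fin_cases i
  · simp [Matrix.mulVec, dotProduct, Fin.sum_univ_two]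
    linear_combination e
  · simp [Matrix.mulVec, dotProduct, Fin.sum_univ_two]
    ring

/-- The characters through the determinant. -/
noncomputable def lin (α : MulChar F ℂ) : G → ℂ := fun g => α (g : Matrix (Fin 2) (Fin 2) F).det

/-- `lin` as a homomorphism. -/
noncomputable def linHom (α : MulChar F ℂ) : G →* ℂ where
  toFun := lin α
  map_one' := by simp [lin]
  map_mul' g h := by simp [lin, map_mul]

theorem isIrr_lin (α : MulChar F ℂ) : IsIrrCharacter G (lin α) :=
  isIrrCharacter_monoidHom (linHom α).toHomUnits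

theorem lin_restrict (α : MulChar F ℂ) : (fun b : Bor F => lin α (b : G)) = lam α α := by
  funext b
  simp [lin, lam, Matrix.det_fin_two, mem_bor.1 b.2]

theorem card_bor : (Nat.card (Bor F) : ℂ) = ((Fintype.card F : ℂ) - 1) ^ 2 * Fintype.card F := by
  rw [← Nat.card_congr borEquiv, Nat.card_prod, Nat.card_prod, Nat.card_eq_fintype_card,
    Nat.card_eq_fintype_card, Fintype.card_units]
  push_cast [Nat.cast_sub Fintype.card_pos]
  ring

theorem card_sub_one_ne : (Fintype.card F : ℂ) - 1 ≠ 0 :=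
  sub_ne_zero.2 (by exact_mod_cast Fintype.one_lt_card.ne')

theorem sum_bor {M : Type*} [AddCommMonoid M] (φ : Bor F → M) :
    ∑ b : Bor F, φ b = ∑ a : Fˣ, ∑ d : Fˣ, ∑ b : F, φ ⟨tri a d b, tri_mem a d b⟩ := by
  rw [← Equiv.sum_comp borEquiv, Fintype.sum_prod_type, Fintype.sum_prod_type]
  rfl

theorem inner_lam (α β α' β' : MulChar F ℂ) :
    classInner (lam α β) (lam α' β') = (if α = α' then 1 else 0) * (if β = β' then 1 else 0) := by
  classical
  have h : ∀ (a d : Fˣ) (b : F), lam α β ⟨tri a d b, tri_mem a d b⟩ *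
      conj (lam α' β' ⟨tri a d b, tri_mem a d b⟩) = (α a * conj (α' a)) * (β d * conj (β' d)) := by
    intro a d b
    simp [lam, tri_coe]
    ring
  rw [classInner, sum_bor, card_bor]
  simp only [h, Finset.sum_const, Finset.card_univ, nsmul_eq_mul, ← Finset.mul_sum, ← Finset.sum_mul,
    sum_units_mulChar]
  have := card_sub_one_ne (F := F)
  have hq : (Fintype.card F : ℂ) ≠ 0 := Nat.cast_ne_zero.2 Fintype.card_ne_zero
  split_ifs <;> field_simp <;> ring

/-- The inner products of the principal series. -/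
theorem inner_ps (α β α' β' : MulChar F ℂ) :
    classInner (ps α β) (ps α' β') =
      (if α = α' then 1 else 0) * (if β = β' then 1 else 0) +
        (if α = β' then 1 else 0) * (if β = α' then 1 else 0) := by
  classical
  have hq : (Fintype.card F : ℂ) ≠ 0 := Nat.cast_ne_zero.2 Fintype.card_ne_zero
  have hsum : ∀ a d : Fˣ, ∑ b : F, ps α' β' (tri a d b) =
      (Fintype.card F : ℂ) * (α' a * β' d + α' d * β' a) := by
    intro a d
    simp only [ps_tri, Finset.sum_add_distrib, Finset.sum_const, Finset.card_univ, nsmul_eq_mul]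
    rw [Finset.sum_comm]
    simp only [add_eq_zero_iff_eq_neg, Finset.sum_ite_eq', Finset.mem_univ, if_true, Finset.sum_const,
      Finset.card_univ, nsmul_eq_mul]
    ring
  rw [ps, frobenius_reciprocity _ _ (isClassFunction_of_isCharacter (isCharacter_ps α' β')), classInner,
    sum_bor, card_bor]
  have h : ∀ a d : Fˣ, (∑ b : F, lam α β ⟨tri a d b, tri_mem a d b⟩ * conj (ps α' β' (tri a d b))) =
      (Fintype.card F : ℂ) * ((α a * conj (α' a)) * (β d * conj (β' d)) +
        (α a * conj (β' a)) * (β d * conj (α' d))) := by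
    intro a d
    show ∑ b : F, α (a : F) * β (d : F) * conj (ps α' β' (tri a d b)) = _
    rw [← Finset.mul_sum, ← map_sum, hsum]
    simp
    ring
  simp only [h, ← Finset.mul_sum, Finset.sum_add_distrib, ← Finset.sum_mul, sum_units_mulChar]
  have := card_sub_one_ne (F := F)
  split_ifs <;> field_simp <;> ring

theorem inner_ps_lin (α β γ : MulChar F ℂ) :
    classInner (ps α β) (lin γ) = (if α = γ then 1 else 0) * (if β = γ then 1 else 0) := by
  rw [ps, frobenius_reciprocity _ _
    (isClassFunction_of_isCharacter (isCharacter_of_isIrr (isIrr_lin γ))), lin_restrict, inner_lam]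

theorem inner_lin_ps (α β γ : MulChar F ℂ) :
    classInner (lin γ) (ps α β) = (if α = γ then 1 else 0) * (if β = γ then 1 else 0) := by
  rw [← classInner_conj_symm, inner_ps_lin]
  split_ifs <;> simp

theorem lin_injective : Function.Injective (lin : MulChar F ℂ → G → ℂ) := fun α β e =>
  MulChar.ext fun x => by
    have := congrFun e (tri x 1 0)
    simpa [lin, tri_coe, Matrix.det_fin_two] using this

theorem inner_lin (α β : MulChar F ℂ) :
    classInner (lin α) (lin β) = if α = β then 1 else 0 := by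
  split_ifs with h
  · subst h; exact classInner_irr_self (isIrr_lin α)
  · exact classInner_irr_ne (isIrr_lin α) (isIrr_lin β) fun e => h (lin_injective e)

theorem ps_symm (α β : MulChar F ℂ) : ps α β = ps β α := by
  refine sub_eq_zero.1 (eq_zero_of_classInner_self ?_)
  rw [classInner_sub_left, classInner_sub_right, classInner_sub_right, inner_ps, inner_ps, inner_ps,
    inner_ps]
  simp only [eq_comm (a := β) (b := α), if_true]
  split_ifs <;> ring

theorem ps_eq_iff (α β α' β' : MulChar F ℂ) :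
    ps α β = ps α' β' ↔ (α = α' ∧ β = β') ∨ (α = β' ∧ β = α') := by
  constructor
  · intro e
    by_contra hc
    have h0 : classInner (ps α β) (ps α' β') = 0 := by
      rw [inner_ps]
      split_ifs <;> simp_all
    rw [← e, inner_ps] at h0
    simp only [if_true, mul_one] at h0
    split_ifs at h0 <;> norm_num at h0
  · rintro (⟨rfl, rfl⟩ | ⟨rfl, rfl⟩)
    · rfl
    · exact ps_symm _ _

theorem isIrr_ps {α β : MulChar F ℂ} (h : α ≠ β) : IsIrrCharacter G (ps α β) := by
  refine isIrr_of_norm_one (isCharacter_ps α β) ?_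
  rw [inner_ps]
  simp [h]

/-- The twisted Steinberg characters. -/
noncomputable def stb (α : MulChar F ℂ) : G → ℂ := ps α α - lin α

theorem stb_one (α : MulChar F ℂ) : stb α 1 = (Fintype.card F : ℂ) := by
  simp [stb, ps_one, lin]

theorem inner_stb (α β : MulChar F ℂ) : classInner (stb α) (stb β) = if α = β then 1 else 0 := by
  simp only [stb, classInner_sub_left, classInner_sub_right, inner_ps, inner_ps_lin, inner_lin_ps,
    inner_lin, eq_comm (a := β) (b := α)]
  split_ifs <;> ring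

theorem isIrr_stb (α : MulChar F ℂ) : IsIrrCharacter G (stb α) :=
  isIrr_sub_of_norm_one (isCharacter_ps α α) (isCharacter_of_isIrr (isIrr_lin α))
    (by have := inner_stb α α; rwa [if_pos rfl] at this) (stb_one α)

/-- Cuspidal: orthogonal to the principal series. -/
def Cusp (χ : G → ℂ) : Prop := ∀ α β, classInner χ (ps α β) = 0

theorem trichotomy {χ : G → ℂ} (hχ : IsIrrCharacter G χ) :
    (∃ α, χ = lin α) ∨ (∃ α, χ = stb α) ∨ (∃ α β, α ≠ β ∧ χ = ps α β) ∨ Cusp χ := by
  by_cases hc : Cusp χ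
  · exact Or.inr (Or.inr (Or.inr hc))
  simp only [Cusp, not_forall] at hc
  obtain ⟨α, β, h⟩ := hc
  by_cases hαβ : α = β
  · subst hαβ
    rw [show ps α α = lin α + stb α by rw [stb, add_sub_cancel], classInner_add_right] at h
    by_cases h1 : classInner χ (lin α) = 0
    · rw [h1, zero_add] at h
      exact Or.inr (Or.inl ⟨α, eq_of_inner_ne_zero hχ (isIrr_stb α) h⟩)
    · exact Or.inl ⟨α, eq_of_inner_ne_zero hχ (isIrr_lin α) h1⟩
  · exact Or.inr (Or.inr (Or.inl ⟨α, β, hαβ, eq_of_inner_ne_zero hχ (isIrr_ps hαβ) h⟩))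

theorem vanish_of_correlations (f : Fˣ → ℂ) (h : ∀ α : MulChar F ℂ, ∑ x : Fˣ, f x * conj (α x) = 0)
    (x₀ : Fˣ) : f x₀ = 0 := by
  by_contra h0
  obtain ⟨α, hα⟩ := exists_mulChar (fun x => f (x₀ * x)) (by rwa [mul_one])
  refine hα ?_
  have hu : α (x₀ : F) * conj (α (x₀ : F)) = 1 := by
    rw [show conj (α (x₀ : F)) = α⁻¹ (x₀ : F) from MulChar.star_apply' α _, ← MulChar.mul_apply,
      mul_inv_cancel, MulChar.one_apply_coe]
  calc ∑ x : Fˣ, f (x₀ * x) * conj (α x)
      = α (x₀ : F) * ∑ x : Fˣ, f (x₀ * x) * conj (α ((x₀ * x : Fˣ) : F)) := by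
        rw [Finset.mul_sum]
        refine Finset.sum_congr rfl fun x _ => ?_
        rw [Units.val_mul, map_mul, map_mul]
        linear_combination (-(f (x₀ * x)) * conj (α x)) * hu
    _ = 0 := by
        rw [Fintype.sum_bijective _ (Group.mulLeft_bijective x₀) _ (fun y => f y * conj (α y))
          fun x => rfl, h α, mul_zero]

/-- The averages of a cuspidal character over the root subgroup vanish. -/
theorem Cusp.average {χ : G → ℂ} (hc : Cusp χ) (hχ : IsClassFunction G χ) (a d : Fˣ) :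
    ∑ b : F, χ (tri a d b) = 0 := by
  classical
  have h0 : ∀ α β : MulChar F ℂ,
      ∑ a : Fˣ, (∑ d : Fˣ, (∑ b : F, χ (tri a d b)) * conj (β d)) * conj (α a) = 0 := by
    intro α β
    have h := hc α β
    rw [ps, frobenius_reciprocity' _ _ hχ, classInner, sum_bor, mul_eq_zero] at h
    rw [← h.resolve_left (inv_ne_zero (Nat.cast_ne_zero.2 Nat.card_pos.ne'))]
    refine Finset.sum_congr rfl fun a _ => ?_
    rw [Finset.sum_mul]
    refine Finset.sum_congr rfl fun d _ => ?_
    rw [Finset.sum_mul, Finset.sum_mul]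
    refine Finset.sum_congr rfl fun b _ => ?_
    simp [lam, tri_coe]
    ring
  refine vanish_of_correlations (fun d => ∑ b : F, χ (tri a d b)) (fun β => ?_) d
  exact vanish_of_correlations (fun a => ∑ d : Fˣ, (∑ b : F, χ (tri a d b)) * conj (β d))
    (fun α => h0 α β) a

theorem Cusp.split {χ : G → ℂ} (hc : Cusp χ) (hχ : IsClassFunction G χ) (g : G)
    (h01 : (g : Matrix (Fin 2) (Fin 2) F) 0 1 = 0) (h10 : (g : Matrix (Fin 2) (Fin 2) F) 1 0 = 0)
    (hne : (g : Matrix (Fin 2) (Fin 2) F) 0 0 ≠ (g : Matrix (Fin 2) (Fin 2) F) 1 1) : χ g = 0 := by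
  obtain ⟨⟨⟨a, d⟩, b⟩, hp⟩ := borEquiv.surjective ⟨g, mem_bor.2 h10⟩
  have hg : tri a d b = g := congrArg Subtype.val hp
  subst hg
  simp [tri_coe] at h01 hne
  subst h01
  have hconj : ∀ b, χ (tri a d b) = χ (tri a d 0) := by
    intro b
    have hd : ((d : F) - a) ≠ 0 := sub_ne_zero.2 (Ne.symm hne)
    rw [← hχ (tri a d 0) (uGL (b / ((d : F) - a)))]
    congr 1
    rw [eq_mul_inv_iff_mul_eq]
    refine Units.ext ?_
    simp only [Units.val_mul, tri_coe, uGL_coe, Matrix.mul_fin_two]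
    ext i j
    fin_cases i <;> fin_cases j <;> simp
    field_simp
    ring
  have := hc.average hχ a d
  simp only [hconj _, Finset.sum_const, Finset.card_univ, nsmul_eq_mul, mul_eq_zero,
    Nat.cast_eq_zero, Fintype.card_ne_zero, false_or] at this
  exact this

theorem scale_torus {χ : G → ℂ} (hχ : IsClassFunction G χ) (s : Fˣ) (c : F) :
    χ (uGL ((s : F) * c)) = χ (uGL c) :=
  scale_of_conj uGL hχ (tri s 1 0) (fun c => by
    rw [mul_inv_eq_iff_eq_mul]
    refine Units.ext ?_
    simp [tri_coe, uGL_coe]) c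

theorem ures_const {χ : G → ℂ} (hχ : IsClassFunction G χ) {a : F} (ha : a ≠ 0) :
    ures uGL χ a = ures uGL χ 1 := by
  have := ures_scale uGL (χ := χ) ha (scale_torus hχ (Units.mk0 a ha)) 1
  rwa [mul_one] at this

theorem Cusp.ures_zero' {χ : G → ℂ} (hc : Cusp χ) (hχ : IsClassFunction G χ) :
    ures uGL χ 0 = 0 := by
  have h := hc.average hχ 1 1
  rw [ures_zero, show (∑ c : F, χ (uGL c)) = ∑ b : F, χ (tri 1 1 b) from
    Finset.sum_congr rfl fun c _ => congrArg χ (Units.ext (by simp [tri_coe, uGL_coe])), h, mul_zero]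

/-- The shape of a cuspidal character on the root subgroup. -/
theorem Cusp.shape {χ : G → ℂ} (hc : Cusp χ) (hχ : IsIrrCharacter G χ) :
    ∃ k : ℕ, 0 < k ∧ ures uGL χ 1 = k ∧ χ 1 = (k : ℂ) * ((Fintype.card F : ℂ) - 1) ∧
      ∀ c : F, c ≠ 0 → χ (uGL c) = -(k : ℂ) := by
  have hcl := isClassFunction_of_isCharacter (isCharacter_of_isIrr hχ)
  obtain ⟨k, hk⟩ := exists_nat_ures uGL (isCharacter_of_isIrr hχ) 1
  have hval : ∀ c, χ (uGL c) =
      (k : ℂ) * ((if c = 0 then (Fintype.card F : ℂ) else 0) - 1) := by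
    intro c
    rw [ures_expand uGL χ c, ← Finset.add_sum_erase _ _ (Finset.mem_univ (0 : F)),
      hc.ures_zero' hcl, zero_mul, zero_add,
      Finset.sum_congr rfl (g := fun a => (k : ℂ) * psi F (c * a)) fun a ha => by
        rw [ures_const hcl (Finset.ne_of_mem_erase ha), hk, mul_comm a],
      ← Finset.mul_sum, ← psi_sum c, Finset.sum_erase_eq_sub (Finset.mem_univ _), mul_zero,
      AddChar.map_zero_eq_one]
  have h1 : χ 1 = (k : ℂ) * ((Fintype.card F : ℂ) - 1) := by
    rw [← AddChar.map_zero_eq_one (uGL (F := F)), hval, if_pos rfl]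
  refine ⟨k, ?_, hk, h1, fun c hc0 => by rw [hval, if_neg hc0]; ring⟩
  rcases Nat.eq_zero_or_pos k with rfl | hk0
  · exact absurd (by rw [h1]; simp) (irr_degree_ne_zero hχ)
  · exact hk0

/-- The class number of `GL₂(q)`. -/
theorem card_classes : Nat.card (ConjClasses G) = (Fintype.card F - 1) * (Fintype.card F + 1) := by
  have hcomp : ∀ p : F × Fˣ, IsUnit (!![0, -(p.2 : F); 1, p.1] : Matrix (Fin 2) (Fin 2) F) := fun p => by
    rw [Matrix.isUnit_iff_isUnit_det, Matrix.det_fin_two_of]; simp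
  let f : Fˣ ⊕ (F × Fˣ) → ConjClasses G := fun p => match p with
    | .inl a => ConjClasses.mk (tri a a 0)
    | .inr p => ConjClasses.mk (hcomp p).unit
  have hinv : ∀ g h : G, IsConj g h →
      (g : Matrix (Fin 2) (Fin 2) F).trace = (h : Matrix (Fin 2) (Fin 2) F).trace ∧
      (g : Matrix (Fin 2) (Fin 2) F).det = (h : Matrix (Fin 2) (Fin 2) F).det := by
    intro g h hgh
    obtain ⟨c, rfl⟩ := isConj_iff.1 hgh
    rw [Units.val_mul, Units.val_mul]
    exact ⟨(Matrix.trace_units_conj c (g : Matrix (Fin 2) (Fin 2) F)).symm,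
      (Matrix.det_units_conj c (g : Matrix (Fin 2) (Fin 2) F)).symm⟩
  have hscal : ∀ (a : Fˣ) (g : G), IsConj (tri a a 0) g → g = tri a a 0 := by
    intro a g hg
    obtain ⟨c, rfl⟩ := isConj_iff.1 hg
    rw [mul_inv_eq_iff_eq_mul]
    refine Units.ext ?_
    simp only [Units.val_mul, tri_coe, show (!![(a : F), 0; 0, a] : Matrix (Fin 2) (Fin 2) F) =
      (a : F) • 1 by ext i j; fin_cases i <;> fin_cases j <;> simp, mul_smul_comm, smul_mul_assoc,
      mul_one, one_mul]
  have hbij : Function.Bijective f := by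
    refine ⟨?_, fun C => ?_⟩
    · rintro (a | p) (a' | p') e <;> simp only [f] at e <;>
        have e' := ConjClasses.mk_eq_mk_iff_isConj.1 e
      · have := congrArg (fun g : G => (g : Matrix (Fin 2) (Fin 2) F) 0 0) (hscal a _ e')
        simp [tri_coe] at this
        rw [Units.ext this.symm]
      · have := congrArg (fun g : G => (g : Matrix (Fin 2) (Fin 2) F) 1 0) (hscal a _ e')
        simp [tri_coe] at this
      · have := congrArg (fun g : G => (g : Matrix (Fin 2) (Fin 2) F) 1 0) (hscal a' _ e'.symm)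
        simp [tri_coe] at this
      · obtain ⟨h1, h2⟩ := hinv _ _ e'
        simp [IsUnit.unit_spec, Matrix.trace_fin_two, Matrix.det_fin_two] at h1 h2
        rw [Prod.ext h1 (Units.ext h2)]
    · induction C using ConjClasses.mk_surjective.forall.2 with
      | _ g =>
        have hdet : (g : Matrix (Fin 2) (Fin 2) F).det ≠ 0 :=
          ((Matrix.isUnit_iff_isUnit_det _).1 g.isUnit).ne_zero
        by_cases hs : SL2.NonScalar (g : Matrix (Fin 2) (Fin 2) F)
        · obtain ⟨P, hP, hPg⟩ := SL2.exists_companion _ hs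
          refine ⟨.inr ((g : Matrix (Fin 2) (Fin 2) F).trace, Units.mk0 _ hdet), ?_⟩
          have hPu : IsUnit P := (Matrix.isUnit_iff_isUnit_det P).2 (isUnit_iff_ne_zero.2 hP)
          refine ConjClasses.mk_eq_mk_iff_isConj.2 (isConj_iff.2 ⟨hPu.unit, ?_⟩)
          rw [mul_inv_eq_iff_eq_mul]
          refine Units.ext ?_
          simp only [Units.val_mul, IsUnit.unit_spec, Units.val_mk0]
          exact hPg.symm
        · rw [SL2.nonScalar_iff] at hs
          simp only [not_or, not_not] at hs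
          obtain ⟨⟨⟨a, d⟩, b⟩, hp⟩ := borEquiv.surjective ⟨g, mem_bor.2 hs.2.1⟩
          have hg : tri a d b = g := congrArg Subtype.val hp
          subst hg
          simp [tri_coe] at hs
          exact ⟨.inl a, by rw [hs.1, show d = a from Units.ext hs.2.symm]⟩
  rw [← Nat.card_eq_of_bijective f hbij, Nat.card_sum, Nat.card_prod, Nat.card_eq_fintype_card,
    Nat.card_eq_fintype_card, Fintype.card_units]
  ring

theorem card_group : (Nat.card G : ℂ) =
    ((Fintype.card F : ℂ) ^ 2 - 1) * ((Fintype.card F : ℂ) ^ 2 - Fintype.card F) := by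
  rw [Matrix.card_GL_field, Fin.prod_univ_two]
  simp only [Fin.val_zero, Fin.val_one, pow_zero, pow_one]
  rw [Nat.cast_mul, Nat.cast_sub (Nat.one_le_pow _ _ Fintype.card_pos),
    Nat.cast_sub (Nat.le_self_pow two_ne_zero _)]
  push_cast
  ring

theorem card_mulChar : Nat.card (MulChar F ℂ) = Fintype.card F - 1 := by
  rw [MulChar.card_eq_card_units_of_hasEnoughRootsOfUnity, Nat.card_eq_fintype_card, Fintype.card_units]

/-- The unordered pairs of distinct characters. -/
abbrev Pairs (F : Type u) [Field F] : Type u := {z : Sym2 (MulChar F ℂ) // ¬ z.IsDiag}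

/-- The principal series of an unordered pair. -/
noncomputable def psPair (z : Sym2 (MulChar F ℂ)) : G → ℂ :=
  Sym2.lift ⟨fun α β => ps α β, fun α β => ps_symm α β⟩ z

theorem isIrr_psPair (z : Pairs F) : IsIrrCharacter G (psPair z.1) := by
  obtain ⟨z, hz⟩ := z
  induction z using Sym2.ind with
  | _ α β => exact isIrr_ps fun e => hz (Sym2.mk_isDiag_iff.2 e)

/-- The non-cuspidal characters. -/
noncomputable def known : (MulChar F ℂ ⊕ MulChar F ℂ) ⊕ Pairs F → IrrCharacter G
  | .inl (.inl α) => ⟨lin α, isIrr_lin α⟩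
  | .inl (.inr α) => ⟨stb α, isIrr_stb α⟩
  | .inr z => ⟨psPair z.1, isIrr_psPair z⟩

theorem psPair_one (z : Sym2 (MulChar F ℂ)) : psPair z 1 = (Fintype.card F : ℂ) + 1 := by
  induction z using Sym2.ind with
  | _ α β => exact ps_one α β

theorem card_ne_one : (Fintype.card F : ℂ) ≠ 1 := by exact_mod_cast Fintype.one_lt_card.ne'

theorem known_degree : ∀ i : (MulChar F ℂ ⊕ MulChar F ℂ) ⊕ Pairs F,
    (known i : G → ℂ) 1 = Sum.elim (Sum.elim (fun _ => 1) (fun _ => (Fintype.card F : ℂ)))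
      (fun _ => (Fintype.card F : ℂ) + 1) i := by
  rintro ((α | α) | z)
  · simp [known, lin]
  · exact stb_one α
  · exact psPair_one _

theorem known_injective : Function.Injective (known (F := F)) := by
  rintro ((α | α) | z) ((β | β) | w) e <;>
    have hd := (known_degree _).symm.trans ((congrArg (fun χ : IrrCharacter G => (χ : G → ℂ) 1) e).trans
      (known_degree _)) <;> simp only [Sum.elim_inl, Sum.elim_inr] at hd
  · rw [lin_injective (congrArg Subtype.val e)]
  · exact absurd hd.symm card_ne_one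
  · exact absurd (show (Fintype.card F : ℂ) = 0 by linear_combination -hd) (Nat.cast_ne_zero.2 Fintype.card_ne_zero)
  · exact absurd hd card_ne_one
  · have e' : stb α = stb β := congrArg Subtype.val e
    have := inner_stb α β
    rw [← e', classInner_irr_self (isIrr_stb α)] at this
    by_cases h : α = β
    · rw [h]
    · rw [if_neg h] at this; exact absurd this one_ne_zero
  · exact absurd hd (by simp)
  · exact absurd (show (Fintype.card F : ℂ) = 0 by linear_combination hd) (Nat.cast_ne_zero.2 Fintype.card_ne_zero)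
  · exact absurd hd (by simp)
  · obtain ⟨z, hz⟩ := z
    obtain ⟨w, hw⟩ := w
    have e' : psPair z = psPair w := congrArg Subtype.val e
    induction z using Sym2.ind with
    | _ α β =>
      induction w using Sym2.ind with
      | _ α' β' =>
        congr 2
        rcases (ps_eq_iff α β α' β').1 e' with ⟨rfl, rfl⟩ | ⟨rfl, rfl⟩
        · rfl
        · exact Sym2.eq_swap

theorem mem_range_known (χ : IrrCharacter G) :
    χ ∈ Set.range (known (F := F)) ↔ ¬ Cusp (χ : G → ℂ) := by
  constructor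
  · rintro ⟨i, rfl⟩ hc
    rcases i with (α | α) | ⟨z, hz⟩
    · have := hc α α
      simp [known, inner_lin_ps] at this
    · have := hc α α
      simp [known, stb, classInner_sub_left, inner_lin_ps, inner_ps] at this
    · induction z using Sym2.ind with
      | _ α β =>
        have := hc α β
        have hne : α ≠ β := fun e => hz (Sym2.mk_isDiag_iff.2 e)
        simp [known, psPair, inner_ps, hne] at this
  · intro hc
    rcases trichotomy χ.2 with ⟨α, e⟩ | ⟨α, e⟩ | ⟨α, β, hne, e⟩ | h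
    · exact ⟨.inl (.inl α), Subtype.ext e.symm⟩
    · exact ⟨.inl (.inr α), Subtype.ext e.symm⟩
    · exact ⟨.inr ⟨s(α, β), fun h => hne (Sym2.mk_isDiag_iff.1 h)⟩, Subtype.ext e.symm⟩
    · exact absurd h hc

theorem two_mul_card_pairs :
    2 * (Nat.card (Pairs F) : ℂ) = ((Fintype.card F : ℂ) - 1) * ((Fintype.card F : ℂ) - 2) := by
  classical
  have : Fintype (MulChar F ℂ) := Fintype.ofFinite _
  rw [Nat.card_eq_fintype_card, Sym2.card_subtype_not_diag, ← Nat.card_eq_fintype_card, card_mulChar,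
    Nat.cast_choose_two, Nat.cast_sub Fintype.card_pos]
  push_cast
  ring

/-- The count of cuspidal characters, and their degrees. -/
theorem cusp_count :
    2 * (Nat.card {χ : IrrCharacter G // Cusp (χ : G → ℂ)} : ℂ) =
      (Fintype.card F : ℂ) * ((Fintype.card F : ℂ) - 1) ∧
    ∀ χ : G → ℂ, IsIrrCharacter G χ → Cusp χ → ures uGL χ 1 = 1 ∧
      χ 1 = (Fintype.card F : ℂ) - 1 ∧ ∀ c : F, c ≠ 0 → χ (uGL c) = -1 := by
  classical
  set q : ℂ := (Fintype.card F : ℂ) with hq
  have : Fintype (MulChar F ℂ) := Fintype.ofFinite _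
  have : Fintype (IrrCharacter G) := Fintype.ofFinite _
  set K := Finset.univ.filter fun χ : IrrCharacter G => ¬ Cusp (χ : G → ℂ) with hK
  set C := Finset.univ.filter fun χ : IrrCharacter G => Cusp (χ : G → ℂ) with hC
  have hKim : K = Finset.univ.image (known (F := F)) := by
    ext χ
    simpa [K] using (mem_range_known χ).symm
  have hm : (Fintype.card (MulChar F ℂ) : ℂ) = q - 1 := by
    rw [← Nat.card_eq_fintype_card, card_mulChar, Nat.cast_sub Fintype.card_pos, Nat.cast_one]
  have hP := two_mul_card_pairs (F := F)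
  rw [← hq] at hP
  have hcardK : (K.card : ℂ) = (q - 1) + (q - 1) + (Nat.card (Pairs F) : ℂ) := by
    rw [hKim, Finset.card_image_of_injective _ known_injective, Finset.card_univ, Fintype.card_sum,
      Fintype.card_sum, Nat.card_eq_fintype_card]
    push_cast [hm]
    rfl
  have hsqK : ∑ χ ∈ K, (χ : G → ℂ) 1 ^ 2 =
      (q - 1) + (q - 1) * q ^ 2 + (Nat.card (Pairs F) : ℂ) * (q + 1) ^ 2 := by
    rw [hKim, Finset.sum_image fun a _ b _ e => known_injective e]
    simp only [known_degree, Fintype.sum_sum_type, Sum.elim_inl, Sum.elim_inr, Finset.sum_const,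
      Finset.card_univ, nsmul_eq_mul, Nat.card_eq_fintype_card, hm, ← hq]
    ring
  have htot : (C.card : ℂ) + K.card = (q - 1) * (q + 1) := by
    rw [← Nat.cast_add, hC, hK, Finset.card_filter_add_card_filter_not, Finset.card_univ,
      ← Nat.card_eq_fintype_card, card_irr_eq_card_conjClasses, card_classes, Nat.cast_mul,
      Nat.cast_sub Fintype.card_pos]
    push_cast
    ring
  have hsq : (∑ χ ∈ C, (χ : G → ℂ) 1 ^ 2) + ∑ χ ∈ K, (χ : G → ℂ) 1 ^ 2 =
      (q ^ 2 - 1) * (q ^ 2 - q) := by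
    rw [hC, hK, Finset.sum_filter_add_sum_filter_not, ← card_group, ← sum_sq_degree]
    exact Finset.sum_congr (Finset.ext fun x => by simp) fun _ _ => rfl
  have hr : 2 * (C.card : ℂ) = q * (q - 1) := by
    linear_combination 2 * htot - 2 * hcardK - hP
  have hk : ∀ χ : {χ // χ ∈ C}, ∃ k : ℕ, 0 < k ∧ ures uGL (χ.1 : G → ℂ) 1 = k ∧
      (χ.1 : G → ℂ) 1 = (k : ℂ) * (q - 1) ∧ ∀ c : F, c ≠ 0 → (χ.1 : G → ℂ) (uGL c) = -(k : ℂ) :=
    fun χ => Cusp.shape ((Finset.mem_filter.1 χ.2).2) χ.1.2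
  choose k hk0 hk1 hk2 hk3 using hk
  have hsum : ∑ χ ∈ C, (χ : G → ℂ) 1 ^ 2 =
      ((∑ χ : {χ // χ ∈ C}, k χ ^ 2 : ℕ) : ℂ) * (q - 1) ^ 2 := by
    rw [← Finset.sum_coe_sort, Nat.cast_sum, Finset.sum_mul]
    exact Finset.sum_congr rfl fun χ _ => by rw [hk2]; push_cast; ring
  have hkeq : (∑ χ : {χ // χ ∈ C}, k χ ^ 2 : ℕ) = C.card := by
    have h1 : ((∑ χ : {χ // χ ∈ C}, k χ ^ 2 : ℕ) : ℂ) * (q - 1) ^ 2 = (C.card : ℂ) * (q - 1) ^ 2 := by
      rw [← hsum]
      linear_combination hsq - hsqK - ((q + 1) ^ 2 / 2) * hP - ((q - 1) ^ 2 / 2) * hr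
    exact_mod_cast mul_right_cancel₀ (pow_ne_zero 2 (card_sub_one_ne (F := F))) h1
  have hone : ∀ χ : {χ // χ ∈ C}, k χ = 1 := by
    intro χ
    by_contra hne
    have h4 : 4 ≤ k χ ^ 2 := by have := hk0 χ; have : 2 ≤ k χ := by omega
                                nlinarith
    have hle : ∑ _χ : {χ // χ ∈ C}, 1 < ∑ χ : {χ // χ ∈ C}, k χ ^ 2 :=
      Finset.sum_lt_sum (fun ξ _ => Nat.one_le_pow _ _ (hk0 ξ)) ⟨χ, Finset.mem_univ _, by omega⟩
    rw [hkeq] at hle
    simp at hle
  refine ⟨?_, fun χ hχ hc => ?_⟩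
  · rw [Nat.card_eq_fintype_card, Fintype.card_subtype]
    exact hr
  · have hmem : (⟨χ, hχ⟩ : IrrCharacter G) ∈ C := Finset.mem_filter.2 ⟨Finset.mem_univ _, hc⟩
    refine ⟨?_, ?_, fun c hc0 => ?_⟩
    · rw [show χ = ((⟨⟨χ, hχ⟩, hmem⟩ : {χ // χ ∈ C}).1 : G → ℂ) from rfl, hk1, hone]; simp
    · rw [show χ = ((⟨⟨χ, hχ⟩, hmem⟩ : {χ // χ ∈ C}).1 : G → ℂ) from rfl, hk2, hone]; simp [hq]
    · rw [show χ = ((⟨⟨χ, hχ⟩, hmem⟩ : {χ // χ ∈ C}).1 : G → ℂ) from rfl, hk3 _ c hc0, hone]; simp

theorem degree_cases {χ : G → ℂ} (hχ : IsIrrCharacter G χ) :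
    (∃ α, χ = lin α ∧ χ 1 = 1) ∨ (∃ α, χ = stb α ∧ χ 1 = (Fintype.card F : ℂ)) ∨
      (∃ α β, α ≠ β ∧ χ = ps α β ∧ χ 1 = (Fintype.card F : ℂ) + 1) ∨
      (Cusp χ ∧ χ 1 = (Fintype.card F : ℂ) - 1) := by
  rcases trichotomy hχ with ⟨α, rfl⟩ | ⟨α, rfl⟩ | ⟨α, β, h, rfl⟩ | h
  · exact Or.inl ⟨α, rfl, by simp [lin]⟩
  · exact Or.inr (Or.inl ⟨α, rfl, stb_one α⟩)
  · exact Or.inr (Or.inr (Or.inl ⟨α, β, h, rfl, ps_one α β⟩))
  · exact Or.inr (Or.inr (Or.inr ⟨h, (cusp_count.2 χ hχ h).2.1⟩))

end CfsgLib.RankOne.GLTwo
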