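import Cfsg.Agent.Lib.RankOne.Setup
import Cfsg.Agent.S0033
import Cfsg.Agent.Lib.Critical.Basic

/-!
Consequences for the rank-one set-up: inverted elements act without fixed points on `Q`,
so `Q` is nilpotent and the involutions of the point stabilizer are central in `Q`.
-/

set_option autoImplicit false
set_option linter.style.haveILetI false

namespace CfsgLib.RankOne

open MulAction

/-- In a group of odd order no nontrivial element is conjugate to its inverse. -/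
theorem eq_one_of_conj_inv {M : Type*} [Group M] [Finite M] {X : Subgroup M}
    (hodd : Odd (Nat.card X)) {x k : M} (hx : x ∈ X) (hk : k ∈ X) (h : k * x * k⁻¹ = x⁻¹) :
    x = 1 := by
  have hc : Commute (k ^ 2) x := by
    show k ^ 2 * x = x * k ^ 2
    calc k ^ 2 * x = k * (k * x * k⁻¹) * k⁻¹ * (k * k) := by rw [pow_two]; group
      _ = k * x⁻¹ * k⁻¹ * (k * k) := by rw [h]
      _ = (k * x * k⁻¹)⁻¹ * (k * k) := by group
      _ = x * k ^ 2 := by rw [h, inv_inv, pow_two]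
  have hc' : Commute k x := by
    have := hc.pow_left ((Nat.card X + 1) / 2)
    rwa [(sqrt_pow hodd hk).2] at this
  apply eq_one_of_sq hodd hx
  rw [show k * x * k⁻¹ = x by rw [hc'.eq]; group] at h
  nth_rewrite 1 [h]
  exact inv_mul_cancel x

variable {G Ω : Type*} [Group G] [Finite G] [MulAction G Ω] {a : Ω} {t : G} {Q : Subgroup G}

local notation "𝔸" => stabilizer G a
local notation "𝔻" => (stabilizer G a ⊓ stabilizer G (t • a))

variable (hS : Cfsg.IsRankOneSetup G Ω a t Q)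
include hS

/-- A nontrivial inverted element fixes only the two distinguished points. -/
theorem inverted_fix {x : G} (hx : x ∈ Cfsg.invertedBy 𝔻 t) (hx1 : x ≠ 1) {c : Ω}
    (hc : x • c = c) : c = a ∨ c = t • a := by
  by_contra hcon
  push Not at hcon
  obtain ⟨hxD, hxt⟩ := (inverted_iff hS).mp hx
  have hX : ({x} : Set G) ⊆ (𝔻 : Set G) := by simpa using hxD
  have h3 : ∃ b c d : Ω, b ≠ c ∧ b ≠ d ∧ c ≠ d ∧
      ∀ y ∈ ({x} : Set G), y • b = b ∧ y • c = c ∧ y • d = d :=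
    ⟨a, t • a, c, (b_ne hS).symm, hcon.1.symm, hcon.2.symm, by
      rintro y rfl; exact ⟨((mem_D hS).mp hxD).1, ((mem_D hS).mp hxD).2, hc⟩⟩
  obtain ⟨u, hu, huu, hua⟩ := fixed_swap hS hX h3
  have hux : x * u = u * x := hu x rfl
  obtain ⟨hdD, -⟩ := (inverted_iff hS).mp (swap_mem hS huu hua)
  refine hx1 (eq_one_of_conj_inv hS.odd_card hxD hdD ?_)
  calc u * t * x * (u * t)⁻¹ = u * (t * x * t) * u := by
        rw [mul_inv_rev, t_inv hS, invol_inv huu]; group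
    _ = u * x⁻¹ * u := by rw [hxt]
    _ = x⁻¹ := by
        rw [show u * x⁻¹ = x⁻¹ * u from (Commute.inv_right (show Commute u x from hux.symm)).eq,
          mul_assoc, huu, mul_one]

/-- Nontrivial inverted elements act without fixed points on `Q`. -/
theorem inverted_fpf {x q : G} (hx : x ∈ Cfsg.invertedBy 𝔻 t) (hx1 : x ≠ 1) (hq : q ∈ Q)
    (h : q * x = x * q) : q = 1 := by
  have hfix : x • (q • (t • a)) = q • (t • a) := by
    rw [← mul_smul, ← h, mul_smul, ((mem_D hS).mp hx.1).2]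
  rcases inverted_fix hS hx hx1 hfix with h1 | h1
  · exact absurd h1 (Q_smul_ne hS hq (b_ne hS))
  · exact Q_free hS hq (b_ne hS) h1

theorem exists_two_invol
    (h2 : ∃ x y : G, x ≠ 1 ∧ y ≠ 1 ∧ x ≠ y ∧ x * x = 1 ∧ y * y = 1 ∧ x * y = y * x) :
    ∃ s s' : G, s ∈ Cfsg.involutionsIn (𝔸 : Set G) ∧ s' ∈ Cfsg.involutionsIn (𝔸 : Set G) ∧
      s ≠ s' := by
  obtain ⟨x, y, hx1, hy1, hxy, hxx, hyy, hcom⟩ := h2
  obtain ⟨s, hs, hs1, hss⟩ := exists_invol hS
  obtain ⟨g, rfl⟩ := conj_invol hS hx1 hxx hs1 hss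
  refine ⟨g * x * g⁻¹, g * y * g⁻¹, ⟨hs, hs1, hss⟩, ⟨?_, fun e => hy1 (conj_eq_one_iff.mp e), ?_⟩, ?_⟩
  · refine mem_A_of_comm hS (mem_Q_of_invol hS hs hss) hs1 ?_
    calc g * y * g⁻¹ * (g * x * g⁻¹) = g * (y * x) * g⁻¹ := by group
      _ = g * (x * y) * g⁻¹ := by rw [hcom]
      _ = _ := by group
  · calc g * y * g⁻¹ * (g * y * g⁻¹) = g * (y * y) * g⁻¹ := by group
      _ = 1 := by rw [hyy]; group
  · exact fun e => hxy (mul_left_cancel (mul_right_cancel e))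

omit [Finite G] hS in
theorem inverted_pow {x : G} (hx : x ∈ Cfsg.invertedBy 𝔻 t) (n : ℕ) :
    x ^ n ∈ Cfsg.invertedBy 𝔻 t :=
  ⟨pow_mem hx.1 n, by rw [← conj_pow, hx.2, inv_pow]⟩

theorem exists_inverted
    (h2 : ∃ x y : G, x ≠ 1 ∧ y ≠ 1 ∧ x ≠ y ∧ x * x = 1 ∧ y * y = 1 ∧ x * y = y * x) :
    ∃ x ∈ Cfsg.invertedBy 𝔻 t, (orderOf x).Prime := by
  obtain ⟨s, s', hs, hs', hne⟩ := exists_two_invol hS h2
  obtain ⟨k, hk, hks⟩ := transitive hS hs hs'
  have hk1 : orderOf k ≠ 1 := fun e => hne (by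
    rw [orderOf_eq_one_iff.mp e] at hks; simpa using hks)
  obtain ⟨p, hp, hd⟩ := Nat.exists_prime_and_dvd hk1
  exact ⟨k ^ (orderOf k / p), inverted_pow hk _, by
    rw [orderOf_pow_orderOf_div (orderOf_pos k).ne' hd]; exact hp⟩

/-- Conjugation by an element of the point stabilizer, as an automorphism of `Q`. -/
def conjAutQ (x : G) (hx : x ∈ 𝔸) : MulAut Q where
  toFun q := ⟨x * q * x⁻¹, hS.conj_mem x hx _ q.2⟩
  invFun q := ⟨x⁻¹ * q * x, by
    have := hS.conj_mem x⁻¹ (inv_mem hx) _ q.2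
    rwa [inv_inv] at this⟩
  left_inv q := Subtype.ext (by simp [mul_assoc])
  right_inv q := Subtype.ext (by simp [mul_assoc])
  map_mul' q r := Subtype.ext (by simp [mul_assoc])

theorem Q_nilpotent
    (h2 : ∃ x y : G, x ≠ 1 ∧ y ≠ 1 ∧ x ≠ y ∧ x * x = 1 ∧ y * y = 1 ∧ x * y = y * x) :
    Group.IsNilpotent Q := by
  obtain ⟨x, hx, hp⟩ := exists_inverted hS h2
  have hx1 : x ≠ 1 := fun e => by rw [e, orderOf_one] at hp; exact Nat.not_prime_one hp
  set f : MulAut Q := conjAutQ hS x hx.1.1 with hf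
  have hfq : ∀ (n : ℕ) (q : Q), (((f ^ n) q : Q) : G) = x ^ n * q * (x ^ n)⁻¹ := by
    intro n
    induction n with
    | zero => intro q; simp
    | succ n ih =>
      intro q
      rw [pow_succ, MulAut.mul_apply, ih, pow_succ]
      show x ^ n * (x * q * x⁻¹) * (x ^ n)⁻¹ = _
      group
  have hfpf : MonoidHom.FixedPointFree (f : Q →* Q) := fun q h => Subtype.ext (by
    have h' : x * q * x⁻¹ = q := congrArg Subtype.val h
    exact inverted_fpf hS hx hx1 q.2 (mul_inv_eq_iff_eq_mul.mp h').symm)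
  refine Cfsg.Agent.S0033.result f hfpf _ hp ?_
  haveI := Fact.mk hp
  refine orderOf_eq_prime (MulEquiv.ext fun q => Subtype.ext ?_) fun e => ?_
  · rw [hfq, pow_orderOf_eq_one]; simp
  · obtain ⟨s, hs, hs1, hss⟩ := exists_invol hS
    exact hs1 (congrArg Subtype.val (hfpf ⟨s, mem_Q_of_invol hS hs hss⟩ (by rw [e]; rfl)))

theorem invol_central
    (h2 : ∃ x y : G, x ≠ 1 ∧ y ≠ 1 ∧ x ≠ y ∧ x * x = 1 ∧ y * y = 1 ∧ x * y = y * x)
    {s : G} (hs : s ∈ Cfsg.involutionsIn (𝔸 : Set G)) {q : G} (hq : q ∈ Q) : s * q = q * s := by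
  haveI : Fact (Nat.Prime 2) := ⟨Nat.prime_two⟩
  haveI := Q_nilpotent hS h2
  obtain ⟨P⟩ : Nonempty (Sylow 2 Q) := inferInstance
  have hne : (P : Subgroup Q) ≠ ⊥ := P.ne_bot_of_dvd_card (even_iff_two_dvd.mp hS.even_card)
  obtain ⟨z, hz, hz1⟩ := (Subgroup.bot_or_exists_ne_one _).resolve_left
    (CfsgLib.Critical.inf_center_ne_bot (P : Subgroup Q) hne)
  obtain ⟨hzP, hzc⟩ := Subgroup.mem_inf.mp hz
  obtain ⟨n, hn⟩ := P.isPGroup' ⟨z, hzP⟩
  have hord : 2 ∣ orderOf z := by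
    obtain ⟨j, hj, he⟩ := (Nat.dvd_prime_pow Nat.prime_two).mp
      (orderOf_dvd_of_pow_eq_one (show z ^ 2 ^ n = 1 from congrArg Subtype.val hn))
    rcases j with _ | j
    · exact absurd (orderOf_eq_one_iff.mp (by simpa using he)) hz1
    · exact ⟨2 ^ j, by rw [he, pow_succ']⟩
  set w := z ^ (orderOf z / 2) with hw
  have hw2 : orderOf w = 2 := orderOf_pow_orderOf_div (orderOf_pos z).ne' hord
  have hwc : w ∈ Subgroup.center Q := pow_mem hzc _
  have hwmem : (w : G) ∈ Cfsg.involutionsIn (𝔸 : Set G) := by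
    refine ⟨hS.le w.2, fun e => ?_, ?_⟩
    · rw [← Subgroup.orderOf_coe, e, orderOf_one] at hw2; omega
    · have := pow_orderOf_eq_one (w : G)
      rwa [Subgroup.orderOf_coe, hw2, pow_two] at this
  obtain ⟨k, hk, rfl⟩ := transitive hS hwmem hs
  have hkq : k * q * k⁻¹ ∈ Q := hS.conj_mem k hk.1.1 q hq
  have hc : (k * q * k⁻¹) * w = w * (k * q * k⁻¹) :=
    congrArg Subtype.val ((Subgroup.mem_center_iff.mp hwc) ⟨_, hkq⟩)
  calc k⁻¹ * w * k * q = k⁻¹ * (w * (k * q * k⁻¹)) * k := by group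
    _ = k⁻¹ * ((k * q * k⁻¹) * w) * k := by rw [hc]
    _ = q * (k⁻¹ * w * k) := by group

end CfsgLib.RankOne
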