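import Cfsg.Agent.Lib.RankOne.SLCusp
import Cfsg.Agent.S2331
import Cfsg.Agent.Lib.SL2.Facts

/-!
The class number of `SL₂(q)` and the number of its characters of each degree.
-/

set_option autoImplicit false
set_option linter.unusedSectionVars false

namespace CfsgLib.RankOne.SLTwo

open Cfsg CfsgLib.Char CfsgLib.RankOne
open scoped ComplexConjugate MatrixGroups

universe u

variable {F : Type u} [Field F] [Fintype F] [DecidableEq F]

local notation "G" => Matrix.SpecialLinearGroup (Fin 2) F

theorem uSL_nonScalar {t : F} (ht : t ≠ 0) :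
    CfsgLib.SL2.NonScalar ((uSL t : G) : Matrix (Fin 2) (Fin 2) F) := by
  rw [uSL_coe]
  exact (CfsgLib.SL2.nonScalar_iff _).2 (Or.inl (by simp [ht]))

theorem coe_neg_one_mul (g : G) : (((-1 : G) * g : G) : Matrix (Fin 2) (Fin 2) F) = -(g : Matrix (Fin 2) (Fin 2) F) := by
  rw [Matrix.SpecialLinearGroup.coe_mul, Matrix.SpecialLinearGroup.coe_neg,
    Matrix.SpecialLinearGroup.coe_one, neg_one_mul]

theorem isConj_neg {a b : G} (h : IsConj a b) : IsConj ((-1 : G) * a) ((-1 : G) * b) := by
  obtain ⟨c, rfl⟩ := isConj_iff.1 h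
  refine isConj_iff.2 ⟨c, ?_⟩
  have := Subgroup.mem_center_iff.1 (CfsgLib.SL2.neg_one_mem_center (F := F)) c
  rw [← mul_assoc c, this, mul_assoc, mul_assoc, mul_assoc]

/-- The class number of `SL₂(q)`, `q` odd. -/
theorem card_classes_odd (h2c : ringChar F ≠ 2) :
    Nat.card (ConjClasses G) = Fintype.card F + 4 := by
  obtain ⟨ν, hν0, hν, hd⟩ := CfsgLib.SL2.exists_nonsquare_dichotomy (F := F) h2c
  have h2 : (2 : F) ≠ 0 := Ring.two_ne_zero h2c
  let sg : Bool → G := fun s => if s then 1 else -1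
  let kd : Fin 3 → G := ![1, uSL 1, uSL ν]
  let f : {t : F // t * t ≠ 4} ⊕ Bool × Fin 3 → ConjClasses G := fun p => match p with
    | .inl t => ConjClasses.mk (CfsgLib.SL2.companion t.1)
    | .inr p => ConjClasses.mk (sg p.1 * kd p.2)
  have htr : ∀ (s : Bool) (k : Fin 3),
      ((sg s * kd k : G) : Matrix (Fin 2) (Fin 2) F).trace = if s then 2 else -2 := by
    intro s k
    cases s <;> fin_cases k <;>
      simp [sg, kd, uSL_coe, Matrix.trace_fin_two] <;> ring
  have hsc : ∀ a b : G, IsConj a b → ((a : Matrix (Fin 2) (Fin 2) F).trace = (b : Matrix (Fin 2) (Fin 2) F).trace) ∧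
      (a = 1 ↔ b = 1) := by
    intro a b h
    obtain ⟨c, rfl⟩ := isConj_iff.1 h
    exact ⟨(CfsgLib.SL2.trace_conj c a).symm, conj_eq_one_iff.symm⟩
  have hne2 : (2 : F) ≠ -2 := fun e => mul_ne_zero h2 h2 (by linear_combination e)
  have hu : ∀ {t : F}, t ≠ 0 → (uSL t : G) ≠ 1 := fun ht e => uSL_nonScalar ht 1 (by rw [e]; simp)
  have hkd : ∀ k l : Fin 3, IsConj (kd k) (kd l) → k = l := by
    have e01 : ¬ IsConj (1 : G) (uSL 1) := fun h => hu one_ne_zero (isConj_one_right.1 h)
    have e02 : ¬ IsConj (1 : G) (uSL ν) := fun h => hu hν0 (isConj_one_right.1 h)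
    have e12 : ¬ IsConj (uSL 1 : G) (uSL ν) := fun h => hν (by
      have := (CfsgLib.SL2.isConj_upperHom_iff (F := F) one_ne_zero hν0).1 h
      rwa [one_mul] at this)
    intro k l h
    fin_cases k <;> fin_cases l <;>
      simp only [kd, Fin.zero_eta, Fin.mk_one, Fin.reduceFinMk, Matrix.cons_val_zero, Matrix.cons_val_one,
        Matrix.cons_val] at h ⊢ <;>
      first
        | rfl
        | exact (e01 h).elim | exact (e01 h.symm).elim | exact (e02 h).elim | exact (e02 h.symm).elim
        | exact (e12 h).elim | exact (e12 h.symm).elim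
  have hinj : Function.Injective f := by
    rintro (t | ⟨s, k⟩) (t' | ⟨s', k'⟩) e <;> simp only [f] at e <;>
      have e' := ConjClasses.mk_eq_mk_iff_isConj.1 e
    · have := (hsc _ _ e').1
      rw [CfsgLib.SL2.companion_trace, CfsgLib.SL2.companion_trace] at this
      rw [Subtype.ext this]
    · have := (hsc _ _ e').1
      rw [CfsgLib.SL2.companion_trace, htr] at this
      exact absurd (by rw [this]; split_ifs <;> ring) t.2
    · have := (hsc _ _ e').1
      rw [CfsgLib.SL2.companion_trace, htr] at this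
      exact absurd (by rw [← this]; split_ifs <;> ring) t'.2
    · have := (hsc _ _ e').1
      rw [htr, htr] at this
      obtain rfl : s = s' := by
        cases s <;> cases s' <;> simp at this ⊢ <;> first | exact hne2 this | exact hne2 this.symm
      cases s
      · have e'' := isConj_neg e'
        simp only [sg, Bool.false_eq_true, if_false, ← mul_assoc] at e''
        rw [show (-1 : G) * (-1 : G) = 1 from Subtype.ext (by rw [coe_neg_one_mul]; simp), one_mul,
          one_mul] at e''
        rw [hkd k k' e'']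
      · simp only [sg, if_true, one_mul] at e'
        rw [hkd k k' e']
  have hsurj : Function.Surjective f := by
    intro C
    induction C using ConjClasses.mk_surjective.forall.2 with
    | _ g =>
      have hpos : ∀ g : G, (g : Matrix (Fin 2) (Fin 2) F).trace = 2 → ∃ k, IsConj (kd k) g := by
        intro g ht
        by_cases hs : CfsgLib.SL2.NonScalar (g : Matrix (Fin 2) (Fin 2) F)
        · obtain ⟨t, ht0, hgt⟩ := CfsgLib.SL2.exists_isConj_upperHom hs ht
          rcases hd t ht0 with h | h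
          · exact ⟨1, (hgt.trans ((CfsgLib.SL2.isConj_upperHom_iff ht0 one_ne_zero).2 (by rwa [mul_one]))).symm⟩
          · exact ⟨2, (hgt.trans ((CfsgLib.SL2.isConj_upperHom_iff ht0 hν0).2 h)).symm⟩
        · rcases CfsgLib.SL2.eq_one_or_neg_one_of_not_nonScalar g hs with h | h
          · rw [(CfsgLib.SL2.coe_eq_one_iff g).1 h]
            exact ⟨0, IsConj.refl _⟩
          · rw [h] at ht
            simp [Matrix.trace_fin_two] at ht
            exact absurd (by linear_combination -ht) hne2
      by_cases h4 : (g : Matrix (Fin 2) (Fin 2) F).trace * (g : Matrix (Fin 2) (Fin 2) F).trace = 4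
      · have hor : (g : Matrix (Fin 2) (Fin 2) F).trace = 2 ∨ (g : Matrix (Fin 2) (Fin 2) F).trace = -2 :=
          mul_self_eq_mul_self_iff.1 (h4.trans (by norm_num))
        rcases hor with ht | ht
        · obtain ⟨k, hk⟩ := hpos g ht
          exact ⟨.inr (true, k), ConjClasses.mk_eq_mk_iff_isConj.2 (by simpa [sg] using hk)⟩
        · obtain ⟨k, hk⟩ := hpos ((-1 : G) * g) (by rw [coe_neg_one_mul, Matrix.trace_neg, ht, neg_neg])
          have := isConj_neg hk
          rw [← mul_assoc (-1 : G) (-1 : G) g,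
            show (-1 : G) * (-1 : G) = 1 from Subtype.ext (by rw [coe_neg_one_mul]; simp), one_mul] at this
          exact ⟨.inr (false, k), ConjClasses.mk_eq_mk_iff_isConj.2 (by simpa [sg] using this)⟩
      · refine ⟨.inl ⟨_, h4⟩, ConjClasses.mk_eq_mk_iff_isConj.2 (isConj_iff.2 ?_)⟩
        exact CfsgLib.SL2.isConj_of_trace (CfsgLib.SL2.companion_nonScalar _)
          (CfsgLib.SL2.nonScalar_of_trace g h4)
          (CfsgLib.SL2.companion_trace _) (Or.inl (by rw [CfsgLib.SL2.companion_trace]; exact h4))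
  rw [← Nat.card_eq_of_bijective f ⟨hinj, hsurj⟩, Nat.card_sum, Nat.card_eq_fintype_card,
    Nat.card_eq_fintype_card, Fintype.card_prod, Fintype.card_bool, Fintype.card_fin,
    Fintype.card_subtype]
  have hcompl : (Finset.univ.filter fun t : F => t * t ≠ 4) = ({2, -2} : Finset F)ᶜ := by
    ext t
    simp only [Finset.mem_filter, Finset.mem_univ, true_and, Finset.mem_compl, Finset.mem_insert,
      Finset.mem_singleton]
    rw [ne_eq, show (4 : F) = 2 * 2 by norm_num, mul_self_eq_mul_self_iff]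
  rw [hcompl, Finset.card_compl, Finset.card_pair hne2]
  have := FiniteField.odd_card_of_char_ne_two h2c
  have : 2 ≤ Fintype.card F := Fintype.one_lt_card
  omega

theorem card_group : (Nat.card G : ℂ) =
    (Fintype.card F : ℂ) * ((Fintype.card F : ℂ) ^ 2 - 1) := by
  rw [CfsgLib.Classical.card_SL_two, Nat.cast_mul, Nat.cast_sub (Nat.one_le_pow _ _ Fintype.card_pos)]
  push_cast
  ring

/-- The number of characters `α` with `α² = 1`. -/
noncomputable def nquad (F : Type u) [Field F] : ℕ := Nat.card {α : MulChar F ℂ // α ^ 2 = 1}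

theorem nquad_odd (h2c : ringChar F ≠ 2) : nquad F = 2 := by
  obtain ⟨η, h2, h1⟩ := exists_quad (F := F) h2c
  rw [nquad, show {α : MulChar F ℂ // α ^ 2 = 1} = ↥({α : MulChar F ℂ | α ^ 2 = 1} : Set _) from rfl,
    Nat.card_coe_set_eq, show {α : MulChar F ℂ | α ^ 2 = 1} = {1, η} from Set.ext fun α => by
      simp only [Set.mem_setOf_eq, Set.mem_insert_iff, Set.mem_singleton_iff]
      constructor
      · intro h
        by_cases h' : α = 1
        · exact Or.inl h'
        · exact Or.inr (quad_unique h h' h2 h1)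
      · rintro (rfl | rfl)
        · exact one_pow 2
        · exact h2,
    Set.ncard_pair h1.symm]

theorem nquad_even (h2c : ringChar F = 2) : nquad F = 1 := by
  rw [nquad, Nat.card_eq_one_iff_unique]
  refine ⟨⟨fun a b => Subtype.ext ?_⟩, ⟨⟨1, one_pow 2⟩⟩⟩
  have h : ∀ α : MulChar F ℂ, α ^ 2 = 1 → α = 1 := fun α h => by
    by_contra h1
    exact ringChar_ne_two h h1 h2c
  rw [h _ a.2, h _ b.2]

/-- The principal series as a set. -/
noncomputable def psSet (F : Type u) [Field F] [Fintype F] [DecidableEq F] :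
    Set (IrrCharacter (Matrix.SpecialLinearGroup (Fin 2) F)) :=
  {χ | ∃ α : MulChar F ℂ, α ^ 2 ≠ 1 ∧ (χ : Matrix.SpecialLinearGroup (Fin 2) F → ℂ) = ps α}

theorem two_mul_card_psSet :
    2 * (Nat.card (psSet F) : ℂ) = (Fintype.card F : ℂ) - 1 - (nquad F : ℂ) := by
  classical
  have : Fintype (MulChar F ℂ) := Fintype.ofFinite _
  have : Fintype (IrrCharacter G) := Fintype.ofFinite _
  set S := (Finset.univ : Finset (MulChar F ℂ)).filter fun α => α ^ 2 ≠ 1 with hS
  let f : {α // α ∈ S} → IrrCharacter G := fun α => ⟨ps α.1, isIrr_ps (Finset.mem_filter.1 α.2).2⟩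
  have himg : Nat.card (psSet F) = (Finset.univ.image f).card := by
    rw [← Nat.card_eq_finsetCard]
    refine Nat.card_congr (Equiv.subtypeEquivRight fun χ => ?_)
    simp only [psSet, Set.mem_setOf_eq, Finset.mem_image, Finset.mem_univ, true_and]
    constructor
    · rintro ⟨α, h, e⟩
      exact ⟨⟨α, Finset.mem_filter.2 ⟨Finset.mem_univ _, h⟩⟩, Subtype.ext e.symm⟩
    · rintro ⟨α, rfl⟩
      exact ⟨α.1, (Finset.mem_filter.1 α.2).2, rfl⟩
  have hfib : ∀ χ ∈ Finset.univ.image f, (Finset.univ.filter fun α => f α = χ).card = 2 := by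
    intro χ hχ
    obtain ⟨α, -, rfl⟩ := Finset.mem_image.1 hχ
    have hα := (Finset.mem_filter.1 α.2).2
    have hmem : α.1⁻¹ ∈ S := Finset.mem_filter.2 ⟨Finset.mem_univ _, by rwa [inv_pow, ne_eq, inv_eq_one]⟩
    rw [show (Finset.univ.filter fun β => f β = f α) = {α, ⟨α.1⁻¹, hmem⟩} from ?_,
      Finset.card_pair fun e => (sq_ne_one_iff _).1 hα (congrArg Subtype.val e)]
    ext β
    simp only [Finset.mem_filter, Finset.mem_univ, true_and, Finset.mem_insert, Finset.mem_singleton, f,
      Subtype.ext_iff, ps_eq_iff]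
  have hcard := Finset.card_eq_sum_card_image f (Finset.univ : Finset {α // α ∈ S})
  rw [Finset.sum_congr rfl hfib, Finset.sum_const, smul_eq_mul, Finset.card_univ, Fintype.card_coe] at hcard
  have htot := Finset.card_filter_add_card_filter_not (s := (Finset.univ : Finset (MulChar F ℂ)))
    fun α => α ^ 2 ≠ 1
  rw [← hS, hcard, Finset.card_univ, ← Nat.card_eq_fintype_card, GLTwo.card_mulChar] at htot
  have hn : (Finset.univ.filter fun α : MulChar F ℂ => ¬ α ^ 2 ≠ 1).card = nquad F := by
    rw [nquad, Nat.card_eq_fintype_card, Fintype.card_subtype]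
    congr 1
    ext α
    simp
  rw [hn, ← himg] at htot
  have h := congrArg (fun n : ℕ => (n : ℂ)) htot
  simp only [Nat.cast_add, Nat.cast_mul, Nat.cast_sub Fintype.card_pos] at h
  push_cast at h
  linear_combination h

theorem card_half (h2c : ringChar F ≠ 2) :
    Nat.card {χ : IrrCharacter G // Half (χ : G → ℂ)} = 2 := by
  obtain ⟨η, h2, h1⟩ := exists_quad (F := F) h2c
  obtain ⟨χ₁, χ₂, i1, i2, hne, he, -⟩ := halves h2 h1
  rw [show {χ : IrrCharacter G // Half (χ : G → ℂ)} = ↥({χ | Half (χ : G → ℂ)} : Set (IrrCharacter G)) from rfl,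
    Nat.card_coe_set_eq,
    show {χ : IrrCharacter G | Half (χ : G → ℂ)} = {⟨χ₁, i1⟩, ⟨χ₂, i2⟩} from Set.ext fun χ => ?_,
    Set.ncard_pair fun e => hne (congrArg Subtype.val e)]
  simp only [Set.mem_setOf_eq, Set.mem_insert_iff, Set.mem_singleton_iff]
  constructor
  · rintro ⟨η', h2', h1', hi⟩
    rw [← quad_unique h2 h1 h2' h1', he, classInner_add_right] at hi
    by_contra hc
    push Not at hc
    rw [classInner_irr_ne χ.2 i1 fun e => hc.1 (Subtype.ext e),
      classInner_irr_ne χ.2 i2 fun e => hc.2 (Subtype.ext e), add_zero] at hi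
    exact hi rfl
  · rintro (rfl | rfl) <;> refine ⟨η, h2, h1, ?_⟩ <;> rw [he, classInner_add_right]
    · rw [classInner_irr_self i1, classInner_irr_ne i1 i2 hne]; simp
    · rw [classInner_irr_self i2, classInner_irr_ne i2 i1 hne.symm]; simp

theorem card_half_even (h2c : ringChar F = 2) :
    Nat.card {χ : IrrCharacter G // Half (χ : G → ℂ)} = 0 := by
  have : IsEmpty {χ : IrrCharacter G // Half (χ : G → ℂ)} := ⟨fun χ => χ.2.odd h2c⟩
  exact Nat.card_of_isEmpty

theorem Half.not_cusp {χ : G → ℂ} (h : Half χ) : ¬ Cusp χ := fun hc => by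
  obtain ⟨η, -, -, hi⟩ := h
  exact hi (hc η)

/-- The cuspidal characters: their number and the sum of their squared degrees. -/
theorem cusp_totals :
    (Nat.card (ConjClasses G) : ℂ) = 2 + (Nat.card (psSet F) : ℂ) +
        (Nat.card {χ : IrrCharacter G // Half (χ : G → ℂ)} : ℂ) +
        (Nat.card {χ : IrrCharacter G // Cusp (χ : G → ℂ)} : ℂ) ∧
      (Fintype.card F : ℂ) * ((Fintype.card F : ℂ) ^ 2 - 1) = 1 + (Fintype.card F : ℂ) ^ 2 +
        (Nat.card (psSet F) : ℂ) * ((Fintype.card F : ℂ) + 1) ^ 2 +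
        (Nat.card {χ : IrrCharacter G // Half (χ : G → ℂ)} : ℂ) * (((Fintype.card F : ℂ) + 1) / 2) ^ 2 +
        ∑ᶠ χ : {χ : IrrCharacter G // Cusp (χ : G → ℂ)}, (χ.1 : G → ℂ) 1 ^ 2 := by
  classical
  have : Fintype (IrrCharacter G) := Fintype.ofFinite _
  set q : ℂ := (Fintype.card F : ℂ) with hq
  have hq0 : q ≠ 0 := Nat.cast_ne_zero.2 Fintype.card_ne_zero
  let T : IrrCharacter G := ⟨triv, isIrr_triv⟩
  let S : IrrCharacter G := ⟨stb, isIrr_stb⟩
  set P := Finset.univ.filter fun χ : IrrCharacter G => χ ∈ psSet F with hP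
  set H := Finset.univ.filter fun χ : IrrCharacter G => Half (χ : G → ℂ) with hH
  set C := Finset.univ.filter fun χ : IrrCharacter G => Cusp (χ : G → ℂ) with hC
  have hTS : T ≠ S := fun e => GLTwo.card_ne_one (F := F) (by
    have := congrArg (fun χ : IrrCharacter G => (χ : G → ℂ) 1) e
    simp only [T, S, stb_one, triv] at this
    exact this.symm)
  have hps1 : ∀ {χ : IrrCharacter G}, χ ∈ P → (χ : G → ℂ) 1 = q + 1 := fun hχ => by
    obtain ⟨α, -, e⟩ := (Finset.mem_filter.1 hχ).2
    rw [e, ps_one]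
  have hH1 : ∀ {χ : IrrCharacter G}, χ ∈ H → (χ : G → ℂ) 1 = (q + 1) / 2 := fun {χ} hχ =>
    ((Finset.mem_filter.1 hχ).2.facts χ.2).1
  have hTS1 : ∀ {χ : IrrCharacter G}, χ ∈ ({T, S} : Finset _) → (χ : G → ℂ) 1 = 1 ∨ (χ : G → ℂ) 1 = q := by
    intro χ hχ
    simp only [Finset.mem_insert, Finset.mem_singleton] at hχ
    rcases hχ with rfl | rfl
    · exact Or.inl rfl
    · exact Or.inr stb_one
  have d1 : Disjoint ({T, S} : Finset _) P := Finset.disjoint_left.2 fun {χ} h h' => by
    rcases hTS1 h with e | e <;> rw [hps1 h'] at e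
    · exact hq0 (by linear_combination e)
    · exact one_ne_zero (by linear_combination e)
  have d2 : Disjoint (({T, S} : Finset _) ∪ P) H := Finset.disjoint_left.2 fun {χ} h h' => by
    rcases Finset.mem_union.1 h with h | h
    · rcases hTS1 h with e | e <;> rw [hH1 h'] at e <;>
        exact GLTwo.card_ne_one (F := F) (by rw [← hq]; first | linear_combination 2 * e | linear_combination -2 * e)
    · have e := hps1 h
      rw [hH1 h'] at e
      exact absurd (show q + 1 = 0 by linear_combination -2 * e) (by rw [hq]; exact_mod_cast (show Fintype.card F + 1 ≠ 0 from Nat.succ_ne_zero _))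
  have d3 : Disjoint ((({T, S} : Finset _) ∪ P) ∪ H) C := Finset.disjoint_left.2 fun {χ} h h' => by
    have hc := (Finset.mem_filter.1 h').2
    rcases Finset.mem_union.1 h with h | h
    · rcases Finset.mem_union.1 h with h | h
      · simp only [Finset.mem_insert, Finset.mem_singleton] at h
        rcases h with rfl | rfl
        · have := hc 1
          simp [T, inner_triv_ps] at this
        · have := hc 1
          simp [S, stb, classInner_sub_left, inner_ps, inner_triv_ps] at this
      · obtain ⟨α, hα, e⟩ := (Finset.mem_filter.1 h).2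
        have := hc α
        rw [e, inner_ps, if_pos rfl, if_neg ((sq_ne_one_iff α).1 hα), add_zero] at this
        exact one_ne_zero this
    · exact (Finset.mem_filter.1 h).2.not_cusp hc
  have huniv : (Finset.univ : Finset (IrrCharacter G)) = ((({T, S} : Finset _) ∪ P) ∪ H) ∪ C := by
    ext χ
    simp only [Finset.mem_univ, true_iff, Finset.mem_union, Finset.mem_insert, Finset.mem_singleton,
      P, H, C, Finset.mem_filter, true_and]
    rcases trichotomy χ.2 with h | h | h | h | h
    · exact Or.inl (Or.inl (Or.inl (Or.inl (Subtype.ext h))))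
    · exact Or.inl (Or.inl (Or.inl (Or.inr (Subtype.ext h))))
    · exact Or.inl (Or.inl (Or.inr h))
    · exact Or.inl (Or.inr h)
    · exact Or.inr h
  have cP : Nat.card (psSet F) = P.card := by
    rw [Nat.card_eq_fintype_card, Fintype.card_subtype]
  have cH : Nat.card {χ : IrrCharacter G // Half (χ : G → ℂ)} = H.card := by
    rw [Nat.card_eq_fintype_card, Fintype.card_subtype]
  have cC : Nat.card {χ : IrrCharacter G // Cusp (χ : G → ℂ)} = C.card := by
    rw [Nat.card_eq_fintype_card, Fintype.card_subtype]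
  constructor
  · rw [← card_irr_eq_card_conjClasses, Nat.card_eq_fintype_card, ← Finset.card_univ, huniv,
      Finset.card_union_of_disjoint d3, Finset.card_union_of_disjoint d2,
      Finset.card_union_of_disjoint d1, Finset.card_pair hTS, cP, cH, cC]
    push_cast
    ring
  · have hsum : ∑ χ : IrrCharacter G, (χ : G → ℂ) 1 ^ 2 = q * (q ^ 2 - 1) := by
      rw [← card_group, ← sum_sq_degree]
      exact Finset.sum_congr (Finset.ext fun x => by simp) fun _ _ => rfl
    rw [← hsum, huniv, Finset.sum_union d3, Finset.sum_union d2, Finset.sum_union d1,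
      Finset.sum_pair hTS, finsum_eq_sum_of_fintype, Finset.sum_congr rfl fun χ h => by rw [hps1 h],
      Finset.sum_congr rfl (s₁ := H) fun χ h => by rw [hH1 h], Finset.sum_const, Finset.sum_const,
      nsmul_eq_mul, nsmul_eq_mul, cP, cH,
      Finset.sum_subtype C (p := fun χ : IrrCharacter G => Cusp (χ : G → ℂ)) fun χ => by simp [C]]
    congr 4
    · simp [T, triv]
    · simp [S, stb_one, hq]

theorem card_cusp_even (h2c : ringChar F = 2) :
    2 * (Nat.card {χ : IrrCharacter G // Cusp (χ : G → ℂ)} : ℂ) = (Fintype.card F : ℂ) := by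
  have : CharP F 2 := h2c ▸ ringChar.charP F
  have h := (cusp_totals (F := F)).1
  have hp := two_mul_card_psSet (F := F)
  rw [Cfsg.Agent.S2331.result, card_half_even h2c] at h
  rw [nquad_even h2c] at hp
  push_cast at h hp
  linear_combination -2 * h - hp

/-- In odd characteristic: `(q-1)/2` cuspidal characters of degree `q-1`, two of half that degree. -/
theorem card_cusp_odd (h2c : ringChar F ≠ 2) :
    2 * (Nat.card {χ : IrrCharacter G // Cusp (χ : G → ℂ) ∧ (χ : G → ℂ) 1 = (Fintype.card F : ℂ) - 1} : ℂ) =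
        (Fintype.card F : ℂ) - 1 ∧
      Nat.card {χ : IrrCharacter G //
        Cusp (χ : G → ℂ) ∧ (χ : G → ℂ) 1 = ((Fintype.card F : ℂ) - 1) / 2} = 2 := by
  classical
  have : Fintype (IrrCharacter G) := Fintype.ofFinite _
  obtain ⟨h, hs⟩ := cusp_totals (F := F)
  have hp := two_mul_card_psSet (F := F)
  rw [card_classes_odd h2c, card_half h2c] at h
  rw [card_half h2c] at hs
  rw [nquad_odd h2c] at hp
  set q : ℂ := (Fintype.card F : ℂ) with hq
  have hne : q - 1 ≠ 0 := GLTwo.card_sub_one_ne (F := F)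
  set C := Finset.univ.filter fun χ : IrrCharacter G => Cusp (χ : G → ℂ) with hC
  set A := C.filter fun χ : IrrCharacter G => (χ : G → ℂ) 1 = q - 1 with hA
  set B := C.filter fun χ : IrrCharacter G => ¬ (χ : G → ℂ) 1 = q - 1 with hB
  have hB1 : ∀ χ ∈ B, (χ : G → ℂ) 1 = (q - 1) / 2 := fun χ hχ => by
    obtain ⟨h1, h2⟩ := Finset.mem_filter.1 hχ
    rcases Cusp.shape ((Finset.mem_filter.1 h1).2 : Cusp (χ : G → ℂ)) χ.2 with ⟨e, -⟩ | ⟨-, e, -⟩
    · exact absurd e h2
    · exact e
  have cA : Nat.card {χ : IrrCharacter G // Cusp (χ : G → ℂ) ∧ (χ : G → ℂ) 1 = q - 1} = A.card := by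
    rw [Nat.card_eq_fintype_card, Fintype.card_subtype, hA, hC, Finset.filter_filter]
  have cB : Nat.card {χ : IrrCharacter G // Cusp (χ : G → ℂ) ∧ (χ : G → ℂ) 1 = (q - 1) / 2} = B.card := by
    rw [Nat.card_eq_fintype_card, Fintype.card_subtype]
    congr 1
    ext χ
    simp only [Finset.mem_filter, Finset.mem_univ, true_and, hB, hC]
    constructor
    · rintro ⟨hc, e⟩
      exact ⟨hc, fun e' => hne (by rw [e] at e'; linear_combination -2 * e')⟩
    · rintro ⟨hc, e⟩
      exact ⟨hc, hB1 χ (Finset.mem_filter.2 ⟨Finset.mem_filter.2 ⟨Finset.mem_univ _, hc⟩, e⟩)⟩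
  have cC : Nat.card {χ : IrrCharacter G // Cusp (χ : G → ℂ)} = A.card + B.card := by
    rw [Nat.card_eq_fintype_card, Fintype.card_subtype, hA, hB, Finset.card_filter_add_card_filter_not]
  have hsum : (∑ᶠ χ : {χ : IrrCharacter G // Cusp (χ : G → ℂ)}, (χ.1 : G → ℂ) 1 ^ 2) =
      (A.card : ℂ) * (q - 1) ^ 2 + (B.card : ℂ) * ((q - 1) / 2) ^ 2 := by
    rw [finsum_eq_sum_of_fintype, ← Finset.sum_subtype C (fun χ => by simp [C]) fun χ : IrrCharacter G => (χ : G → ℂ) 1 ^ 2,
      ← Finset.sum_filter_add_sum_filter_not C fun χ : IrrCharacter G => (χ : G → ℂ) 1 = q - 1,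
      Finset.sum_congr rfl fun χ (hχ : χ ∈ A) => by rw [(Finset.mem_filter.1 hχ).2],
      Finset.sum_congr rfl fun χ (hχ : χ ∈ B) => by rw [hB1 χ hχ],
      Finset.sum_const, Finset.sum_const, nsmul_eq_mul, nsmul_eq_mul]
  rw [cC] at h
  rw [hsum] at hs
  push_cast at h hp hs
  have e1 : 2 * ((A.card : ℂ) + B.card) = q + 3 := by linear_combination -2 * h - hp
  have e2 : ((4 * (A.card : ℂ) + B.card) - 2 * q) * (q - 1) ^ 2 = 0 := by
    linear_combination -4 * hs - 2 * (q + 1) ^ 2 * hp
  have e3 : 4 * (A.card : ℂ) + B.card = 2 * q :=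
    sub_eq_zero.1 ((mul_eq_zero.1 e2).resolve_right (pow_ne_zero 2 hne))
  rw [cA, cB]
  refine ⟨by linear_combination (2 / 3 : ℂ) * e3 - (1 / 3 : ℂ) * e1, ?_⟩
  have : (B.card : ℂ) = 2 := by linear_combination (2 / 3 : ℂ) * e1 - (1 / 3 : ℂ) * e3
  exact_mod_cast this

end CfsgLib.RankOne.SLTwo
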