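import Cfsg.Agent.Lib.RankOne.SLHalves

/-!
The characters of `SL₂(q)` orthogonal to the principal series, by restriction from `GL₂(q)`.
-/

set_option autoImplicit false
set_option linter.unusedSectionVars false

namespace CfsgLib.RankOne.SLTwo

open Cfsg CfsgLib.Char CfsgLib.RankOne
open scoped ComplexConjugate MatrixGroups

universe u

variable {F : Type u} [Field F] [Fintype F] [DecidableEq F]

local notation "G" => Matrix.SpecialLinearGroup (Fin 2) F

theorem toGL_uSL (c : F) : Matrix.SpecialLinearGroup.toGL (uSL c : G) = GLTwo.uGL c :=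
  Units.ext (uSL_coe c)

theorem gl_ps_toGL (α β : MulChar F ℂ) (g : G) :
    GLTwo.ps α β (Matrix.SpecialLinearGroup.toGL g) = ps (α * β⁻¹) g := by
  have hdet := g.det_coe
  rw [Matrix.det_fin_two] at hdet
  have key : ∀ x y : F, x * y = 1 → α x * β y = (α * β⁻¹) x := fun x y h => by
    rw [MulChar.mul_apply, MulChar.inv_apply', inv_eq_of_mul_eq_one_right h]
  rw [GLTwo.ps_apply, ps_apply]
  show ((if (g : Matrix (Fin 2) (Fin 2) F) 1 0 = 0 then
      α ((g : Matrix (Fin 2) (Fin 2) F) 0 0) * β ((g : Matrix (Fin 2) (Fin 2) F) 1 1) else 0) + _) = _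
  congr 1
  · split_ifs with h
    · exact key _ _ (by rw [h] at hdet; linear_combination hdet)
    · rfl
  · refine Finset.sum_congr rfl fun c _ => ?_
    show (if (g : Matrix (Fin 2) (Fin 2) F) 0 1 +
        c * ((g : Matrix (Fin 2) (Fin 2) F) 0 0 - (g : Matrix (Fin 2) (Fin 2) F) 1 1) -
        c * c * (g : Matrix (Fin 2) (Fin 2) F) 1 0 = 0 then
      α ((g : Matrix (Fin 2) (Fin 2) F) 1 1 + c * (g : Matrix (Fin 2) (Fin 2) F) 1 0) *
        β ((g : Matrix (Fin 2) (Fin 2) F) 0 0 - c * (g : Matrix (Fin 2) (Fin 2) F) 1 0) else 0) = _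
    split_ifs with h
    · exact key _ _ (by linear_combination hdet + (g : Matrix (Fin 2) (Fin 2) F) 1 0 * h)
    · rfl

theorem Cusp.inner_triv {χ : G → ℂ} (hc : Cusp χ) (hχ : IsIrrCharacter G χ) :
    classInner triv χ = 0 :=
  classInner_irr_ne isIrr_triv hχ fun e => by
    have := hc 1
    rw [← e, inner_triv_ps, if_pos rfl] at this
    exact one_ne_zero this

theorem inner_ps_cusp {χ : G → ℂ} (hc : Cusp χ) (α : MulChar F ℂ) : classInner (ps α) χ = 0 := by
  rw [← classInner_conj_symm, hc α, map_zero]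

/-- A cuspidal character lies below a cuspidal character of `GL₂`. -/
theorem Cusp.exists_gl {χ : G → ℂ} (hc : Cusp χ) (hχ : IsIrrCharacter G χ) :
    ∃ θ : Matrix.GeneralLinearGroup (Fin 2) F → ℂ, IsIrrCharacter _ θ ∧ GLTwo.Cusp θ ∧
      classInner (fun g : G => θ (Matrix.SpecialLinearGroup.toGL g)) χ ≠ 0 := by
  classical
  by_contra hn
  push Not at hn
  have hzero : ∀ θ : IrrCharacter (Matrix.GeneralLinearGroup (Fin 2) F),
      classInner (fun g : G => (θ : Matrix.GeneralLinearGroup (Fin 2) F → ℂ) (Matrix.SpecialLinearGroup.toGL g)) χ = 0 := by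
    intro θ
    rcases GLTwo.trichotomy θ.2 with ⟨α, e⟩ | ⟨α, e⟩ | ⟨α, β, -, e⟩ | h
    · rw [e, show (fun g : G => GLTwo.lin α (Matrix.SpecialLinearGroup.toGL g)) = triv from
        funext fun g => by
          show α (g : Matrix (Fin 2) (Fin 2) F).det = 1
          rw [g.det_coe, map_one]]
      exact hc.inner_triv hχ
    · rw [e, show (fun g : G => GLTwo.stb α (Matrix.SpecialLinearGroup.toGL g)) = ps 1 - triv from
        funext fun g => by
          show GLTwo.ps α α (Matrix.SpecialLinearGroup.toGL g) - α (g : Matrix (Fin 2) (Fin 2) F).det = _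
          rw [gl_ps_toGL, mul_inv_cancel, g.det_coe, map_one]
          rfl,
        classInner_sub_left, inner_ps_cusp hc, hc.inner_triv hχ, sub_zero]
    · rw [e, show (fun g : G => GLTwo.ps α β (Matrix.SpecialLinearGroup.toGL g)) = ps (α * β⁻¹) from
        funext fun g => gl_ps_toGL α β g]
      exact inner_ps_cusp hc _
    · exact hn _ θ.2 h
  have hsum : classInner (fun g : G => ∑ θ : IrrCharacter (Matrix.GeneralLinearGroup (Fin 2) F),
      (θ : Matrix.GeneralLinearGroup (Fin 2) F → ℂ) 1 * (θ : Matrix.GeneralLinearGroup (Fin 2) F → ℂ) (Matrix.SpecialLinearGroup.toGL g)) χ = 0 := by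
    rw [show (fun g : G => ∑ θ : IrrCharacter (Matrix.GeneralLinearGroup (Fin 2) F),
        (θ : Matrix.GeneralLinearGroup (Fin 2) F → ℂ) 1 * (θ : Matrix.GeneralLinearGroup (Fin 2) F → ℂ) (Matrix.SpecialLinearGroup.toGL g)) =
      ∑ θ : IrrCharacter (Matrix.GeneralLinearGroup (Fin 2) F),
        (θ : Matrix.GeneralLinearGroup (Fin 2) F → ℂ) 1 • fun g : G => (θ : Matrix.GeneralLinearGroup (Fin 2) F → ℂ) (Matrix.SpecialLinearGroup.toGL g) from
      funext fun g => by simp, classInner_sum_left]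
    exact Finset.sum_eq_zero fun θ _ => by rw [classInner_smul_left, hzero, mul_zero]
  simp only [sum_degree_mul_irr, classInner, map_eq_one_iff _ CfsgLib.Classical.toGL_injective',
    ite_mul, zero_mul, Finset.sum_ite_eq', Finset.mem_univ, if_true, mul_eq_zero, inv_eq_zero,
    Nat.cast_eq_zero, Nat.card_pos.ne', false_or, starRingEnd_apply, star_eq_zero] at hsum
  exact irr_degree_ne_zero hχ hsum

/-- Fourier coefficients of a cuspidal character. -/
theorem Cusp.bound {χ : G → ℂ} (hc : Cusp χ) (hχ : IsIrrCharacter G χ) (a : F) :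
    ∃ n : ℕ, ures uSL χ a = n ∧ n ≤ 1 ∧ (a = 0 → n = 0) := by
  obtain ⟨θ, hθ, hθc, hi⟩ := hc.exists_gl hχ
  obtain ⟨n, m, hn, hm, hle⟩ := ures_le hχ
    (isCharacter_comp Matrix.SpecialLinearGroup.toGL (isCharacter_of_isIrr hθ)) hi a
  have hval : ures uSL (fun g : G => θ (Matrix.SpecialLinearGroup.toGL g)) a =
      ures GLTwo.uGL θ a := by
    simp only [ures, toGL_uSL]
  rw [hval] at hm
  by_cases ha : a = 0
  · rw [ha, hθc.ures_zero' (isClassFunction_of_isCharacter (isCharacter_of_isIrr hθ))] at hm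
    have : m = 0 := by exact_mod_cast hm.symm
    exact ⟨n, hn, by omega, fun _ => by omega⟩
  · rw [GLTwo.ures_const (isClassFunction_of_isCharacter (isCharacter_of_isIrr hθ)) ha,
      (GLTwo.cusp_count.2 θ hθ hθc).1] at hm
    have : m = 1 := by exact_mod_cast hm.symm
    exact ⟨n, hn, by omega, fun e => absurd e ha⟩

theorem Cusp.ures_zero' {χ : G → ℂ} (hc : Cusp χ) (hχ : IsIrrCharacter G χ) :
    ures uSL χ 0 = 0 := by
  obtain ⟨n, hn, -, h0⟩ := hc.bound hχ 0
  rw [hn, h0 rfl, Nat.cast_zero]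

/-- The averages of a cuspidal character over the root subgroup vanish. -/
theorem Cusp.average {χ : G → ℂ} (hc : Cusp χ) (hχ : IsClassFunction G χ) (a : Fˣ) :
    ∑ b : F, χ (tri a b) = 0 := by
  classical
  refine GLTwo.vanish_of_correlations (fun a => ∑ b : F, χ (tri a b)) (fun α => ?_) a
  have h := hc α
  rw [ps, frobenius_reciprocity' _ _ hχ, classInner, sum_bor, mul_eq_zero] at h
  rw [← h.resolve_left (inv_ne_zero (Nat.cast_ne_zero.2 Nat.card_pos.ne'))]
  refine Finset.sum_congr rfl fun a _ => ?_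
  rw [Finset.sum_mul]
  rfl

theorem Cusp.split {χ : G → ℂ} (hc : Cusp χ) (hχ : IsClassFunction G χ) (a : Fˣ)
    (ha : (a : F) ^ 2 ≠ 1) : χ (tri a 0) = 0 := by
  have hd : ((a⁻¹ : Fˣ) : F) - a ≠ 0 := fun e => ha (by
    rw [sub_eq_zero] at e
    calc (a : F) ^ 2 = (a : F) * (a : F) := sq _
      _ = (a : F) * ((a⁻¹ : Fˣ) : F) := by rw [← e]
      _ = 1 := a.mul_inv)
  have hconj : ∀ b, χ (tri a b) = χ (tri a 0) := by
    intro b
    rw [← hχ (tri a 0) (uSL (b / (((a⁻¹ : Fˣ) : F) - a)))]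
    congr 1
    rw [eq_mul_inv_iff_mul_eq]
    refine Subtype.ext ?_
    simp only [Matrix.SpecialLinearGroup.coe_mul, tri_coe, uSL_coe, Matrix.mul_fin_two]
    ext i j
    fin_cases i <;> fin_cases j <;> simp
    rw [Units.val_inv_eq_inv_val] at hd
    field_simp
    field_simp at hd
    ring
  have := hc.average hχ a
  simp only [hconj _, Finset.sum_const, Finset.card_univ, nsmul_eq_mul, mul_eq_zero,
    Nat.cast_eq_zero, Fintype.card_ne_zero, false_or] at this
  exact this

/-- The quadratic character with complex values. -/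
noncomputable def qc (F : Type u) [Field F] [Fintype F] [DecidableEq F] : MulChar F ℂ :=
  (quadraticChar F).ringHomComp (Int.castRingHom ℂ)

theorem qc_ne_one (h : ringChar F ≠ 2) : qc F ≠ 1 :=
  (MulChar.ringHomComp_ne_one_iff (RingHom.injective_int _)).2 (quadraticChar_ne_one h)

theorem qc_apply {a : F} (ha : a ≠ 0) : qc F a = if IsSquare a then 1 else -1 := by
  rw [qc, MulChar.ringHomComp_apply]
  split_ifs with hs
  · rw [(quadraticChar_one_iff_isSquare ha).2 hs]; simp
  · rw [quadraticChar_neg_one_iff_not_isSquare.2 hs]; simp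

theorem sum_qc_psi (h : ringChar F ≠ 2) :
    (∑ a : F, qc F a * psi F (a * 1)) ^ 2 =
      (-1 : ℂ) ^ ((Fintype.card F - 1) / 2) * (Fintype.card F : ℂ) := by
  have hg := gaussSum_sq (qc_ne_one h) ((quadraticChar_isQuadratic F).comp (Int.castRingHom ℂ))
    (ψ := psi F) (AddChar.FiniteField.primitiveChar_to_Complex_isPrimitive F)
  have hsum : (∑ a : F, qc F a * psi F (a * 1)) = gaussSum (qc F) (psi F) := by
    simp only [mul_one, gaussSum]
  rw [hsum, hg]
  congr 1
  have hodd := FiniteField.odd_card_of_char_ne_two h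
  rw [qc, MulChar.ringHomComp_apply, quadraticChar_neg_one h, ZMod.χ₄_eq_neg_one_pow hodd,
    show (Fintype.card F - 1) / 2 = Fintype.card F / 2 by omega]
  simp

/-- The restriction to the root subgroup in odd characteristic. -/
theorem expand_odd {χ : G → ℂ} (hχ : IsClassFunction G χ) {ν : F} (hν0 : ν ≠ 0) (hν : ¬ IsSquare ν)
    (hd : ∀ t : F, t ≠ 0 → IsSquare t ∨ IsSquare (t * ν)) (c : F) :
    χ (uSL c) = ures uSL χ 0 +
      (ures uSL χ 1 + ures uSL χ ν) / 2 * ((if c = 0 then (Fintype.card F : ℂ) else 0) - 1) +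
      (ures uSL χ 1 - ures uSL χ ν) / 2 * ∑ a : F, qc F a * psi F (a * c) := by
  have hval : ∀ a : F, a ≠ 0 → ures uSL χ a = (ures uSL χ 1 + ures uSL χ ν) / 2 +
      (ures uSL χ 1 - ures uSL χ ν) / 2 * qc F a := by
    intro a ha
    rw [qc_apply ha]
    rcases ures_cases hχ hν0 hd ha with ⟨hs, h⟩ | ⟨hs, h⟩
    · rw [h, if_pos hs]; ring
    · rw [h, if_neg fun hs' => hν ?_]
      · ring
      · have := hs.div hs'
        rwa [mul_div_cancel_left₀ _ ha] at this
  rw [ures_expand uSL χ c, ← Finset.add_sum_erase _ _ (Finset.mem_univ (0 : F)), zero_mul,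
    AddChar.map_zero_eq_one, mul_one, add_assoc,
    Finset.sum_congr rfl (g := fun a => (ures uSL χ 1 + ures uSL χ ν) / 2 * psi F (c * a) +
      (ures uSL χ 1 - ures uSL χ ν) / 2 * (qc F a * psi F (a * c))) fun a ha => by
      rw [hval a (Finset.ne_of_mem_erase ha), mul_comm a c]; ring,
    Finset.sum_add_distrib, ← Finset.mul_sum, ← Finset.mul_sum,
    Finset.sum_erase_eq_sub (Finset.mem_univ _), Finset.sum_erase_eq_sub (Finset.mem_univ _),
    psi_sum, MulChar.map_zero]
  simp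

theorem degree_odd {χ : G → ℂ} (hχ : IsClassFunction G χ) {ν : F} (hν0 : ν ≠ 0) (hν : ¬ IsSquare ν)
    (hd : ∀ t : F, t ≠ 0 → IsSquare t ∨ IsSquare (t * ν)) :
    χ 1 = ures uSL χ 0 + (ures uSL χ 1 + ures uSL χ ν) / 2 * ((Fintype.card F : ℂ) - 1) := by
  have h2 : ringChar F ≠ 2 := fun e => hν (FiniteField.isSquare_of_char_two e ν)
  have := expand_odd hχ hν0 hν hd 0
  simp only [mul_zero, AddChar.map_zero_eq_one, mul_one, if_true,
    MulChar.sum_eq_zero_of_ne_one (qc_ne_one h2), add_zero] at this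
  exact this

/-- The two kinds of cuspidal characters. -/
theorem Cusp.shape {χ : G → ℂ} (hc : Cusp χ) (hχ : IsIrrCharacter G χ) :
    (χ 1 = (Fintype.card F : ℂ) - 1 ∧ ∀ a : F, a ≠ 0 → ures uSL χ a = 1) ∨
      (ringChar F ≠ 2 ∧ χ 1 = ((Fintype.card F : ℂ) - 1) / 2 ∧
        ∀ ν : Fˣ, ¬ IsSquare (ν : F) → ures uSL χ 1 + ures uSL χ ν = 1) := by
  have hcl := isClassFunction_of_isCharacter (isCharacter_of_isIrr hχ)
  obtain ⟨n, hn, hn1, -⟩ := hc.bound hχ 1
  have hdeg : χ 1 = ∑ a : F, ures uSL χ a := by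
    have := ures_expand uSL χ 0
    simp only [mul_zero, AddChar.map_zero_eq_one, mul_one] at this
    exact this
  by_cases h2 : ringChar F = 2
  · have hall : ∀ a : F, a ≠ 0 → ures uSL χ a = n := by
      intro a ha
      obtain ⟨s, hs⟩ := FiniteField.isSquare_of_char_two h2 a
      have := ures_sq hcl (s := s) (fun e => ha (by rw [hs, e, mul_zero])) 1
      rwa [mul_one, sq, ← hs, hn] at this
    have h1 : n = 1 := by
      by_contra hne
      obtain rfl : n = 0 := by omega
      exact irr_degree_ne_zero hχ (by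
        rw [hdeg]
        refine Finset.sum_eq_zero fun a _ => ?_
        by_cases ha : a = 0
        · rw [ha, hc.ures_zero' hχ]
        · rw [hall a ha, Nat.cast_zero])
    subst h1
    refine Or.inl ⟨?_, fun a ha => by rw [hall a ha, Nat.cast_one]⟩
    rw [hdeg, ← Finset.add_sum_erase _ _ (Finset.mem_univ (0 : F)), hc.ures_zero' hχ, zero_add,
      Finset.sum_congr rfl (g := fun _ => (1 : ℂ)) fun a ha => by
        rw [hall a (Finset.ne_of_mem_erase ha), Nat.cast_one],
      Finset.sum_const, Finset.card_erase_of_mem (Finset.mem_univ _), Finset.card_univ, nsmul_eq_mul,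
      mul_one, Nat.cast_sub Fintype.card_pos, Nat.cast_one]
  · obtain ⟨ν, hν0, hν, hd⟩ := CfsgLib.SL2.exists_nonsquare_dichotomy (F := F) h2
    obtain ⟨m, hm, hm1, -⟩ := hc.bound hχ ν
    have hD := degree_odd hcl hν0 hν hd
    rw [hc.ures_zero' hχ, zero_add, hn, hm] at hD
    interval_cases n <;> interval_cases m
    · exact absurd (by rw [hD]; simp) (irr_degree_ne_zero hχ)
    · refine Or.inr ⟨h2, by rw [hD]; push_cast; ring, fun μ hμ => ?_⟩
      rcases ures_cases hcl hν0 hd μ.ne_zero with ⟨hs, -⟩ | ⟨-, h⟩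
      · exact absurd hs hμ
      · rw [h, hn, hm]; simp
    · refine Or.inr ⟨h2, by rw [hD]; push_cast; ring, fun μ hμ => ?_⟩
      rcases ures_cases hcl hν0 hd μ.ne_zero with ⟨hs, -⟩ | ⟨-, h⟩
      · exact absurd hs hμ
      · rw [h, hn, hm]; simp
    · refine Or.inl ⟨by rw [hD]; push_cast; ring, fun a ha => ?_⟩
      rcases ures_cases hcl hν0 hd ha with ⟨-, h⟩ | ⟨-, h⟩
      · rw [h, hn]; simp
      · rw [h, hm]; simp

/-- The degrees of the irreducible characters. -/
theorem degree_cases {χ : G → ℂ} (hχ : IsIrrCharacter G χ) :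
    (χ = triv ∧ χ 1 = 1) ∨ (χ = stb ∧ χ 1 = (Fintype.card F : ℂ)) ∨
      ((∃ α, α ^ 2 ≠ 1 ∧ χ = ps α) ∧ χ 1 = (Fintype.card F : ℂ) + 1) ∨
      (Half χ ∧ χ 1 = ((Fintype.card F : ℂ) + 1) / 2) ∨
      (Cusp χ ∧ χ 1 = (Fintype.card F : ℂ) - 1) ∨
      (Cusp χ ∧ ringChar F ≠ 2 ∧ χ 1 = ((Fintype.card F : ℂ) - 1) / 2) := by
  rcases trichotomy hχ with rfl | rfl | ⟨α, h, rfl⟩ | h | h
  · exact Or.inl ⟨rfl, rfl⟩
  · exact Or.inr (Or.inl ⟨rfl, stb_one⟩)
  · exact Or.inr (Or.inr (Or.inl ⟨⟨α, h, rfl⟩, ps_one α⟩))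
  · exact Or.inr (Or.inr (Or.inr (Or.inl ⟨h, (h.facts hχ).1⟩)))
  · rcases h.shape hχ with ⟨hd, -⟩ | ⟨h2, hd, -⟩
    · exact Or.inr (Or.inr (Or.inr (Or.inr (Or.inl ⟨h, hd⟩))))
    · exact Or.inr (Or.inr (Or.inr (Or.inr (Or.inr ⟨h, h2, hd⟩))))

end CfsgLib.RankOne.SLTwo
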