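import Cfsg.Agent.Lib.RankOne.SLCount

/-!
For `q ≥ 4` the degree tells the kind of an irreducible character of `SL₂(q)`.
-/

set_option autoImplicit false
set_option linter.unusedSectionVars false

namespace CfsgLib.RankOne.SLTwo

open Cfsg CfsgLib.Char CfsgLib.RankOne
open scoped ComplexConjugate MatrixGroups

universe u

variable {F : Type u} [Field F] [Fintype F] [DecidableEq F]

local notation "G" => Matrix.SpecialLinearGroup (Fin 2) F

theorem half_cast (hodd : Odd (Fintype.card F)) :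
    (((Fintype.card F + 1) / 2 : ℕ) : ℂ) = ((Fintype.card F : ℂ) + 1) / 2 ∧
      (((Fintype.card F - 1) / 2 : ℕ) : ℂ) = ((Fintype.card F : ℂ) - 1) / 2 := by
  obtain ⟨k, hk⟩ := hodd
  rw [hk, show (2 * k + 1 + 1) / 2 = k + 1 by omega, show (2 * k + 1 - 1) / 2 = k by omega]
  push_cast
  constructor <;> ring

theorem ringChar_of_odd (hodd : Odd (Fintype.card F)) : ringChar F ≠ 2 := fun e => by
  have := FiniteField.even_card_of_char_two e
  obtain ⟨k, hk⟩ := hodd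
  omega

theorem kind_of_degree_one {χ : G → ℂ} (hq : 4 ≤ Fintype.card F) (hχ : IsIrrCharacter G χ) (h : χ 1 = 1) :
    χ = triv := by
  have hq' : (4 : ℝ) ≤ Fintype.card F := by exact_mod_cast hq
  rcases degree_cases hχ with ⟨e, -⟩ | ⟨-, e⟩ | ⟨-, e⟩ | ⟨-, e⟩ | ⟨-, e⟩ | ⟨-, -, e⟩
  · exact e
  all_goals (rw [h] at e; have := congrArg Complex.re e; simp at this; try first | linarith | omega)

theorem kind_of_degree_card {χ : G → ℂ} (hχ : IsIrrCharacter G χ) (h : χ 1 = (Fintype.card F : ℂ)) :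
    χ = stb := by
  have hq2 : 2 ≤ Fintype.card F := Fintype.one_lt_card
  have hq' : (2 : ℝ) ≤ Fintype.card F := by exact_mod_cast (Fintype.one_lt_card : 1 < Fintype.card F)
  rcases degree_cases hχ with ⟨-, e⟩ | ⟨e, -⟩ | ⟨-, e⟩ | ⟨-, e⟩ | ⟨-, e⟩ | ⟨-, -, e⟩
  rotate_left
  · exact e
  all_goals (rw [h] at e; have := congrArg Complex.re e; simp at this; try first | linarith | omega)

theorem kind_of_degree_succ {χ : G → ℂ} (hχ : IsIrrCharacter G χ) (h : χ 1 = (Fintype.card F : ℂ) + 1) :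
    ∃ α : MulChar F ℂ, α ^ 2 ≠ 1 ∧ χ = ps α := by
  have hq2 : 2 ≤ Fintype.card F := Fintype.one_lt_card
  have hq' : (2 : ℝ) ≤ Fintype.card F := by exact_mod_cast (Fintype.one_lt_card : 1 < Fintype.card F)
  rcases degree_cases hχ with ⟨-, e⟩ | ⟨-, e⟩ | ⟨e, -⟩ | ⟨-, e⟩ | ⟨-, e⟩ | ⟨-, -, e⟩
  rotate_left; rotate_left
  · exact e
  all_goals (rw [h] at e; have := congrArg Complex.re e; simp at this; try first | linarith | omega)

theorem kind_of_degree_half {χ : G → ℂ} (hq : 4 ≤ Fintype.card F) (hχ : IsIrrCharacter G χ)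
    (h : χ 1 = ((Fintype.card F : ℂ) + 1) / 2) : Half χ := by
  have hq' : (4 : ℝ) ≤ Fintype.card F := by exact_mod_cast hq
  rcases degree_cases hχ with ⟨-, e⟩ | ⟨-, e⟩ | ⟨-, e⟩ | ⟨e, -⟩ | ⟨-, e⟩ | ⟨-, -, e⟩
  rotate_left; rotate_left; rotate_left
  · exact e
  all_goals (rw [h] at e; have := congrArg Complex.re e; simp at this; try first | linarith | omega)

theorem kind_of_degree_pred {χ : G → ℂ} (hq : 4 ≤ Fintype.card F) (hχ : IsIrrCharacter G χ)
    (h : χ 1 = (Fintype.card F : ℂ) - 1) : Cusp χ := by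
  have hq' : (4 : ℝ) ≤ Fintype.card F := by exact_mod_cast hq
  rcases degree_cases hχ with ⟨-, e⟩ | ⟨-, e⟩ | ⟨-, e⟩ | ⟨-, e⟩ | ⟨e, -⟩ | ⟨e, -, -⟩
  rotate_left; rotate_left; rotate_left; rotate_left
  · exact e
  · exact e
  all_goals (rw [h] at e; have := congrArg Complex.re e; simp at this; try first | linarith | omega)

theorem kind_of_degree_half_pred {χ : G → ℂ} (hq : 4 ≤ Fintype.card F) (hχ : IsIrrCharacter G χ)
    (h : χ 1 = ((Fintype.card F : ℂ) - 1) / 2) : Cusp χ := by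
  have hq' : (4 : ℝ) ≤ Fintype.card F := by exact_mod_cast hq
  rcases degree_cases hχ with ⟨-, e⟩ | ⟨-, e⟩ | ⟨-, e⟩ | ⟨-, e⟩ | ⟨e, -⟩ | ⟨e, -, -⟩
  rotate_left; rotate_left; rotate_left; rotate_left
  · exact e
  · exact e
  all_goals (rw [h] at e; have := congrArg Complex.re e; simp at this; try first | linarith | omega)

theorem card_degree_one (hq : 4 ≤ Fintype.card F) :
    Nat.card {χ : IrrCharacter G // (χ : G → ℂ) 1 = 1} = 1 := by
  rw [Nat.card_eq_one_iff_unique]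
  exact ⟨⟨fun a b => Subtype.ext (Subtype.ext ((kind_of_degree_one hq a.1.2 a.2).trans
    (kind_of_degree_one hq b.1.2 b.2).symm))⟩, ⟨⟨⟨triv, isIrr_triv⟩, rfl⟩⟩⟩

theorem card_degree_card :
    Nat.card {χ : IrrCharacter G // (χ : G → ℂ) 1 = (Fintype.card F : ℂ)} = 1 := by
  rw [Nat.card_eq_one_iff_unique]
  exact ⟨⟨fun a b => Subtype.ext (Subtype.ext ((kind_of_degree_card a.1.2 a.2).trans
    (kind_of_degree_card b.1.2 b.2).symm))⟩, ⟨⟨⟨stb, isIrr_stb⟩, stb_one⟩⟩⟩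

theorem card_degree_succ :
    Nat.card {χ : IrrCharacter G // (χ : G → ℂ) 1 = (Fintype.card F : ℂ) + 1} = Nat.card (psSet F) :=
  Nat.card_congr (Equiv.subtypeEquivRight fun χ => ⟨fun h => kind_of_degree_succ χ.2 h,
    fun ⟨α, _, e⟩ => by rw [e]; exact ps_one α⟩)

theorem card_degree_half (hq : 4 ≤ Fintype.card F) :
    Nat.card {χ : IrrCharacter G // (χ : G → ℂ) 1 = ((Fintype.card F : ℂ) + 1) / 2} =
      Nat.card {χ : IrrCharacter G // Half (χ : G → ℂ)} :=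
  Nat.card_congr (Equiv.subtypeEquivRight fun χ => ⟨fun h => kind_of_degree_half hq χ.2 h,
    fun h => (h.facts χ.2).1⟩)

theorem card_degree_pred (hq : 4 ≤ Fintype.card F) :
    Nat.card {χ : IrrCharacter G // (χ : G → ℂ) 1 = (Fintype.card F : ℂ) - 1} =
      Nat.card {χ : IrrCharacter G // Cusp (χ : G → ℂ) ∧ (χ : G → ℂ) 1 = (Fintype.card F : ℂ) - 1} :=
  Nat.card_congr (Equiv.subtypeEquivRight fun χ => ⟨fun h => ⟨kind_of_degree_pred hq χ.2 h, h⟩,
    fun h => h.2⟩)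

theorem card_degree_half_pred (hq : 4 ≤ Fintype.card F) :
    Nat.card {χ : IrrCharacter G // (χ : G → ℂ) 1 = ((Fintype.card F : ℂ) - 1) / 2} =
      Nat.card {χ : IrrCharacter G //
        Cusp (χ : G → ℂ) ∧ (χ : G → ℂ) 1 = ((Fintype.card F : ℂ) - 1) / 2} :=
  Nat.card_congr (Equiv.subtypeEquivRight fun χ => ⟨fun h => ⟨kind_of_degree_half_pred hq χ.2 h, h⟩,
    fun h => h.2⟩)

/-- The value at `uSL 1` when one square class occurs in the restriction. -/
theorem value_root {χ : G → ℂ} (hχ : IsIrrCharacter G χ) {ν : F} (hν0 : ν ≠ 0) (hν : ¬ IsSquare ν)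
    (hd : ∀ t : F, t ≠ 0 → IsSquare t ∨ IsSquare (t * ν))
    (hsum : ures uSL χ 1 + ures uSL χ ν = 1) :
    (2 * χ (uSL 1) - (2 * ures uSL χ 0 - 1)) ^ 2 =
      (-1 : ℂ) ^ ((Fintype.card F - 1) / 2) * (Fintype.card F : ℂ) := by
  have h2 : ringChar F ≠ 2 := fun e => hν (FiniteField.isSquare_of_char_two e ν)
  have hc := isCharacter_of_isIrr hχ
  obtain ⟨m, hm⟩ := exists_nat_ures uSL hc 1
  obtain ⟨n, hn⟩ := exists_nat_ures uSL hc ν
  rw [hm, hn] at hsum
  have hmn : m + n = 1 := by exact_mod_cast hsum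
  have hsq : ((m : ℂ) - n) ^ 2 = 1 := by
    obtain ⟨rfl, rfl⟩ | ⟨rfl, rfl⟩ : (m = 0 ∧ n = 1) ∨ (m = 1 ∧ n = 0) := by omega
    all_goals norm_num
  rw [expand_odd (isClassFunction_of_isCharacter hc) hν0 hν hd 1, if_neg one_ne_zero, ← sum_qc_psi h2,
    hm, hn]
  obtain ⟨S, hS⟩ : ∃ S : ℂ, S = ∑ a : F, qc F a * psi F (a * 1) := ⟨_, rfl⟩
  rw [← hS, hsum]
  linear_combination S ^ 2 * hsq

end CfsgLib.RankOne.SLTwo
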