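import Cfsg.Agent.Lib.RankOne.SLTwo

/-!
The principal series of a quadratic character of `SL₂(q)` splits in two conjugate halves.
-/

set_option autoImplicit false
set_option linter.unusedSectionVars false

namespace CfsgLib.RankOne.SLTwo

open Cfsg CfsgLib.Char CfsgLib.RankOne
open scoped ComplexConjugate MatrixGroups

universe u

variable {F : Type u} [Field F] [Fintype F] [DecidableEq F]

local notation "G" => Matrix.SpecialLinearGroup (Fin 2) F

/-- A character of norm two has two distinct constituents. -/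
theorem two_constituents {H : Type*} [Group H] [Fintype H] {φ : H → ℂ} (hφ : IsCharacter H φ)
    (h : classInner φ φ = 2) :
    ∃ μ ν : H → ℂ, IsIrrCharacter H μ ∧ IsIrrCharacter H ν ∧ μ ≠ ν ∧ φ = μ + ν := by
  classical
  have hcl := isClassFunction_of_isCharacter hφ
  choose n hn using fun ψ : IrrCharacter H => exists_nat_classInner hφ (isCharacter_of_isIrr ψ.2)
  have hexp : φ = ∑ ψ : IrrCharacter H, ((n ψ : ℤ) : ℂ) • (ψ : H → ℂ) := by
    conv_lhs => rw [classFunction_expansion hcl]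
    exact Finset.sum_congr rfl fun ψ _ => by rw [hn]; push_cast; rfl
  rw [hexp, sum_sq_coeff] at h
  have h2 : ∑ ψ : IrrCharacter H, n ψ ^ 2 = 2 := by exact_mod_cast h
  have hle : ∀ ψ, n ψ ≤ 1 := fun ψ => by
    have := Finset.single_le_sum (f := fun x => n x ^ 2) (fun _ _ => Nat.zero_le _) (Finset.mem_univ ψ)
    rw [h2] at this
    by_contra hc
    have : 2 ^ 2 ≤ n ψ ^ 2 := Nat.pow_le_pow_left (by omega) 2
    omega
  have hS : (Finset.univ.filter fun ψ => n ψ = 1).card = 2 := by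
    rw [Finset.card_filter, ← h2]
    refine Finset.sum_congr rfl fun ψ _ => ?_
    have := hle ψ
    interval_cases n ψ <;> simp
  obtain ⟨μ, ν, hne, hS'⟩ := Finset.card_eq_two.1 hS
  refine ⟨μ, ν, μ.2, ν.2, fun e => hne (Subtype.ext e), hexp.trans ?_⟩
  rw [← Finset.sum_filter_add_sum_filter_not Finset.univ (fun ψ => n ψ = 1), hS', Finset.sum_pair hne]
  have hμ : n μ = 1 := by
    have : μ ∈ Finset.univ.filter fun ψ => n ψ = 1 := by rw [hS']; exact Finset.mem_insert_self _ _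
    exact (Finset.mem_filter.1 this).2
  have hν : n ν = 1 := by
    have : ν ∈ Finset.univ.filter fun ψ => n ψ = 1 := by rw [hS']; simp
    exact (Finset.mem_filter.1 this).2
  rw [Finset.sum_eq_zero fun ψ hψ => ?_, hμ, hν]
  · simp
  · have h1 := hle ψ
    have h0 : n ψ = 0 := by have := (Finset.mem_filter.1 hψ).2; omega
    simp [h0]

/-- A Fourier coefficient of a constituent is at most that of the whole. -/
theorem ures_le {χ Θ : G → ℂ} (hχ : IsIrrCharacter G χ) (hΘ : IsCharacter G Θ)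
    (h : classInner Θ χ ≠ 0) (a : F) :
    ∃ n m : ℕ, ures uSL χ a = n ∧ ures uSL Θ a = m ∧ n ≤ m := by
  classical
  choose c hc using fun ψ : IrrCharacter G => exists_nat_classInner hΘ (isCharacter_of_isIrr ψ.2)
  choose d hd using fun ψ : IrrCharacter G => exists_nat_ures uSL (isCharacter_of_isIrr ψ.2) a
  refine ⟨d ⟨χ, hχ⟩, ∑ ψ : IrrCharacter G, c ψ * d ψ, hd ⟨χ, hχ⟩, ?_, ?_⟩
  · have hexp := classFunction_expansion (isClassFunction_of_isCharacter hΘ)
    push_cast
    simp only [← hd, ures]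
    simp only [Finset.mul_sum]
    rw [Finset.sum_comm]
    refine Finset.sum_congr rfl fun x _ => ?_
    conv_lhs => rw [hexp]
    rw [Finset.sum_apply, Finset.sum_mul, Finset.mul_sum]
    refine Finset.sum_congr rfl fun ψ _ => ?_
    rw [Pi.smul_apply, smul_eq_mul, hc]
    ring
  · refine le_trans ?_ (Finset.single_le_sum (f := fun ψ => c ψ * d ψ) (fun _ _ => Nat.zero_le _)
      (Finset.mem_univ (⟨χ, hχ⟩ : IrrCharacter G)))
    refine Nat.le_mul_of_pos_left _ (Nat.pos_of_ne_zero fun e => h ?_)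
    have := hc ⟨χ, hχ⟩
    rw [e, Nat.cast_zero] at this
    exact this

/-- A quadratic character forces odd characteristic. -/
theorem ringChar_ne_two {η : MulChar F ℂ} (h2 : η ^ 2 = 1) (h1 : η ≠ 1) : ringChar F ≠ 2 := by
  intro hc
  refine h1 (MulChar.ext fun x => ?_)
  obtain ⟨y, hy⟩ := FiniteField.isSquare_of_char_two hc (x : F)
  have hy0 : y ≠ 0 := fun e => x.ne_zero (by rw [hy, e, mul_zero])
  have := MulChar.pow_apply' η two_ne_zero y
  rw [h2, MulChar.one_apply (isUnit_iff_ne_zero.2 hy0), sq, ← map_mul, ← hy] at this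
  rw [← this, MulChar.one_apply_coe]

theorem apply_square {η : MulChar F ℂ} (h2 : η ^ 2 = 1) {x : F} (hx : x ≠ 0) (hs : IsSquare x) :
    η x = 1 := by
  obtain ⟨y, rfl⟩ := hs
  have hy0 : y ≠ 0 := fun e => hx (by rw [e, mul_zero])
  have := MulChar.pow_apply' η two_ne_zero y
  rw [h2, MulChar.one_apply (isUnit_iff_ne_zero.2 hy0), sq, ← map_mul] at this
  exact this.symm

theorem quad_unique {η η' : MulChar F ℂ} (h2 : η ^ 2 = 1) (h1 : η ≠ 1) (h2' : η' ^ 2 = 1)
    (h1' : η' ≠ 1) : η = η' := by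
  obtain ⟨ν, hν0, hν, hd⟩ := CfsgLib.SL2.exists_nonsquare_dichotomy (ringChar_ne_two h2 h1)
  have key : ∀ θ : MulChar F ℂ, θ ^ 2 = 1 → θ ≠ 1 → ∀ x : Fˣ, θ x = if IsSquare (x : F) then 1 else -1 := by
    intro θ t2 t1 x
    have hν1 : θ ν = -1 := by
      have := MulChar.pow_apply' θ two_ne_zero ν
      rw [t2, MulChar.one_apply (isUnit_iff_ne_zero.2 hν0), eq_comm, sq_eq_one_iff] at this
      refine this.resolve_left fun e => t1 (MulChar.ext fun x => ?_)
      rw [MulChar.one_apply_coe]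
      rcases hd x x.ne_zero with hs | hs
      · exact apply_square t2 x.ne_zero hs
      · have := apply_square t2 (mul_ne_zero x.ne_zero hν0) hs
        rwa [map_mul, e, mul_one] at this
    split_ifs with hs
    · exact apply_square t2 x.ne_zero hs
    · have := apply_square t2 (mul_ne_zero x.ne_zero hν0) ((hd x x.ne_zero).resolve_left hs)
      rw [map_mul, hν1] at this
      linear_combination -this
  exact MulChar.ext fun x => by rw [key η h2 h1, key η' h2' h1']

theorem exists_quad (h : ringChar F ≠ 2) : ∃ η : MulChar F ℂ, η ^ 2 = 1 ∧ η ≠ 1 :=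
  ⟨(quadraticChar F).ringHomComp (Int.castRingHom ℂ),
    ((quadraticChar_isQuadratic F).comp _).sq_eq_one,
    (MulChar.ringHomComp_ne_one_iff (RingHom.injective_int _)).2 (quadraticChar_ne_one h)⟩

/-- The halves of a quadratic principal series. -/
theorem halves {η : MulChar F ℂ} (h2 : η ^ 2 = 1) (h1 : η ≠ 1) :
    ∃ χ₁ χ₂ : G → ℂ, IsIrrCharacter G χ₁ ∧ IsIrrCharacter G χ₂ ∧ χ₁ ≠ χ₂ ∧ ps η = χ₁ + χ₂ ∧
      χ₁ 1 = ((Fintype.card F : ℂ) + 1) / 2 ∧ χ₂ 1 = ((Fintype.card F : ℂ) + 1) / 2 ∧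
      (∀ ν : Fˣ, ¬ IsSquare (ν : F) → ∀ g, χ₂ g = χ₁ (twist ν g)) ∧
      ures uSL χ₁ 0 = 1 ∧ ures uSL χ₂ 0 = 1 := by
  have hii : η = η⁻¹ := by by_contra e; exact (sq_ne_one_iff η).2 e h2
  have hnorm : classInner (ps η) (ps η) = 2 := by
    rw [inner_ps, if_pos rfl, if_pos hii]; norm_num
  obtain ⟨χ₁, χ₂, i1, i2, hne, he⟩ := two_constituents (isCharacter_ps η) hnorm
  have c1 := isClassFunction_of_isCharacter (isCharacter_of_isIrr i1)
  have hinner : ∀ ψ : G → ℂ, IsIrrCharacter G ψ → classInner ψ (ps η) ≠ 0 → ψ = χ₁ ∨ ψ = χ₂ := by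
    intro ψ hψ h
    by_contra hc
    push Not at hc
    rw [he, classInner_add_right, classInner_irr_ne hψ i1 hc.1, classInner_irr_ne hψ i2 hc.2, add_zero] at h
    exact h rfl
  have htriv : ∀ ψ : G → ℂ, IsIrrCharacter G ψ → classInner ψ (ps η) ≠ 0 → ψ ≠ triv := by
    intro ψ _ h e
    rw [e, inner_triv_ps, if_neg h1] at h
    exact h rfl
  have h1' : classInner χ₁ (ps η) = 1 := by
    rw [he, classInner_add_right, classInner_irr_self i1, classInner_irr_ne i1 i2 hne, add_zero]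
  have hsum : ∀ a, ures uSL χ₁ a + ures uSL χ₂ a = ures uSL (ps η) a := fun a => by rw [he, ures_add]
  have htw : ∀ ν : Fˣ, ¬ IsSquare (ν : F) → (fun g => χ₁ (twist ν g)) = χ₂ := by
    intro ν hν
    refine (hinner _ (isIrr_twist i1 ν) (by rw [inner_twist_ps, h1']; exact one_ne_zero)).resolve_left fun e => ?_
    obtain ⟨ν', hν'0, hν', hd⟩ := CfsgLib.SL2.exists_nonsquare_dichotomy (ringChar_ne_two h2 h1)
    have hrel : ∀ a, ures uSL χ₁ a = ures uSL χ₁ (((ν⁻¹ : Fˣ) : F) * a) := fun a => by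
      conv_lhs => rw [← e]
      exact ures_twist χ₁ ν a
    have hconst : ures uSL χ₁ ν' = ures uSL χ₁ 1 := by
      rcases ures_cases c1 hν'0 hd (a := ((ν⁻¹ : Fˣ) : F) * 1) (by simp) with ⟨hs, -⟩ | ⟨-, h'⟩
      · refine absurd ?_ hν
        rw [mul_one, Units.val_inv_eq_inv_val] at hs
        simpa using hs.inv
      · rw [← h', ← hrel]
    obtain ⟨k, hk⟩ := exists_nat_ures uSL (isCharacter_of_isIrr i1) 1
    obtain ⟨l, hl⟩ := exists_nat_ures uSL (isCharacter_of_isIrr i2) 1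
    have hkl : k + l = 1 := by
      have h := hsum 1
      rw [hk, hl, ures_ps_ne η one_ne_zero] at h
      exact_mod_cast h
    have hall : ∀ a : F, a ≠ 0 → ures uSL χ₁ a = k := by
      intro a ha
      rcases ures_cases c1 hν'0 hd ha with ⟨-, h⟩ | ⟨-, h⟩
      · rw [h, hk]
      · rw [h, hconst, hk]
    rcases Nat.eq_zero_or_pos k with rfl | hkpos
    · exact htriv χ₁ i1 (by rw [h1']; exact one_ne_zero)
        (eq_triv_of_ures i1 fun a ha => by rw [hall a ha, Nat.cast_zero])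
    · have hk1 : k = 1 := by omega
      refine htriv χ₂ i2 (by rw [he, classInner_add_right, classInner_irr_self i2,
        classInner_irr_ne i2 i1 hne.symm]; simp) (eq_triv_of_ures i2 fun a ha => ?_)
      have h := hsum a
      rw [hall a ha, hk1, ures_ps_ne η ha, Nat.cast_one] at h
      linear_combination h
  obtain ⟨ν₀, hν₀0, hν₀, -⟩ := CfsgLib.SL2.exists_nonsquare_dichotomy (ringChar_ne_two h2 h1)
  have hν₀u : ¬ IsSquare ((Units.mk0 ν₀ hν₀0 : Fˣ) : F) := hν₀
  have hdeg : χ₂ 1 = χ₁ 1 := by rw [← htw _ hν₀u]; simp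
  have htot := congrFun he 1
  rw [ps_one, Pi.add_apply, hdeg] at htot
  have h0 : ures uSL χ₂ 0 = ures uSL χ₁ 0 := by rw [← htw _ hν₀u, ures_twist, mul_zero]
  have hs0 := hsum 0
  rw [h0, ures_ps_zero] at hs0
  refine ⟨χ₁, χ₂, i1, i2, hne, he, by linear_combination -(1 / 2 : ℂ) * htot,
    by rw [hdeg]; linear_combination -(1 / 2 : ℂ) * htot,
    fun ν hν g => (congrFun (htw ν hν) g).symm, by linear_combination (1 / 2 : ℂ) * hs0,
    by rw [h0]; linear_combination (1 / 2 : ℂ) * hs0⟩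

/-- A constituent of a quadratic principal series. -/
def Half (χ : G → ℂ) : Prop :=
  ∃ η : MulChar F ℂ, η ^ 2 = 1 ∧ η ≠ 1 ∧ classInner χ (ps η) ≠ 0

/-- Orthogonal to every principal series character. -/
def Cusp (χ : G → ℂ) : Prop := ∀ α, classInner χ (ps α) = 0

theorem trichotomy {χ : G → ℂ} (hχ : IsIrrCharacter G χ) :
    χ = triv ∨ χ = stb ∨ (∃ α, α ^ 2 ≠ 1 ∧ χ = ps α) ∨ Half χ ∨ Cusp χ := by
  by_cases hc : Cusp χ
  · exact Or.inr (Or.inr (Or.inr (Or.inr hc)))
  simp only [Cusp, not_forall] at hc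
  obtain ⟨α, h⟩ := hc
  by_cases hsq : α ^ 2 = 1
  · by_cases hα : α = 1
    · subst hα
      rw [show ps (1 : MulChar F ℂ) = triv + stb by rw [stb, add_sub_cancel], classInner_add_right] at h
      by_cases h1 : classInner χ triv = 0
      · rw [h1, zero_add] at h
        exact Or.inr (Or.inl (eq_of_inner_ne_zero hχ isIrr_stb h))
      · exact Or.inl (eq_of_inner_ne_zero hχ isIrr_triv h1)
    · exact Or.inr (Or.inr (Or.inr (Or.inl ⟨α, hsq, hα, h⟩)))
  · exact Or.inr (Or.inr (Or.inl ⟨α, hsq, eq_of_inner_ne_zero hχ (isIrr_ps hsq) h⟩))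

theorem Half.odd {χ : G → ℂ} (h : Half χ) : ringChar F ≠ 2 := by
  obtain ⟨η, h2, h1, -⟩ := h
  exact ringChar_ne_two h2 h1

theorem Half.facts {χ : G → ℂ} (h : Half χ) (hχ : IsIrrCharacter G χ) :
    χ 1 = ((Fintype.card F : ℂ) + 1) / 2 ∧ ures uSL χ 0 = 1 ∧
      ∀ ν : Fˣ, ¬ IsSquare (ν : F) →
        Half (fun g => χ (twist ν g)) ∧
        ∀ η : MulChar F ℂ, η ^ 2 = 1 → η ≠ 1 → ∀ g, χ g + χ (twist ν g) = ps η g := by
  obtain ⟨η, h2, h1, hi⟩ := h
  obtain ⟨χ₁, χ₂, i1, i2, hne, he, d1, d2, htw, z1, z2⟩ := halves h2 h1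
  have hor : χ = χ₁ ∨ χ = χ₂ := by
    by_contra hc
    push Not at hc
    rw [he, classInner_add_right, classInner_irr_ne hχ i1 hc.1, classInner_irr_ne hχ i2 hc.2, add_zero] at hi
    exact hi rfl
  refine ⟨by rcases hor with rfl | rfl <;> assumption, by rcases hor with rfl | rfl <;> assumption,
    fun ν hν => ⟨⟨η, h2, h1, by rw [inner_twist_ps]; exact hi⟩, fun η' h2' h1' g => ?_⟩⟩
  rw [← quad_unique h2 h1 h2' h1']
  rcases hor with rfl | rfl
  · rw [he, Pi.add_apply, htw ν hν]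
  · have := ps_twist η ν g
    rw [he, Pi.add_apply, Pi.add_apply, ← htw ν hν] at this
    rw [he, Pi.add_apply]
    linear_combination this

end CfsgLib.RankOne.SLTwo
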