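import Cfsg.Agent.Lib.RankOne.GLTwo
import Cfsg.Agent.Lib.SL2.UnipotentClasses

/-!
Characters of `SL₂(q)` coming from the Borel subgroup: principal series, Steinberg, halves.
-/

set_option autoImplicit false
set_option linter.unusedSectionVars false

namespace CfsgLib.RankOne.SLTwo

open Cfsg CfsgLib.Char CfsgLib.RankOne
open scoped ComplexConjugate MatrixGroups

universe u

variable {F : Type u} [Field F] [Fintype F] [DecidableEq F]

local notation "G" => Matrix.SpecialLinearGroup (Fin 2) F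

/-- The standard Borel subgroup. -/
abbrev Bor (F : Type u) [Field F] : Subgroup (Matrix.SpecialLinearGroup (Fin 2) F) :=
  (Cfsg.upperTriangularGL 2 F).comap Matrix.SpecialLinearGroup.toGL

theorem mem_bor {g : G} : g ∈ Bor F ↔ (g : Matrix (Fin 2) (Fin 2) F) 1 0 = 0 :=
  Subgroup.mem_comap.trans GLTwo.mem_bor

/-- The root subgroup. -/
def uSL : AddChar F G where
  toFun c := CfsgLib.SL2.upperHom (Multiplicative.ofAdd c)
  map_zero_eq_one' := CfsgLib.SL2.upperHom.map_one
  map_add_eq_mul' a b := CfsgLib.SL2.upperHom.map_mul (Multiplicative.ofAdd a) (Multiplicative.ofAdd b)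

theorem uSL_coe (c : F) : ((uSL c : G) : Matrix (Fin 2) (Fin 2) F) = !![1, c; 0, 1] :=
  CfsgLib.SL2.upperHom_coe _

theorem eq_uSL {g : G} {c : F} (h : (g : Matrix (Fin 2) (Fin 2) F) = !![1, c; 0, 1]) : g = uSL c :=
  Subtype.ext (h.trans (uSL_coe c).symm)

/-- An upper triangular element. -/
def tri (a : Fˣ) (b : F) : G :=
  ⟨!![(a : F), b; 0, ((a⁻¹ : Fˣ) : F)], by rw [Matrix.det_fin_two_of]; simp⟩

theorem tri_coe (a : Fˣ) (b : F) :
    ((tri a b : G) : Matrix (Fin 2) (Fin 2) F) = !![(a : F), b; 0, ((a⁻¹ : Fˣ) : F)] := rfl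

theorem tri_mem (a : Fˣ) (b : F) : tri a b ∈ Bor F := mem_bor.2 rfl

theorem exists_tri {g : G} (h : (g : Matrix (Fin 2) (Fin 2) F) 1 0 = 0) :
    ∃ (a : Fˣ) (b : F), g = tri a b := by
  have hdet := g.det_coe
  rw [Matrix.det_fin_two, h, mul_zero, sub_zero] at hdet
  refine ⟨⟨_, _, hdet, by rw [mul_comm]; exact hdet⟩, (g : Matrix (Fin 2) (Fin 2) F) 0 1,
    Subtype.ext ?_⟩
  rw [tri_coe]
  ext i j
  fin_cases i <;> fin_cases j <;> simp [h]

/-- The coordinates of the Borel subgroup. -/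
noncomputable def borEquiv : Fˣ × F ≃ Bor F :=
  Equiv.ofBijective (fun p => ⟨tri p.1 p.2, tri_mem _ _⟩) ⟨by
    rintro ⟨a, b⟩ ⟨a', b'⟩ e
    have e' := congrArg (fun x : Bor F => ((x : G) : Matrix (Fin 2) (Fin 2) F)) e
    have h1 := congrFun (congrFun e' 0) 0
    have h2 := congrFun (congrFun e' 0) 1
    simp [tri_coe] at h1 h2
    rw [Units.ext h1, h2], by
    rintro ⟨g, hg⟩
    obtain ⟨a, b, rfl⟩ := exists_tri (mem_bor.1 hg)
    exact ⟨(a, b), rfl⟩⟩

noncomputable instance borFintype : Fintype (Bor F) := Fintype.ofEquiv _ borEquiv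

theorem card_bor : (Nat.card (Bor F) : ℂ) = ((Fintype.card F : ℂ) - 1) * Fintype.card F := by
  rw [← Nat.card_congr borEquiv, Nat.card_prod, Nat.card_eq_fintype_card,
    Nat.card_eq_fintype_card, Fintype.card_units]
  push_cast [Nat.cast_sub Fintype.card_pos]
  ring

theorem sum_bor {M : Type*} [AddCommMonoid M] (φ : Bor F → M) :
    ∑ b : Bor F, φ b = ∑ a : Fˣ, ∑ b : F, φ ⟨tri a b, tri_mem a b⟩ := by
  rw [← Equiv.sum_comp borEquiv, Fintype.sum_prod_type]
  rfl

/-- The linear character of the Borel subgroup. -/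
noncomputable def lam (α : MulChar F ℂ) : Bor F → ℂ := fun b =>
  α (((b : G) : Matrix (Fin 2) (Fin 2) F) 0 0)

/-- The character `lam` as a homomorphism. -/
noncomputable def lamHom (α : MulChar F ℂ) : Bor F →* ℂ where
  toFun := lam α
  map_one' := by simp [lam]
  map_mul' b c := by
    simp [lam, Matrix.mul_apply, Fin.sum_univ_two, mem_bor.1 c.2]

theorem isCharacter_lam (α : MulChar F ℂ) : IsCharacter (Bor F) (lam α) :=
  isCharacter_monoidHom (lamHom α).toHomUnits

/-- The principal series character. -/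
noncomputable def ps (α : MulChar F ℂ) : G → ℂ := indFun (Bor F) (lam α)

theorem isCharacter_ps (α : MulChar F ℂ) : IsCharacter G (ps α) :=
  isCharacter_indFun _ (isCharacter_lam α)

/-- Representatives of the lines. -/
def rep : Option F → G
  | none => 1
  | some c => ⟨!![c, -1; 1, 0], by rw [Matrix.det_fin_two_of]; simp⟩

/-- Inverses of the representatives. -/
def repInv (c : F) : G := ⟨!![0, 1; -1, c], by rw [Matrix.det_fin_two_of]; simp⟩

theorem rep_coe (c : F) : ((rep (some c) : G) : Matrix (Fin 2) (Fin 2) F) = !![c, -1; 1, 0] := rfl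

theorem repInv_coe (c : F) : ((repInv c : G) : Matrix (Fin 2) (Fin 2) F) = !![0, 1; -1, c] := rfl

theorem rep_none : rep (none : Option F) = 1 := rfl

theorem rep_inv (c : F) : (rep (some c))⁻¹ = repInv c := by
  rw [inv_eq_iff_mul_eq_one]
  refine Subtype.ext ?_
  rw [Matrix.SpecialLinearGroup.coe_mul, Matrix.SpecialLinearGroup.coe_one, rep_coe, repInv_coe,
    Matrix.mul_fin_two, Matrix.one_fin_two]
  simp

theorem rep_some_conj (c : F) (g : G) :
    (((rep (some c))⁻¹ * g * rep (some c) : G) : Matrix (Fin 2) (Fin 2) F) =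
      !![(g : Matrix (Fin 2) (Fin 2) F) 1 1 + c * (g : Matrix (Fin 2) (Fin 2) F) 1 0,
          -(g : Matrix (Fin 2) (Fin 2) F) 1 0;
        -((g : Matrix (Fin 2) (Fin 2) F) 0 1 +
            c * ((g : Matrix (Fin 2) (Fin 2) F) 0 0 - (g : Matrix (Fin 2) (Fin 2) F) 1 1) -
            c * c * (g : Matrix (Fin 2) (Fin 2) F) 1 0),
          (g : Matrix (Fin 2) (Fin 2) F) 0 0 - c * (g : Matrix (Fin 2) (Fin 2) F) 1 0] := by
  rw [rep_inv]
  show !![0, 1; -1, c] * (g : Matrix (Fin 2) (Fin 2) F) * !![c, -1; 1, 0] = _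
  ext i j
  fin_cases i <;> fin_cases j <;>
    simp [Matrix.mul_apply, Matrix.vecMul, dotProduct, Fin.sum_univ_two] <;> ring

theorem rep_bijective : Function.Bijective fun p : Option F × Bor F => rep p.1 * (p.2 : G) := by
  refine ⟨?_, fun g => ?_⟩
  · rintro ⟨i, b⟩ ⟨j, b'⟩ e
    have e' := congrArg (fun x : G => (x : Matrix (Fin 2) (Fin 2) F)) e
    have hb := mem_bor.1 b.2
    have hb' := mem_bor.1 b'.2
    have hd : ∀ b : Bor F, ((b : G) : Matrix (Fin 2) (Fin 2) F) 0 0 ≠ 0 := fun b h => by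
      have := (b : G).det_coe
      rw [Matrix.det_fin_two, mem_bor.1 b.2, h] at this
      simp at this
    have h00 := congrFun (congrFun e' 0) 0
    have h10 := congrFun (congrFun e' 1) 0
    rcases i with _ | c <;> rcases j with _ | c'
    · simpa [rep_none] using e
    · simp [rep_none, rep_coe, Matrix.mul_apply, Fin.sum_univ_two, hb, hb'] at h10
      exact absurd h10.symm (hd b')
    · simp [rep_none, rep_coe, Matrix.mul_apply, Fin.sum_univ_two, hb, hb'] at h10
      exact absurd h10 (hd b)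
    · simp [rep_none, rep_coe, Matrix.mul_apply, Fin.sum_univ_two, hb, hb'] at h00 h10
      rw [h10] at h00
      obtain rfl := mul_right_cancel₀ (hd b') h00
      exact congrArg _ (Subtype.ext (mul_left_cancel e))
  · by_cases h : (g : Matrix (Fin 2) (Fin 2) F) 1 0 = 0
    · exact ⟨(none, ⟨g, mem_bor.2 h⟩), one_mul g⟩
    · refine ⟨(some ((g : Matrix (Fin 2) (Fin 2) F) 0 0 / (g : Matrix (Fin 2) (Fin 2) F) 1 0),
        ⟨(rep (some _))⁻¹ * g, mem_bor.2 ?_⟩), mul_inv_cancel_left _ _⟩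
      rw [rep_inv]
      show ((!![0, 1; -1, ((g : Matrix (Fin 2) (Fin 2) F) 0 0 / (g : Matrix (Fin 2) (Fin 2) F) 1 0)] :
        Matrix (Fin 2) (Fin 2) F) * (g : Matrix (Fin 2) (Fin 2) F)) 1 0 = 0
      simp [Matrix.mul_apply, Fin.sum_univ_two, div_mul_cancel₀ _ h]

theorem extend_lam (α : MulChar F ℂ) (g : G) :
    extendByZero (Bor F) (lam α) g =
      if (g : Matrix (Fin 2) (Fin 2) F) 1 0 = 0 then α ((g : Matrix (Fin 2) (Fin 2) F) 0 0) else 0 := by
  split_ifs with h
  · rw [extendByZero_mem _ _ (mem_bor.2 h)]; rfl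
  · exact extendByZero_notMem _ _ fun e => h (mem_bor.1 e)

/-- The value of a principal series character. -/
theorem ps_apply (α : MulChar F ℂ) (g : G) :
    ps α g = (if (g : Matrix (Fin 2) (Fin 2) F) 1 0 = 0 then
        α ((g : Matrix (Fin 2) (Fin 2) F) 0 0) else 0) +
      ∑ c : F, if (g : Matrix (Fin 2) (Fin 2) F) 0 1 +
            c * ((g : Matrix (Fin 2) (Fin 2) F) 0 0 - (g : Matrix (Fin 2) (Fin 2) F) 1 1) -
            c * c * (g : Matrix (Fin 2) (Fin 2) F) 1 0 = 0 then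
          α ((g : Matrix (Fin 2) (Fin 2) F) 1 1 + c * (g : Matrix (Fin 2) (Fin 2) F) 1 0) else 0 := by
  rw [ps, indFun_eq_sum _ _ rep rep_bijective
    (isClassFunction_of_isCharacter (isCharacter_lam α)), Fintype.sum_option]
  congr 1
  · simp [rep_none, extend_lam]
  · refine Finset.sum_congr rfl fun c _ => ?_
    rw [extend_lam, rep_some_conj]
    simp only [Matrix.of_apply, Matrix.cons_val', Matrix.cons_val_zero, Matrix.cons_val_one,
      Matrix.cons_val_fin_one, neg_eq_zero]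

theorem ps_one (α : MulChar F ℂ) : ps α 1 = (Fintype.card F : ℂ) + 1 := by
  rw [ps_apply]; simp [add_comm]

theorem ps_tri (α : MulChar F ℂ) (a : Fˣ) (b : F) :
    ps α (tri a b) = α a + ∑ c : F, if b + c * ((a : F) - ((a⁻¹ : Fˣ) : F)) = 0 then
      α ((a⁻¹ : Fˣ) : F) else 0 := by
  rw [ps_apply]
  simp [tri_coe]

theorem ps_uSL (α : MulChar F ℂ) {c : F} (hc : c ≠ 0) : ps α (uSL c) = 1 := by
  rw [ps_apply]
  simp [uSL_coe, hc]

theorem ps_anisotropic (α : MulChar F ℂ) (g : G)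
    (h : ∀ (c : F) (v : Fin 2 → F), v ≠ 0 → (g : Matrix (Fin 2) (Fin 2) F).mulVec v ≠ c • v) :
    ps α g = 0 := by
  have h10 : (g : Matrix (Fin 2) (Fin 2) F) 1 0 ≠ 0 := fun e =>
    h ((g : Matrix (Fin 2) (Fin 2) F) 0 0) ![1, 0] (by simp) (by
      ext i; fin_cases i <;> simp [e])
  rw [ps_apply, if_neg h10, zero_add]
  refine Finset.sum_eq_zero fun c _ => if_neg fun e => ?_
  refine h ((g : Matrix (Fin 2) (Fin 2) F) 1 1 + c * (g : Matrix (Fin 2) (Fin 2) F) 1 0) ![c, 1]
    (fun e' => by simpa using congrFun e' 1) ?_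
  ext i
  fin_cases i
  · simp [Matrix.mulVec, dotProduct, Fin.sum_univ_two]
    linear_combination e
  · simp [Matrix.mulVec, dotProduct, Fin.sum_univ_two]
    ring

theorem ps_split (α : MulChar F ℂ) (a : Fˣ) (ha : (a : F) ^ 2 ≠ 1) :
    ps α (tri a 0) = α a + α ((a⁻¹ : Fˣ) : F) := by
  have hne : (a : F) - ((a⁻¹ : Fˣ) : F) ≠ 0 := fun e => ha (by
    rw [sub_eq_zero] at e
    calc (a : F) ^ 2 = (a : F) * (a : F) := sq _
      _ = (a : F) * ((a⁻¹ : Fˣ) : F) := by rw [← e]
      _ = 1 := a.mul_inv)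
  rw [ps_tri]
  simp only [zero_add, mul_eq_zero, hne, or_false, Finset.sum_ite_eq', Finset.mem_univ, if_true]

theorem inner_ps (α β : MulChar F ℂ) :
    classInner (ps α) (ps β) = (if α = β then 1 else 0) + if α = β⁻¹ then 1 else 0 := by
  classical
  have hq : (Fintype.card F : ℂ) ≠ 0 := Nat.cast_ne_zero.2 Fintype.card_ne_zero
  have hinv : ∀ a : Fˣ, β ((a⁻¹ : Fˣ) : F) = β⁻¹ (a : F) := fun a => by
    rw [MulChar.inv_apply', Units.val_inv_eq_inv_val]
  have hsum : ∀ a : Fˣ, ∑ b : F, ps β (tri a b) =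
      (Fintype.card F : ℂ) * (β a + β⁻¹ (a : F)) := by
    intro a
    simp only [ps_tri, Finset.sum_add_distrib, Finset.sum_const, Finset.card_univ, nsmul_eq_mul]
    rw [Finset.sum_comm]
    simp only [add_eq_zero_iff_eq_neg, Finset.sum_ite_eq', Finset.mem_univ, if_true, Finset.sum_const,
      Finset.card_univ, nsmul_eq_mul, hinv]
    ring
  rw [ps, frobenius_reciprocity _ _ (isClassFunction_of_isCharacter (isCharacter_ps β)), classInner,
    sum_bor, card_bor]
  have h : ∀ a : Fˣ, (∑ b : F, lam α ⟨tri a b, tri_mem a b⟩ * conj (ps β (tri a b))) =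
      (Fintype.card F : ℂ) * (α a * conj (β a) + α a * conj (β⁻¹ (a : F))) := by
    intro a
    show ∑ b : F, α (a : F) * conj (ps β (tri a b)) = _
    rw [← Finset.mul_sum, ← map_sum, hsum]
    simp
    ring
  simp only [h, ← Finset.mul_sum, Finset.sum_add_distrib, sum_units_mulChar]
  have := GLTwo.card_sub_one_ne (F := F)
  split_ifs <;> field_simp <;> ring

/-- The trivial character. -/
noncomputable def triv : G → ℂ := fun _ => 1

theorem isIrr_triv : IsIrrCharacter G (triv : G → ℂ) := isIrrCharacter_one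

theorem inner_lam_one (α : MulChar F ℂ) :
    classInner (lam α) (fun _ => (1 : ℂ)) = if α = 1 then 1 else 0 := by
  classical
  have h : ∀ (a : Fˣ) (b : F), lam α ⟨tri a b, tri_mem a b⟩ * conj (1 : ℂ) =
      α a * conj ((1 : MulChar F ℂ) (a : F)) := by
    intro a b
    simp [lam, tri_coe]
  rw [classInner, sum_bor, card_bor]
  simp only [h, Finset.sum_const, Finset.card_univ, nsmul_eq_mul, ← Finset.mul_sum, sum_units_mulChar]
  have := GLTwo.card_sub_one_ne (F := F)
  have hq : (Fintype.card F : ℂ) ≠ 0 := Nat.cast_ne_zero.2 Fintype.card_ne_zero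
  split_ifs <;> field_simp <;> ring

theorem inner_ps_triv (α : MulChar F ℂ) :
    classInner (ps α) triv = if α = 1 then 1 else 0 := by
  rw [ps, frobenius_reciprocity _ _
    (isClassFunction_of_isCharacter (isCharacter_of_isIrr isIrr_triv))]
  exact inner_lam_one α

theorem inner_triv_ps (α : MulChar F ℂ) :
    classInner triv (ps α) = if α = 1 then 1 else 0 := by
  rw [← classInner_conj_symm, inner_ps_triv]
  split_ifs <;> simp

theorem ps_inv (α : MulChar F ℂ) : ps α⁻¹ = ps α := by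
  refine sub_eq_zero.1 (eq_zero_of_classInner_self ?_)
  rw [classInner_sub_left, classInner_sub_right, classInner_sub_right, inner_ps, inner_ps, inner_ps,
    inner_ps, inv_inv]
  simp only [eq_comm (a := α⁻¹) (b := α), if_true]
  split_ifs <;> ring

theorem sq_ne_one_iff (α : MulChar F ℂ) : α ^ 2 ≠ 1 ↔ α ≠ α⁻¹ := by
  rw [ne_eq, sq, ← eq_inv_iff_mul_eq_one]

theorem ps_eq_iff (α β : MulChar F ℂ) : ps α = ps β ↔ α = β ∨ α = β⁻¹ := by
  constructor
  · intro e
    by_contra hc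
    have h0 : classInner (ps α) (ps β) = 0 := by
      rw [inner_ps]
      push Not at hc
      rw [if_neg hc.1, if_neg hc.2, add_zero]
    rw [← e, inner_ps] at h0
    simp only [if_true] at h0
    split_ifs at h0 <;> norm_num at h0
  · rintro (rfl | rfl)
    · rfl
    · exact ps_inv β

theorem isIrr_ps {α : MulChar F ℂ} (h : α ^ 2 ≠ 1) : IsIrrCharacter G (ps α) := by
  refine isIrr_of_norm_one (isCharacter_ps α) ?_
  rw [inner_ps, if_pos rfl, if_neg ((sq_ne_one_iff α).1 h), add_zero]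

theorem not_isIrr_ps {α : MulChar F ℂ} (h : α ^ 2 = 1) : ¬ IsIrrCharacter G (ps α) := by
  intro hi
  have h1 := classInner_irr_self hi
  rw [inner_ps, if_pos rfl, if_pos (by by_contra e; exact (sq_ne_one_iff α).2 e h)] at h1
  norm_num at h1

/-- The Steinberg character. -/
noncomputable def stb : G → ℂ := ps 1 - triv

theorem stb_one : (stb : G → ℂ) 1 = (Fintype.card F : ℂ) := by
  simp [stb, ps_one, triv]

theorem isIrr_stb : IsIrrCharacter G (stb : G → ℂ) :=
  isIrr_sub_of_norm_one (isCharacter_ps 1) (isCharacter_of_isIrr isIrr_triv)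
    (by rw [classInner_sub_left, classInner_sub_right, classInner_sub_right, inner_ps, inner_ps_triv,
          inner_triv_ps, classInner_irr_self isIrr_triv]; simp)
    (n := Fintype.card F) (by rw [ps_one]; simp [triv])

/-- The diagonal automorphism. -/
def twistFun (ν : Fˣ) (g : G) : G :=
  ⟨!![(g : Matrix (Fin 2) (Fin 2) F) 0 0, (ν : F) * (g : Matrix (Fin 2) (Fin 2) F) 0 1;
      ((ν⁻¹ : Fˣ) : F) * (g : Matrix (Fin 2) (Fin 2) F) 1 0, (g : Matrix (Fin 2) (Fin 2) F) 1 1], by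
    have h := g.det_coe
    rw [Matrix.det_fin_two] at h
    rw [Matrix.det_fin_two_of]
    linear_combination h - (g : Matrix (Fin 2) (Fin 2) F) 0 1 * (g : Matrix (Fin 2) (Fin 2) F) 1 0 *
      ν.mul_inv⟩

theorem twistFun_coe (ν : Fˣ) (g : G) : ((twistFun ν g : G) : Matrix (Fin 2) (Fin 2) F) =
    !![(g : Matrix (Fin 2) (Fin 2) F) 0 0, (ν : F) * (g : Matrix (Fin 2) (Fin 2) F) 0 1;
      ((ν⁻¹ : Fˣ) : F) * (g : Matrix (Fin 2) (Fin 2) F) 1 0, (g : Matrix (Fin 2) (Fin 2) F) 1 1] := rfl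

/-- The diagonal automorphism as an equivalence. -/
def twist (ν : Fˣ) : G ≃* G where
  toFun := twistFun ν
  invFun := twistFun ν⁻¹
  left_inv g := Subtype.ext (by
    ext i j; fin_cases i <;> fin_cases j <;> simp [twistFun])
  right_inv g := Subtype.ext (by
    ext i j; fin_cases i <;> fin_cases j <;> simp [twistFun])
  map_mul' g h := Subtype.ext (by
    rw [Matrix.SpecialLinearGroup.coe_mul, twistFun_coe, twistFun_coe, twistFun_coe,
      Matrix.SpecialLinearGroup.coe_mul]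
    ext i j
    fin_cases i <;> fin_cases j <;>
      simp [Matrix.mul_apply, Fin.sum_univ_two] <;> field_simp)

theorem twist_coe (ν : Fˣ) (g : G) : ((twist ν g : G) : Matrix (Fin 2) (Fin 2) F) =
    !![(g : Matrix (Fin 2) (Fin 2) F) 0 0, (ν : F) * (g : Matrix (Fin 2) (Fin 2) F) 0 1;
      ((ν⁻¹ : Fˣ) : F) * (g : Matrix (Fin 2) (Fin 2) F) 1 0, (g : Matrix (Fin 2) (Fin 2) F) 1 1] := rfl

theorem twist_uSL (ν : Fˣ) (c : F) : twist ν (uSL c) = uSL ((ν : F) * c) :=
  eq_uSL (by rw [twist_coe, uSL_coe]; simp)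

theorem ps_twist (α : MulChar F ℂ) (ν : Fˣ) (g : G) : ps α (twist ν g) = ps α g := by
  have hν : (ν : F) ≠ 0 := ν.ne_zero
  rw [ps_apply, ps_apply]
  congr 1
  · simp [twist_coe, hν]
  · refine (Fintype.sum_equiv (Equiv.mulLeft₀ (ν : F) hν) _ _ fun d => ?_).symm
    simp only [Equiv.mulLeft₀_apply, twist_coe, Matrix.of_apply, Matrix.cons_val', Matrix.cons_val_zero,
      Matrix.cons_val_one, Matrix.cons_val_fin_one]
    have e1 : (ν : F) * (g : Matrix (Fin 2) (Fin 2) F) 0 1 +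
        (ν : F) * d * ((g : Matrix (Fin 2) (Fin 2) F) 0 0 - (g : Matrix (Fin 2) (Fin 2) F) 1 1) -
        (ν : F) * d * ((ν : F) * d) * (((ν⁻¹ : Fˣ) : F) * (g : Matrix (Fin 2) (Fin 2) F) 1 0) =
        (ν : F) * ((g : Matrix (Fin 2) (Fin 2) F) 0 1 +
          d * ((g : Matrix (Fin 2) (Fin 2) F) 0 0 - (g : Matrix (Fin 2) (Fin 2) F) 1 1) -
          d * d * (g : Matrix (Fin 2) (Fin 2) F) 1 0) := by
      linear_combination -((ν : F) * d * d * (g : Matrix (Fin 2) (Fin 2) F) 1 0) * ν.mul_inv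
    have e2 : (ν : F) * d * (((ν⁻¹ : Fˣ) : F) * (g : Matrix (Fin 2) (Fin 2) F) 1 0) =
        d * (g : Matrix (Fin 2) (Fin 2) F) 1 0 := by
      linear_combination d * (g : Matrix (Fin 2) (Fin 2) F) 1 0 * ν.mul_inv
    simp only [e1, e2, mul_eq_zero, hν, false_or]

theorem isIrr_twist {χ : G → ℂ} (hχ : IsIrrCharacter G χ) (ν : Fˣ) :
    IsIrrCharacter G (fun g => χ (twist ν g)) :=
  (isIrrCharacter_comp_equiv (twist ν)).2 hχ

theorem inner_twist_ps (χ : G → ℂ) (ν : Fˣ) (α : MulChar F ℂ) :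
    classInner (fun g => χ (twist ν g)) (ps α) = classInner χ (ps α) := by
  conv_rhs => rw [← classInner_comp_equiv (twist ν)]
  simp only [ps_twist]

theorem ures_twist (χ : G → ℂ) (ν : Fˣ) (a : F) :
    ures uSL (fun g => χ (twist ν g)) a = ures uSL χ (((ν⁻¹ : Fˣ) : F) * a) := by
  unfold ures
  congr 1
  refine Fintype.sum_equiv (Equiv.mulLeft₀ (ν : F) ν.ne_zero) _ _ fun c => ?_
  simp only [Equiv.mulLeft₀_apply, twist_uSL]
  congr 3
  linear_combination -(a * c) * ν.inv_mul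

theorem ures_sq {χ : G → ℂ} (hχ : IsClassFunction G χ) {s : F} (hs : s ≠ 0) (a : F) :
    ures uSL χ (s ^ 2 * a) = ures uSL χ a :=
  ures_scale uSL (pow_ne_zero 2 hs) (scale_of_conj uSL hχ (tri (Units.mk0 s hs) 0) fun c => by
    rw [mul_inv_eq_iff_eq_mul]
    refine Subtype.ext ?_
    simp [tri_coe, uSL_coe]
    field_simp) a

/-- Every non-zero element lies in one of two square classes. -/
theorem ures_cases {χ : G → ℂ} (hχ : IsClassFunction G χ) {ν : F} (hν : ν ≠ 0)
    (hd : ∀ t : F, t ≠ 0 → IsSquare t ∨ IsSquare (t * ν)) {a : F} (ha : a ≠ 0) :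
    (IsSquare a ∧ ures uSL χ a = ures uSL χ 1) ∨ (IsSquare (a * ν) ∧ ures uSL χ a = ures uSL χ ν) := by
  rcases hd a ha with ⟨s, hs⟩ | ⟨s, hs⟩
  · refine Or.inl ⟨⟨s, hs⟩, ?_⟩
    have := ures_sq hχ (s := s) (fun e => ha (by rw [hs, e, mul_zero])) 1
    rwa [mul_one, sq, ← hs] at this
  · refine Or.inr ⟨⟨s, hs⟩, ?_⟩
    have := ures_sq hχ (s := s / ν) (div_ne_zero (fun e => mul_ne_zero ha hν (by rw [hs, e, mul_zero])) hν) ν
    rwa [show (s / ν) ^ 2 * ν = a by field_simp; linear_combination -hs] at this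

/-- An irreducible character trivial on the root group is trivial. -/
theorem eq_triv_of_ures {χ : G → ℂ} (hχ : IsIrrCharacter G χ)
    (h : ∀ a : F, a ≠ 0 → ures uSL χ a = 0) : χ = triv := by
  have hc := isCharacter_of_isIrr hχ
  have hu : ∀ c : F, χ (uSL c) = χ 1 := by
    have h1 : ∀ c : F, χ (uSL c) = ures uSL χ 0 := fun c => by
      rw [ures_expand uSL χ c, Finset.sum_eq_single (0 : F) (fun a _ ha => by rw [h a ha, zero_mul])
        (by simp), zero_mul, AddChar.map_zero_eq_one, mul_one]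
    intro c
    rw [h1 c, ← h1 0, AddChar.map_zero_eq_one]
  obtain ⟨K, hK, hKmem, -⟩ := exists_kernel hc
  have hU : ∀ b, CfsgLib.SL2.upperHom b ∈ K := fun b => (hKmem _).2 (hu b.toAdd)
  have htop : K = ⊤ := CfsgLib.SL2.eq_top_of_upper_and_conj K (rep (some (0 : F)))
    (by simp [rep]) hU (fun b => hK.conj_mem _ (hU b) _)
  refine eq_of_inner_ne_zero hχ isIrr_triv ?_
  have hcst : ∀ g, χ g = χ 1 := fun g => (hKmem g).1 (htop ▸ Subgroup.mem_top g)
  rw [classInner]
  simp only [hcst, triv, map_one, mul_one, Finset.sum_const, Finset.card_univ, nsmul_eq_mul,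
    Nat.card_eq_fintype_card]
  rw [inv_mul_cancel_left₀ (Nat.cast_ne_zero.2 Fintype.card_ne_zero)]
  exact irr_degree_ne_zero hχ

theorem ures_ps_zero (α : MulChar F ℂ) : ures uSL (ps α) 0 = 2 := by
  have hq : (Fintype.card F : ℂ) ≠ 0 := Nat.cast_ne_zero.2 Fintype.card_ne_zero
  rw [ures_zero, ← Finset.add_sum_erase _ _ (Finset.mem_univ (0 : F)), AddChar.map_zero_eq_one,
    ps_one, Finset.sum_congr rfl fun c hc => ps_uSL α (Finset.ne_of_mem_erase hc),
    Finset.sum_const, Finset.card_erase_of_mem (Finset.mem_univ _), Finset.card_univ, nsmul_eq_mul,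
    Nat.cast_sub Fintype.card_pos]
  field_simp
  ring

theorem ures_ps_ne (α : MulChar F ℂ) {a : F} (ha : a ≠ 0) : ures uSL (ps α) a = 1 := by
  have hq : (Fintype.card F : ℂ) ≠ 0 := Nat.cast_ne_zero.2 Fintype.card_ne_zero
  have hs : ∑ c : F, conj (psi F (a * c)) = 0 := by
    rw [← map_sum, psi_sum, if_neg ha, map_zero]
  rw [← Finset.add_sum_erase _ _ (Finset.mem_univ (0 : F)), mul_zero, AddChar.map_zero_eq_one,
    map_one] at hs
  rw [ures, ← Finset.add_sum_erase _ _ (Finset.mem_univ (0 : F)), AddChar.map_zero_eq_one,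
    ps_one, Finset.sum_congr rfl (g := fun c => conj (psi F (a * c))) fun c hc => by
      rw [ps_uSL α (Finset.ne_of_mem_erase hc), one_mul],
    mul_zero, AddChar.map_zero_eq_one, map_one, mul_one]
  field_simp
  linear_combination hs

end CfsgLib.RankOne.SLTwo
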