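import Mathlib
import Cfsg.Prelude.Def_LieRecognition

/-!
Doubly transitive groups whose point stabilizer splits over an odd two-point stabilizer
(Bender's set-up): regularity, Bruhat form, involutions, the structure equation.
-/

set_option autoImplicit false
set_option linter.style.haveILetI false

namespace CfsgLib.RankOne

open MulAction

section Odd

variable {M : Type*} [Group M]

/-- An element of a group of odd order has a square root in its cyclic group. -/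
theorem sqrt_pow [Finite M] {X : Subgroup M} (hodd : Odd (Nat.card X)) {x : M} (hx : x ∈ X) :
    (x ^ ((Nat.card X + 1) / 2)) ^ 2 = x ∧ (x ^ 2) ^ ((Nat.card X + 1) / 2) = x := by
  obtain ⟨m, hm⟩ := hodd
  have h1 : x ^ Nat.card X = 1 := orderOf_dvd_iff_pow_eq_one.mp (X.orderOf_dvd_natCard hx)
  rw [hm] at h1
  constructor <;>
  · rw [← pow_mul, hm, show (2 * m + 1 + 1) / 2 = m + 1 by omega]
    first
      | rw [show (m + 1) * 2 = 2 * m + 1 + 1 by ring, pow_succ, h1, one_mul]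
      | rw [show 2 * (m + 1) = 2 * m + 1 + 1 by ring, pow_succ, h1, one_mul]

theorem eq_of_sq_eq [Finite M] {X : Subgroup M} (hodd : Odd (Nat.card X)) {x y : M} (hx : x ∈ X)
    (hy : y ∈ X) (h : x * x = y * y) : x = y := by
  rw [← (sqrt_pow hodd hx).2, ← (sqrt_pow hodd hy).2, pow_two, pow_two, h]

theorem eq_one_of_sq [Finite M] {X : Subgroup M} (hodd : Odd (Nat.card X)) {x : M} (hx : x ∈ X)
    (h : x * x = 1) : x = 1 :=
  eq_of_sq_eq hodd hx X.one_mem (h.trans (one_mul 1).symm)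

theorem invol_inv {s : M} (hs : s * s = 1) : s⁻¹ = s := inv_eq_of_mul_eq_one_right hs

theorem invol_cancel {s : M} (hs : s * s = 1) (x : M) : s * (s * x) = x := by
  rw [← mul_assoc, hs, one_mul]

/-- Decomposition of an odd-order group with respect to an involution normalizing it. -/
theorem exists_decomp [Finite M] {t : M} (htt : t * t = 1) {X : Subgroup M} (hodd : Odd (Nat.card X))
    (hnorm : ∀ x ∈ X, t * x * t ∈ X) {x : M} (hx : x ∈ X) :
    ∃ c i, c ∈ X ∧ t * c * t = c ∧ i ∈ X ∧ t * i * t = i⁻¹ ∧ x = c * i := by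
  set w := (t * x * t)⁻¹ * x with hw
  have ht := invol_inv htt
  have hwX : w ∈ X := X.mul_mem (X.inv_mem (hnorm x hx)) hx
  have hwt : t * w * t = w⁻¹ := by
    rw [hw]
    simp only [mul_inv_rev, ht, inv_inv, mul_assoc, invol_cancel htt]
  set i := w ^ ((Nat.card X + 1) / 2) with hi
  have hiX : i ∈ X := X.pow_mem hwX _
  have hit : t * i * t = i⁻¹ := by
    rw [hi, ← inv_pow, ← hwt]
    nth_rewrite 2 [← ht]
    conv_rhs => rw [show t * w * t = t * w * t⁻¹ by rw [ht], conj_pow]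
  have hii : i * i = w := by rw [← pow_two, hi]; exact (sqrt_pow hodd hwX).1
  refine ⟨x * i⁻¹, i, X.mul_mem hx (X.inv_mem hiX), ?_, hiX, hit, by group⟩
  have e1 : t * (x * i⁻¹) * t = (t * x * t) * (t * i * t)⁻¹ := by
    simp only [mul_inv_rev, ht, mul_assoc, invol_cancel htt]
  rw [e1, hit, inv_inv, eq_mul_inv_iff_mul_eq, mul_assoc, hii, hw, mul_inv_cancel_left]

theorem decomp_unique [Finite M] {t : M} (htt : t * t = 1) {X : Subgroup M} (hodd : Odd (Nat.card X))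
    {c i c' i' : M} (hc : t * c * t = c) (hi : i ∈ X) (hit : t * i * t = i⁻¹)
    (hc' : t * c' * t = c') (hi' : i' ∈ X) (hit' : t * i' * t = i'⁻¹) (h : c * i = c' * i') :
    c = c' ∧ i = i' := by
  have key : ∀ c i : M, t * c * t = c → t * i * t = i⁻¹ → (t * (c * i) * t)⁻¹ * (c * i) = i * i := by
    intro c i hc hit
    have : t * (c * i) * t = c * i⁻¹ := by
      rw [← hit]
      conv_rhs => rw [← hc]
      simp only [mul_assoc, invol_cancel htt]
    rw [this]; group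
  have e := key c i hc hit
  rw [h, key c' i' hc' hit'] at e
  have hii : i = i' := eq_of_sq_eq hodd hi hi' e.symm
  subst hii
  exact ⟨mul_right_cancel h, rfl⟩

/-- Two involutions with product of odd order are conjugate. -/
theorem conj_of_odd {s u : M} (hs : s * s = 1) (hu : u * u = 1) (h : Odd (orderOf (s * u))) :
    ∃ g : M, g * s * g⁻¹ = u := by
  obtain ⟨m, hm⟩ := h
  refine ⟨((s * u) ^ (m + 1))⁻¹, ?_⟩
  have hinv : s * (s * u) * s⁻¹ = (s * u)⁻¹ := by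
    rw [mul_inv_rev, invol_inv hs, invol_inv hu, invol_cancel hs]
  have e : (s * u) ^ (m + 1) = s * ((s * u) ^ (m + 1))⁻¹ * s⁻¹ := by
    rw [← inv_pow, ← conj_pow]
    congr 1
    conv_rhs => rw [← hinv]
    rw [invol_inv hs]
    simp only [mul_assoc, invol_cancel hs]
    rw [hs, mul_one]
  have h1 : (s * u) ^ (m + 1) * (s * u) ^ (m + 1) = s * u := by
    rw [← pow_add, show m + 1 + (m + 1) = orderOf (s * u) + 1 by omega, pow_succ, pow_orderOf_eq_one, one_mul]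
  rw [inv_inv]
  calc ((s * u) ^ (m + 1))⁻¹ * s * (s * u) ^ (m + 1)
      = s * (s * ((s * u) ^ (m + 1))⁻¹ * s⁻¹) * (s * u) ^ (m + 1) := by
        rw [invol_inv hs]; simp only [mul_assoc, invol_cancel hs]
    _ = s * (s * u) := by rw [← e, mul_assoc, h1]
    _ = u := invol_cancel hs u

end Odd

variable {G Ω : Type*} [Group G] [Finite G] [MulAction G Ω] {a : Ω} {t : G} {Q : Subgroup G}

local notation "𝔸" => stabilizer G a
local notation "𝔻" => (stabilizer G a ⊓ stabilizer G (t • a))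

variable (hS : Cfsg.IsRankOneSetup G Ω a t Q)
include hS

omit [Finite G] in
theorem t_inv : t⁻¹ = t := invol_inv hS.mul_self

omit [Finite G] in
theorem b_ne : t • a ≠ a := fun h => hS.not_mem h

omit [Finite G] in
theorem t_b : t • (t • a) = a := by rw [smul_smul, hS.mul_self, one_smul]

omit [Finite G] in
theorem mem_D {d : G} : d ∈ 𝔻 ↔ d • a = a ∧ d • (t • a) = t • a := by
  rw [Subgroup.mem_inf, mem_stabilizer_iff, mem_stabilizer_iff]

omit [Finite G] in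
theorem conj_t_mem {d : G} (hd : d ∈ 𝔻) : t * d * t ∈ 𝔻 := by
  rw [mem_D hS] at hd ⊢
  refine ⟨?_, ?_⟩
  · rw [mul_smul, mul_smul, hd.2, t_b hS]
  · rw [mul_smul, mul_smul, t_b hS, hd.1]

omit [Finite G] in
theorem two_trans {x y x' y' : Ω} (h : x ≠ y) (h' : x' ≠ y') : ∃ g : G, g • x = x' ∧ g • y = y' :=
  is_two_pretransitive_iff.mp hS.two_transitive h h'

omit [Finite G] in
theorem trans (x y : Ω) : ∃ g : G, g • x = y := by
  obtain ⟨x', hx'⟩ : ∃ x', x' ≠ x := by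
    by_cases h : a = x
    · exact ⟨t • a, h ▸ b_ne hS⟩
    · exact ⟨a, h⟩
  obtain ⟨y', hy'⟩ : ∃ y', y' ≠ y := by
    by_cases h : a = y
    · exact ⟨t • a, h ▸ b_ne hS⟩
    · exact ⟨a, h⟩
  obtain ⟨g, hg, -⟩ := two_trans hS hx'.symm hy'.symm
  exact ⟨g, hg⟩

theorem finite_Ω : Finite Ω :=
  Finite.of_surjective (fun g : G => g • a) (trans hS a)

omit [Finite G] in
theorem le_normalizer : 𝔸 ≤ Subgroup.normalizer (Q : Set G) := by
  intro h hh
  refine Subgroup.mem_normalizer_iff.mpr fun x => ⟨hS.conj_mem h hh x, fun hx => ?_⟩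
  have := hS.conj_mem h⁻¹ (inv_mem hh) _ hx
  rwa [show h⁻¹ * (h * x * h⁻¹) * h⁻¹⁻¹ = x by group] at this

omit [Finite G] in
theorem exists_qd {g : G} (hg : g ∈ 𝔸) : ∃ q ∈ Q, ∃ d ∈ 𝔻, g = q * d := by
  have h : g ∈ Q ⊔ 𝔻 := by rw [hS.sup_eq]; exact hg
  rw [← SetLike.mem_coe, Subgroup.coe_mul_of_right_le_normalizer_left Q _
    (inf_le_left.trans (le_normalizer hS))] at h
  obtain ⟨q, hq, d, hd, rfl⟩ := h
  exact ⟨q, hq, d, hd, rfl⟩

omit [Finite G] in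
theorem Q_fix {q : G} (hq : q ∈ Q) : q • a = a := hS.le hq

omit [Finite G] in
theorem Q_smul_ne {q : G} (hq : q ∈ Q) {x : Ω} (hx : x ≠ a) : q • x ≠ a := fun h =>
  hx (MulAction.injective q (h.trans (Q_fix hS hq).symm))

omit [Finite G] in
theorem Q_trans {x y : Ω} (hx : x ≠ a) (hy : y ≠ a) : ∃ q ∈ Q, q • x = y := by
  have key : ∀ z, z ≠ a → ∃ q ∈ Q, q • (t • a) = z := fun z hz => by
    obtain ⟨g, hg1, hg2⟩ := two_trans hS (b_ne hS).symm hz.symm
    obtain ⟨q, hq, d, hd, rfl⟩ := exists_qd hS hg1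
    rw [mem_D hS] at hd
    rw [mul_smul, hd.2] at hg2
    exact ⟨q, hq, hg2⟩
  obtain ⟨q, hq, rfl⟩ := key x hx
  obtain ⟨r, hr, rfl⟩ := key y hy
  exact ⟨r * q⁻¹, Q.mul_mem hr (Q.inv_mem hq), by rw [mul_smul, inv_smul_smul]⟩

omit [Finite G] in
theorem Q_free {q : G} (hq : q ∈ Q) {x : Ω} (hx : x ≠ a) (h : q • x = x) : q = 1 := by
  obtain ⟨r, hr, rfl⟩ := Q_trans hS (b_ne hS) hx
  have : r⁻¹ * q * r ∈ Q ⊓ stabilizer G (t • a) := by
    refine Subgroup.mem_inf.mpr ⟨Q.mul_mem (Q.mul_mem (Q.inv_mem hr) hq) hr, ?_⟩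
    rw [mem_stabilizer_iff, mul_smul, mul_smul, h, inv_smul_smul]
  rw [hS.inf_eq_bot, Subgroup.mem_bot] at this
  calc q = r * (r⁻¹ * q * r) * r⁻¹ := by group
    _ = 1 := by rw [this]; group

omit [Finite G] in
theorem Q_eq {q r : G} (hq : q ∈ Q) (hr : r ∈ Q) {x : Ω} (hx : x ≠ a) (h : q • x = r • x) : q = r := by
  have := Q_free hS (Q.mul_mem (Q.inv_mem hr) hq) hx (by rw [mul_smul, h, inv_smul_smul])
  exact (inv_mul_eq_one.mp this).symm

omit [Finite G] in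
theorem Q_inf_D {x : G} (hq : x ∈ Q) (hd : x ∈ 𝔻) : x = 1 :=
  Q_free hS hq (b_ne hS) ((mem_D hS).mp hd).2

omit [Finite G] in
theorem qd_unique {q q' d d' : G} (hq : q ∈ Q) (hq' : q' ∈ Q) (hd : d ∈ 𝔻) (hd' : d' ∈ 𝔻)
    (h : q * d = q' * d') : q = q' ∧ d = d' := by
  have : q = q' := Q_eq hS hq hq' (b_ne hS) (by
    calc q • t • a = (q * d) • t • a := by rw [mul_smul, ((mem_D hS).mp hd).2]
      _ = q' • t • a := by rw [h, mul_smul, ((mem_D hS).mp hd').2])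
  subst this
  exact ⟨rfl, mul_left_cancel h⟩

omit [Finite G] in
theorem card_stab : Nat.card ↥(𝔸) = Nat.card Q * Nat.card ↥(𝔻) := by
  rw [← Nat.card_prod]
  refine (Nat.card_congr (Equiv.ofBijective (fun p : Q × ↥(𝔻) =>
    (⟨p.1 * p.2, mul_mem (hS.le p.1.2) p.2.2.1⟩ : ↥(𝔸))) ⟨?_, ?_⟩)).symm
  · rintro ⟨q, d⟩ ⟨q', d'⟩ h
    obtain ⟨h1, h2⟩ := qd_unique hS q.2 q'.2 d.2 d'.2 (congrArg Subtype.val h)
    exact Prod.ext (Subtype.ext h1) (Subtype.ext h2)
  · rintro ⟨g, hg⟩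
    obtain ⟨q, hq, d, hd, rfl⟩ := exists_qd hS hg
    exact ⟨(⟨q, hq⟩, ⟨d, hd⟩), rfl⟩

theorem card_Ω : Nat.card Ω = Nat.card Q + 1 := by
  classical
  haveI := finite_Ω hS
  haveI := Fintype.ofFinite Ω
  haveI := Fintype.ofFinite Q
  let e : Q ≃ {x : Ω // x ≠ a} := Equiv.ofBijective
    (fun q => ⟨(q : G) • (t • a), Q_smul_ne hS q.2 (b_ne hS)⟩)
    ⟨fun q r h => Subtype.ext (Q_eq hS q.2 r.2 (b_ne hS) (congrArg Subtype.val h)),
     fun x => by
      obtain ⟨q, hq, h⟩ := Q_trans hS (b_ne hS) x.2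
      exact ⟨⟨q, hq⟩, Subtype.ext h⟩⟩
  rw [Nat.card_eq_fintype_card, Nat.card_eq_fintype_card, Fintype.card_congr e, Fintype.card_subtype_compl,
    Fintype.card_subtype_eq]
  have : 0 < Fintype.card Ω := Fintype.card_pos_iff.mpr ⟨a⟩
  omega

theorem card_G : Nat.card G = Nat.card Q * Nat.card ↥(𝔻) * (Nat.card Q + 1) := by
  haveI : IsPretransitive G Ω := ⟨trans hS⟩
  rw [← card_stab hS, ← card_Ω hS, ← index_stabilizer_of_transitive G a]
  exact (Subgroup.card_mul_index _).symm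

theorem exists_sylow_le : ∃ P : Sylow 2 G, (P : Subgroup G) ≤ Q := by
  haveI : Fact (Nat.Prime 2) := ⟨Nat.prime_two⟩
  obtain ⟨P⟩ : Nonempty (Sylow 2 Q) := inferInstance
  set P' := (P : Subgroup Q).map Q.subtype with hP'
  have hc : Nat.card P' = 2 ^ (Nat.card Q).factorization 2 := by
    rw [hP', Subgroup.card_map_of_injective Q.subtype_injective, P.card_eq_multiplicity]
  refine ⟨Sylow.ofCard P' ?_, ?_⟩
  · rw [hc]
    congr 1
    have hD : Odd (Nat.card ↥(𝔻) * (Nat.card Q + 1)) := hS.odd_card.mul hS.even_card.add_one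
    have h0 : Nat.card ↥(𝔻) * (Nat.card Q + 1) ≠ 0 := hD.pos.ne'
    rw [card_G hS, mul_assoc, Nat.factorization_mul Nat.card_pos.ne' h0, Finsupp.add_apply,
      Nat.factorization_eq_zero_of_not_dvd (n := Nat.card ↥(𝔻) * (Nat.card Q + 1))
        (fun h => (Nat.not_even_iff_odd.mpr hD) (even_iff_two_dvd.mpr h)), add_zero]
  · show P' ≤ Q
    exact Subgroup.map_subtype_le _

omit hS in
/-- An involution of `G` lying in a subgroup is nontrivial of order two. -/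
theorem orderOf_invol {s : G} (hs1 : s ≠ 1) (hss : s * s = 1) : orderOf s = 2 :=
  orderOf_eq_prime (by rw [pow_two]; exact hss) hs1

theorem mem_Q_of_invol {s : G} (hs : s ∈ 𝔸) (hss : s * s = 1) : s ∈ Q := by
  obtain ⟨q, hq, d, hd, rfl⟩ := exists_qd hS hs
  have h1 : q * (d * q * d⁻¹) * (d * d) = 1 := by rw [← hss]; group
  have h2 : d * d = 1 := Q_inf_D hS (by
    rw [eq_inv_of_mul_eq_one_right h1]
    exact Q.inv_mem (Q.mul_mem hq (hS.conj_mem d hd.1 q hq))) (mul_mem hd hd)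
  rw [eq_one_of_sq hS.odd_card hd h2, mul_one]
  exact hq

theorem exists_invol : ∃ s : G, s ∈ 𝔸 ∧ s ≠ 1 ∧ s * s = 1 := by
  haveI : Fact (Nat.Prime 2) := ⟨Nat.prime_two⟩
  obtain ⟨s, hs⟩ := exists_prime_orderOf_dvd_card' (G := Q) 2 (even_iff_two_dvd.mp hS.even_card)
  refine ⟨s, hS.le s.2, fun h => ?_, ?_⟩
  · rw [← Subgroup.orderOf_coe, h, orderOf_one] at hs; omega
  · have := pow_orderOf_eq_one (s : G)
    rwa [Subgroup.orderOf_coe, hs, pow_two] at this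

theorem invol_fix_A {s : G} (hs : s ∈ 𝔸) (hs1 : s ≠ 1) (hss : s * s = 1) {x : Ω} (h : s • x = x) :
    x = a := by
  by_contra hx
  exact hs1 (Q_free hS (mem_Q_of_invol hS hs hss) hx h)

omit [Finite G] in
theorem normalizer_le {X : Set G} (hX : X ⊆ (Q : Set G)) {x : G} (hx : x ∈ X) (hx1 : x ≠ 1) :
    Subgroup.normalizer X ≤ 𝔸 := by
  intro g hg
  have h2 : g * x * g⁻¹ ∈ X := ((Subgroup.mem_set_normalizer_iff.mp hg) x).mp hx
  rw [mem_stabilizer_iff]
  by_contra hne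
  have hfix : (g * x * g⁻¹) • (g • a) = g • a := by
    rw [mul_smul, mul_smul, inv_smul_smul, Q_fix hS (hX hx)]
  exact hx1 (conj_eq_one_iff.mp (Q_free hS (hX h2) hne hfix))

omit [Finite G] in
theorem mem_A_of_comm {s g : G} (hs : s ∈ Q) (hs1 : s ≠ 1) (h : g * s = s * g) : g ∈ 𝔸 := by
  refine normalizer_le hS (X := {s}) (by simpa using hs) rfl hs1 (Subgroup.mem_set_normalizer_iff.mpr fun x => ?_)
  simp only [Set.mem_singleton_iff]
  constructor
  · rintro rfl; rw [h, mul_inv_cancel_right]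
  · intro hx
    calc x = g⁻¹ * (g * x * g⁻¹) * g := by group
      _ = g⁻¹ * (g * s) := by rw [hx, mul_assoc, ← h]
      _ = s := inv_mul_cancel_left g s

theorem odd_mul {s u : G} (hs : s ∈ 𝔸) (hs1 : s ≠ 1) (hss : s * s = 1) (hu : u ∉ 𝔸)
    (huu : u * u = 1) : Odd (orderOf (s * u)) := by
  by_contra h
  rw [Nat.not_odd_iff_even] at h
  obtain ⟨k, hk⟩ := h
  set z := (s * u) ^ k with hz
  have hpos := orderOf_pos (s * u)
  have hzz : z * z = 1 := by rw [hz, ← pow_add, ← hk, pow_orderOf_eq_one]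
  have hz1 : z ≠ 1 := fun e => by
    have := Nat.le_of_dvd (by omega) (orderOf_dvd_of_pow_eq_one e); omega
  have hzs : z * s = s * z := by
    have h1 : s * z * s⁻¹ = z⁻¹ := by
      rw [hz, ← conj_pow, ← inv_pow]
      congr 1
      rw [mul_inv_rev, invol_inv hss, invol_inv huu, invol_cancel hss]
    rw [invol_inv hzz] at h1
    exact (mul_inv_eq_iff_eq_mul.mp h1).symm
  have hzu : z * u = u * z := by
    have h1 : u * z * u⁻¹ = z⁻¹ := by
      rw [hz, ← conj_pow, ← inv_pow]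
      congr 1
      rw [mul_inv_rev, invol_inv hss, invol_inv huu, mul_assoc u (s * u) u, mul_assoc s u u, huu, mul_one]
    rw [invol_inv hzz] at h1
    exact (mul_inv_eq_iff_eq_mul.mp h1).symm
  have hzA : z ∈ 𝔸 := mem_A_of_comm hS (mem_Q_of_invol hS hs hss) hs1 hzs
  exact hu (mem_A_of_comm hS (mem_Q_of_invol hS hzA hzz) hz1 hzu.symm)

theorem conj_invol {u v : G} (hu1 : u ≠ 1) (huu : u * u = 1) (hv1 : v ≠ 1) (hvv : v * v = 1) :
    ∃ g : G, g * u * g⁻¹ = v := by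
  obtain ⟨s, hs, hs1, hss⟩ := exists_invol hS
  have key : ∀ w : G, w ≠ 1 → w * w = 1 → ∃ g : G, g * t * g⁻¹ = w := by
    intro w hw1 hww
    by_cases hw : w ∈ 𝔸
    · obtain ⟨g, hg⟩ := conj_of_odd hww hS.mul_self (odd_mul hS hw hw1 hww hS.not_mem hS.mul_self)
      exact ⟨g⁻¹, by rw [← hg]; group⟩
    · obtain ⟨g, hg⟩ := conj_of_odd hss hww (odd_mul hS hs hs1 hss hw hww)
      obtain ⟨k, hk⟩ := conj_of_odd hss hS.mul_self (odd_mul hS hs hs1 hss hS.not_mem hS.mul_self)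
      exact ⟨g * k⁻¹, by rw [← hg, ← hk]; group⟩
  obtain ⟨g, hg⟩ := key u hu1 huu
  obtain ⟨k, hk⟩ := key v hv1 hvv
  exact ⟨k * g⁻¹, by rw [← hg, ← hk]; group⟩

theorem exists_fix {u : G} (hu1 : u ≠ 1) (huu : u * u = 1) :
    ∃ p : Ω, u • p = p ∧ ∀ x, u • x = x → x = p := by
  obtain ⟨s, hs, hs1, hss⟩ := exists_invol hS
  obtain ⟨g, rfl⟩ := conj_invol hS hs1 hss hu1 huu
  refine ⟨g • a, by rw [mul_smul, mul_smul, inv_smul_smul, mem_stabilizer_iff.mp hs], fun x hx => ?_⟩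
  have : s • (g⁻¹ • x) = g⁻¹ • x := by
    conv_rhs => rw [← hx]
    rw [mul_smul, mul_smul, inv_smul_smul]
  rw [← invol_fix_A hS hs hs1 hss this, smul_inv_smul]

/-! ### The distinguished pair -/

theorem exists_pair : ∃ p0 : Ω, ∃ r0 ∈ Q, t • p0 = p0 ∧ (∀ x, t • x = x → x = p0) ∧ p0 ≠ a ∧
    r0 • (t • a) = p0 := by
  obtain ⟨p, hp, hu⟩ := exists_fix hS hS.ne_one hS.mul_self
  have hpa : p ≠ a := fun h => b_ne hS (h ▸ hp)
  obtain ⟨r, hr, hrp⟩ := Q_trans hS (b_ne hS) hpa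
  exact ⟨p, r, hr, hp, hu, hpa, hrp⟩

/-- The fixed point of the distinguished involution. -/
noncomputable def fixPt : Ω := (exists_pair hS).choose

/-- The element of `Q` in the structure equation. -/
noncomputable def strR : G := (exists_pair hS).choose_spec.choose

/-- The involution of the point stabilizer in the structure equation. -/
noncomputable def strS : G := t * ((strR hS)⁻¹ * t * strR hS) * t

theorem strR_mem : strR hS ∈ Q := (exists_pair hS).choose_spec.choose_spec.1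
theorem fixPt_fix : t • fixPt hS = fixPt hS := (exists_pair hS).choose_spec.choose_spec.2.1
theorem fixPt_unique {x : Ω} (h : t • x = x) : x = fixPt hS :=
  (exists_pair hS).choose_spec.choose_spec.2.2.1 x h
theorem strR_b : strR hS • (t • a) = fixPt hS := (exists_pair hS).choose_spec.choose_spec.2.2.2.2

theorem strS_eq : t * strS hS * t = (strR hS)⁻¹ * t * strR hS := by
  simp only [strS, mul_assoc, invol_cancel hS.mul_self]
  rw [hS.mul_self, mul_one]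

theorem strS_mem : strS hS ∈ Cfsg.involutionsIn (𝔸 : Set G) := by
  refine ⟨?_, fun e => hS.ne_one ?_, ?_⟩
  · show strS hS • a = a
    simp only [strS, mul_smul, strR_b hS, fixPt_fix hS]
    rw [← strR_b hS, inv_smul_smul, t_b hS]
  · have h := strS_eq hS
    rw [e, mul_one, hS.mul_self] at h
    calc t = strR hS * ((strR hS)⁻¹ * t * strR hS) * (strR hS)⁻¹ := by group
      _ = 1 := by rw [← h, mul_one, mul_inv_cancel]
  · simp only [strS, mul_assoc, invol_cancel hS.mul_self, mul_inv_cancel_left]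
    rw [inv_mul_cancel_left, hS.mul_self]

theorem pair_unique {s r : G} (hs : s ∈ 𝔸) (hr : r ∈ Q) (h : t * s * t = r⁻¹ * t * r) :
    r = strR hS ∧ s = strS hS := by
  have h1 : (r⁻¹ * t * r) • (t • a) = t • a := by
    rw [← h, mul_smul, mul_smul, t_b hS, mem_stabilizer_iff.mp hs]
  rw [mul_smul, mul_smul, inv_smul_eq_iff] at h1
  have hr' : r = strR hS := Q_eq hS hr (strR_mem hS) (b_ne hS) ((fixPt_unique hS h1).trans (strR_b hS).symm)
  subst hr'
  refine ⟨rfl, ?_⟩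
  rw [strS, ← h]
  simp only [mul_assoc, invol_cancel hS.mul_self]
  rw [hS.mul_self, mul_one]

theorem comm_strR {c : G} (hc : c ∈ 𝔻) (hct : c * t = t * c) : c * strR hS = strR hS * c := by
  have hp : c • fixPt hS = fixPt hS := fixPt_unique hS (by rw [← mul_smul, ← hct, mul_smul, fixPt_fix hS])
  have h := Q_eq hS (hS.conj_mem c hc.1 _ (strR_mem hS)) (strR_mem hS) (b_ne hS) (by
    have hb : c⁻¹ • (t • a) = t • a := ((mem_D hS).mp (inv_mem hc)).2
    rw [mul_smul, mul_smul, hb, strR_b hS, hp])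
  exact mul_inv_eq_iff_eq_mul.mp h

theorem comm_strS {c : G} (hc : c ∈ 𝔻) (hct : c * t = t * c) : c * strS hS = strS hS * c := by
  have h1 := comm_strR hS hc hct
  exact (Commute.mul_right (Commute.mul_right hct (Commute.mul_right (Commute.mul_right
    (Commute.inv_right h1) hct) h1)) hct).eq

/-! ### Counting involutions -/

omit [Finite G] in
theorem inverted_iff {d : G} : d ∈ Cfsg.invertedBy 𝔻 t ↔ d ∈ 𝔻 ∧ t * d * t = d⁻¹ := by
  show d ∈ 𝔻 ∧ _ ↔ _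
  rw [t_inv hS]

omit [Finite G] in
theorem swap_mem {w : G} (hww : w * w = 1) (hwa : w • a = t • a) :
    w * t ∈ Cfsg.invertedBy 𝔻 t := by
  rw [inverted_iff hS]
  have hwb : w • (t • a) = a := by rw [← hwa, ← mul_smul, hww, one_smul]
  refine ⟨(mem_D hS).mpr ⟨by rw [mul_smul, hwb], by rw [mul_smul, t_b hS, hwa]⟩, ?_⟩
  rw [mul_inv_rev, t_inv hS, invol_inv hww, mul_assoc, mul_assoc w t t, hS.mul_self, mul_one]

omit [Finite G] in
theorem swap_invol {d : G} (hd : d ∈ Cfsg.invertedBy 𝔻 t) :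
    (d * t) * (d * t) = 1 ∧ (d * t) • a = t • a ∧ d * t ≠ 1 := by
  rw [inverted_iff hS] at hd
  have ha : (d * t) • a = t • a := by rw [mul_smul]; exact ((mem_D hS).mp hd.1).2
  refine ⟨?_, ha, fun e => b_ne hS ?_⟩
  · rw [mul_assoc, ← mul_assoc t d t, hd.2, mul_inv_cancel]
  · rw [← ha, e, one_smul]

theorem card_inverted :
    Nat.card (Cfsg.invertedBy 𝔻 t) = Nat.card (Cfsg.involutionsIn (𝔸 : Set G)) := by
  let U := {u : G // u * u = 1 ∧ u • a ≠ a}
  have htt := hS.mul_self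
  let f1 : Q × Cfsg.invertedBy 𝔻 t → U := fun p => ⟨(p.1 : G) * ((p.2 : G) * t) * (p.1 : G)⁻¹, by
    refine ⟨?_, ?_⟩
    · calc (p.1 : G) * ((p.2 : G) * t) * (p.1 : G)⁻¹ * ((p.1 : G) * ((p.2 : G) * t) * (p.1 : G)⁻¹)
          = (p.1 : G) * (((p.2 : G) * t) * ((p.2 : G) * t)) * (p.1 : G)⁻¹ := by group
        _ = 1 := by rw [(swap_invol hS p.2.2).1]; group
    · rw [mul_smul _ (p.1 : G)⁻¹, Q_fix hS (Q.inv_mem p.1.2), mul_smul, (swap_invol hS p.2.2).2.1]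
      exact Q_smul_ne hS p.1.2 (b_ne hS)⟩
  have h1 : Function.Bijective f1 := by
    refine ⟨?_, ?_⟩
    · rintro ⟨q, d⟩ ⟨q', d'⟩ h
      have h' : (q : G) * ((d : G) * t) * (q : G)⁻¹ = (q' : G) * ((d' : G) * t) * (q' : G)⁻¹ :=
        congrArg Subtype.val h
      have hq : (q : G) = q' := Q_eq hS q.2 q'.2 (b_ne hS) (by
        have h2 := congrArg (fun u : G => u • a) h'
        simp only [mul_smul _ (q : G)⁻¹, mul_smul _ (q' : G)⁻¹, Q_fix hS (Q.inv_mem q.2),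
          Q_fix hS (Q.inv_mem q'.2)] at h2
        rwa [mul_smul (q : G), mul_smul (q' : G), (swap_invol hS d.2).2.1, (swap_invol hS d'.2).2.1] at h2)
      rw [hq] at h'
      exact Prod.ext (Subtype.ext hq) (Subtype.ext (mul_right_cancel (mul_left_cancel (mul_right_cancel h'))))
    · rintro ⟨u, huu, hua⟩
      obtain ⟨q, hq, hqb⟩ := Q_trans hS (b_ne hS) hua
      have hw : (q⁻¹ * u * q) * (q⁻¹ * u * q) = 1 := by
        calc (q⁻¹ * u * q) * (q⁻¹ * u * q) = q⁻¹ * (u * u) * q := by group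
          _ = 1 := by rw [huu]; group
      have hwa : (q⁻¹ * u * q) • a = t • a := by
        rw [mul_smul, mul_smul, Q_fix hS hq, ← hqb, inv_smul_smul]
      refine ⟨(⟨q, hq⟩, ⟨_, swap_mem hS hw hwa⟩), Subtype.ext ?_⟩
      show q * (q⁻¹ * u * q * t * t) * q⁻¹ = u
      rw [mul_assoc _ t t, htt]; group
  let f2 : Q × Cfsg.involutionsIn (𝔸 : Set G) → U := fun p =>
    ⟨(p.1 : G) * (t * (p.2 : G) * t) * (p.1 : G)⁻¹, by
    obtain ⟨hs, hs1, hss⟩ := p.2.2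
    refine ⟨?_, ?_⟩
    · calc (p.1 : G) * (t * (p.2 : G) * t) * (p.1 : G)⁻¹ * ((p.1 : G) * (t * (p.2 : G) * t) * (p.1 : G)⁻¹)
          = (p.1 : G) * (t * (p.2 : G) * (t * t) * (p.2 : G) * t) * (p.1 : G)⁻¹ := by group
        _ = 1 := by rw [htt, mul_one, mul_assoc t, hss, mul_one, htt]; group
    · rw [mul_smul _ (p.1 : G)⁻¹, Q_fix hS (Q.inv_mem p.1.2), mul_smul]
      refine Q_smul_ne hS p.1.2 fun h => b_ne hS (invol_fix_A hS hs hs1 hss (x := t • a) ?_)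
      have h' := congrArg (fun x => t • x) h
      simp only [← mul_smul] at h'
      rw [← mul_assoc, ← mul_assoc, htt, one_mul, mul_smul] at h'
      exact h'⟩
  have h2 : Function.Bijective f2 := by
    refine ⟨?_, ?_⟩
    · rintro ⟨q, s⟩ ⟨q', s'⟩ h
      have h' : (q : G) * (t * (s : G) * t) * (q : G)⁻¹ = (q' : G) * (t * (s' : G) * t) * (q' : G)⁻¹ :=
        congrArg Subtype.val h
      have hne : (q : G) * (t * (s : G) * t) * (q : G)⁻¹ ≠ 1 := by
        intro e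
        have e' := conj_eq_one_iff.mp e
        apply s.2.2.1
        calc (s : G) = t * (t * (s : G) * t) * t := by
              simp only [mul_assoc, invol_cancel htt]; rw [htt, mul_one]
          _ = 1 := by rw [e', mul_one, htt]
      obtain ⟨p, hp, hu⟩ := exists_fix hS hne (f2 (q, s)).2.1
      have fixq : ∀ (q : Q) (s : Cfsg.involutionsIn (𝔸 : Set G)),
          ((q : G) * (t * (s : G) * t) * (q : G)⁻¹) • ((q : G) • t • a) = (q : G) • t • a := fun q s => by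
        rw [mul_smul, mul_smul, inv_smul_smul, mul_smul, mul_smul, t_b hS, mem_stabilizer_iff.mp s.2.1]
      have hq : (q : G) = q' := Q_eq hS q.2 q'.2 (b_ne hS)
        ((hu _ (fixq q s)).trans (hu _ (h' ▸ fixq q' s')).symm)
      rw [hq] at h'
      exact Prod.ext (Subtype.ext hq) (Subtype.ext (mul_left_cancel (mul_right_cancel (mul_left_cancel (mul_right_cancel h')))))
    · rintro ⟨u, huu, hua⟩
      obtain ⟨p, hp, -⟩ := exists_fix hS (fun e => hua (by rw [e, one_smul])) huu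
      obtain ⟨q, hq, hqb⟩ := Q_trans hS (b_ne hS) (fun e => hua (e ▸ hp))
      have hs : (t * (q⁻¹ * u * q) * t) ∈ Cfsg.involutionsIn (𝔸 : Set G) := by
        refine ⟨?_, fun e => hua ?_, ?_⟩
        · show (t * (q⁻¹ * u * q) * t) • a = a
          rw [mul_smul, mul_smul, mul_smul, mul_smul, hqb, hp, ← hqb, inv_smul_smul, t_b hS]
        · have e2 : u = q * (t * (t * (q⁻¹ * u * q) * t) * t) * q⁻¹ := by
            simp [mul_assoc, invol_cancel htt]
          rw [e2, e, mul_one, htt]; simp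
        · calc t * (q⁻¹ * u * q) * t * (t * (q⁻¹ * u * q) * t)
              = t * (q⁻¹ * u * q) * (t * t) * (q⁻¹ * u * q) * t := by group
            _ = t * (q⁻¹ * (u * u) * q) * t := by rw [htt]; group
            _ = 1 := by rw [huu, mul_one, inv_mul_cancel, mul_one, htt]
      refine ⟨(⟨q, hq⟩, ⟨_, hs⟩), Subtype.ext ?_⟩
      show q * (t * (t * (q⁻¹ * u * q) * t) * t) * q⁻¹ = u
      simp only [mul_assoc, invol_cancel htt, mul_inv_cancel_left]
      simp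
  have h3 := (Nat.card_eq_of_bijective f1 h1).trans (Nat.card_eq_of_bijective f2 h2).symm
  rw [Nat.card_prod, Nat.card_prod] at h3
  exact Nat.eq_of_mul_eq_mul_left Nat.card_pos h3

theorem conj_strS {k : G} (hk : k ∈ Cfsg.invertedBy 𝔻 t) :
    t * (k⁻¹ * strS hS * k) * t =
      (k * strR hS * k⁻¹)⁻¹ * (k * t * k⁻¹) * (k * strR hS * k⁻¹) := by
  rw [inverted_iff hS] at hk
  have h1 : t * k⁻¹ = k * t := by
    rw [← hk.2]; simp only [mul_assoc, invol_cancel hS.mul_self]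
  have h2 : k * t = t * k⁻¹ := h1.symm
  calc t * (k⁻¹ * strS hS * k) * t = (t * k⁻¹) * strS hS * (k * t) := by group
    _ = (k * t) * strS hS * (t * k⁻¹) := congrArg₂ (fun u v => u * strS hS * v) h1 h2
    _ = k * (t * strS hS * t) * k⁻¹ := by group
    _ = k * ((strR hS)⁻¹ * t * strR hS) * k⁻¹ := by rw [strS_eq hS]
    _ = _ := by group

theorem inj_strS {k k' : G} (hk : k ∈ Cfsg.invertedBy 𝔻 t) (hk' : k' ∈ Cfsg.invertedBy 𝔻 t)
    (h : k⁻¹ * strS hS * k = k'⁻¹ * strS hS * k') : k = k' := by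
  have e := conj_strS hS hk
  rw [h, conj_strS hS hk'] at e
  have mem : ∀ {k : G}, k ∈ Cfsg.invertedBy 𝔻 t → k * strR hS * k⁻¹ ∈ Q := fun hk =>
    hS.conj_mem _ hk.1.1 _ (strR_mem hS)
  have sw : ∀ {k : G}, k ∈ Cfsg.invertedBy 𝔻 t → (k * t * k⁻¹) • a = t • a := fun hk => by
    have h1 := (mem_D hS).mp (inv_mem hk.1)
    rw [mul_smul, mul_smul, h1.1, ((mem_D hS).mp hk.1).2]
  set r := k * strR hS * k⁻¹ with hr
  set r' := k' * strR hS * k'⁻¹ with hr'
  set v := r⁻¹ * (k * t * k⁻¹) * r with hv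
  have ea : ∀ (r w : G), r ∈ Q → w • a = t • a → r • ((r⁻¹ * w * r) • a) = t • a := fun r w hr hw => by
    rw [mul_smul, mul_smul, Q_fix hS hr, hw, smul_inv_smul]
  have hva : v • a ≠ a := fun h0 => b_ne hS (by
    have := ea r _ (mem hk) (sw hk)
    rw [← hv, h0, Q_fix hS (mem hk)] at this
    exact this.symm)
  have hrr : r = r' := Q_eq hS (mem hk) (mem hk') hva (by
    have a1 := ea r _ (mem hk) (sw hk)
    have a2 := ea r' _ (mem hk') (sw hk')
    rw [← hv] at a1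
    rw [e] at a2
    exact a1.trans a2.symm)
  rw [← hrr] at e
  have e2 : k * t * k⁻¹ = k' * t * k'⁻¹ := (mul_left_cancel (mul_right_cancel e)).symm
  obtain ⟨hkD, hkt⟩ := (inverted_iff hS).mp hk
  obtain ⟨hkD', hkt'⟩ := (inverted_iff hS).mp hk'
  rw [← hkt, ← hkt'] at e2
  have e3 : k * k * t = k' * k' * t := by
    simpa only [mul_assoc, invol_cancel hS.mul_self] using e2
  exact eq_of_sq_eq hS.odd_card hkD hkD' (mul_right_cancel e3)

theorem map_mem {k s : G} (hk : k ∈ 𝔸) (hs : s ∈ Cfsg.involutionsIn (𝔸 : Set G)) :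
    k⁻¹ * s * k ∈ Cfsg.involutionsIn (𝔸 : Set G) := by
  obtain ⟨hs, hs1, hss⟩ := hs
  refine ⟨mul_mem (mul_mem (inv_mem hk) hs) hk, fun e => hs1 ?_, ?_⟩
  · calc s = k * (k⁻¹ * s * k) * k⁻¹ := by group
      _ = 1 := by rw [e]; group
  · calc k⁻¹ * s * k * (k⁻¹ * s * k) = k⁻¹ * (s * s) * k := by group
      _ = 1 := by rw [hss]; group

theorem bij_of_inj {s : G} (hs : s ∈ Cfsg.involutionsIn (𝔸 : Set G))
    (hinj : ∀ k ∈ Cfsg.invertedBy 𝔻 t, ∀ k' ∈ Cfsg.invertedBy 𝔻 t,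
      k⁻¹ * s * k = k'⁻¹ * s * k' → k = k') {s' : G}
    (hs' : s' ∈ Cfsg.involutionsIn (𝔸 : Set G)) :
    ∃ k ∈ Cfsg.invertedBy 𝔻 t, k⁻¹ * s * k = s' := by
  let f : Cfsg.invertedBy 𝔻 t → Cfsg.involutionsIn (𝔸 : Set G) := fun k =>
    ⟨(k : G)⁻¹ * s * k, map_mem hS k.2.1.1 hs⟩
  have hf : Function.Injective f := fun k k' h =>
    Subtype.ext (hinj k k.2 k' k'.2 (congrArg Subtype.val h))
  obtain ⟨k, hk⟩ := (hf.bijective_of_nat_card_le (card_inverted hS).ge).2 ⟨s', hs'⟩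
  exact ⟨k, k.2, congrArg Subtype.val hk⟩

theorem inj_any {s : G} (hs : s ∈ Cfsg.involutionsIn (𝔸 : Set G)) :
    ∀ k ∈ Cfsg.invertedBy 𝔻 t, ∀ k' ∈ Cfsg.invertedBy 𝔻 t,
      k⁻¹ * s * k = k'⁻¹ * s * k' → k = k' := by
  obtain ⟨k1, hk1, rfl⟩ := bij_of_inj hS (strS_mem hS) (fun k hk k' hk' => inj_strS hS hk hk') hs
  intro k hk k' hk' h
  obtain ⟨hk1D, hk1t⟩ := (inverted_iff hS).mp hk1
  obtain ⟨hkD, hkt⟩ := (inverted_iff hS).mp hk
  obtain ⟨hkD', hkt'⟩ := (inverted_iff hS).mp hk'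
  obtain ⟨c, i, hcD, hct, hiD, hit, hci⟩ :=
    exists_decomp hS.mul_self hS.odd_card (fun x hx => conj_t_mem hS hx) (mul_mem hk1D hkD)
  obtain ⟨c', i', hcD', hct', hiD', hit', hci'⟩ :=
    exists_decomp hS.mul_self hS.odd_card (fun x hx => conj_t_mem hS hx) (mul_mem hk1D hkD')
  have cm : ∀ {c : G}, c ∈ 𝔻 → t * c * t = c → c⁻¹ * strS hS * c = strS hS := fun {c} hc h => by
    have h' : c * t = t * c := by
      calc c * t = t * c * t * t := by rw [h]
        _ = t * c := by rw [mul_assoc _ t t, hS.mul_self, mul_one]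
    rw [mul_assoc, ← comm_strS hS hc h', inv_mul_cancel_left]
  have h2 : i⁻¹ * strS hS * i = i'⁻¹ * strS hS * i' := by
    calc i⁻¹ * strS hS * i = i⁻¹ * (c⁻¹ * strS hS * c) * i := by rw [cm hcD hct]
      _ = k⁻¹ * (k1⁻¹ * strS hS * k1) * k := by
        rw [show k⁻¹ * (k1⁻¹ * strS hS * k1) * k = (k1 * k)⁻¹ * strS hS * (k1 * k) by group, hci]; group
      _ = k'⁻¹ * (k1⁻¹ * strS hS * k1) * k' := h
      _ = i'⁻¹ * (c'⁻¹ * strS hS * c') * i' := by
        rw [show k'⁻¹ * (k1⁻¹ * strS hS * k1) * k' = (k1 * k')⁻¹ * strS hS * (k1 * k') by group, hci']; group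
      _ = _ := by rw [cm hcD' hct']
  have hii : i = i' := inj_strS hS ((inverted_iff hS).mpr ⟨hiD, hit⟩) ((inverted_iff hS).mpr ⟨hiD', hit'⟩) h2
  subst hii
  -- `k1 * k' = e * (k1 * k)` with `e` centralized by `t`
  set e := c' * c⁻¹ with he
  have heD : e ∈ 𝔻 := mul_mem hcD' (inv_mem hcD)
  have het : t * e * t = e := by
    rw [he]
    calc t * (c' * c⁻¹) * t = (t * c' * t) * (t * c * t)⁻¹ := by
          simp only [mul_inv_rev, invol_inv hS.mul_self, mul_assoc, invol_cancel hS.mul_self]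
      _ = c' * c⁻¹ := by rw [hct', hct]
  have hrel : k1 * k' = e * (k1 * k) := by rw [hci, hci', he]; group
  have hrel2 : k1⁻¹ * k'⁻¹ = e * (k1⁻¹ * k⁻¹) := by
    calc k1⁻¹ * k'⁻¹ = (t * k1 * t) * (t * k' * t) := by rw [hk1t, hkt']
      _ = t * (k1 * k') * t := by simp only [mul_assoc, invol_cancel hS.mul_self]
      _ = (t * e * t) * ((t * k1 * t) * (t * k * t)) := by
          rw [hrel]; simp only [mul_assoc, invol_cancel hS.mul_self]
      _ = _ := by rw [het, hk1t, hkt]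
  set w := k1 * k * k1 with hw
  have hwD : w ∈ 𝔻 := mul_mem (mul_mem hk1D hkD) hk1D
  -- `w` inverts `e`
  have hwe : e * w⁻¹ * e = w⁻¹ := by
    have a1 : k' = k1⁻¹ * e * (k1 * k) := by rw [mul_assoc, ← hrel, inv_mul_cancel_left]
    have a2 : k1⁻¹ * (k1⁻¹ * e * (k1 * k))⁻¹ = e * (k1⁻¹ * k⁻¹) := by rw [← a1]; exact hrel2
    have a3 : k1⁻¹ * k⁻¹ * k1⁻¹ * e⁻¹ * k1 = e * k1⁻¹ * k⁻¹ := by
      calc k1⁻¹ * k⁻¹ * k1⁻¹ * e⁻¹ * k1 = k1⁻¹ * (k1⁻¹ * e * (k1 * k))⁻¹ := by group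
        _ = e * k1⁻¹ * k⁻¹ := by rw [a2]; exact (mul_assoc e _ _).symm
    calc e * w⁻¹ * e = (e * k1⁻¹ * k⁻¹) * k1⁻¹ * e := by rw [hw]; group
      _ = (k1⁻¹ * k⁻¹ * k1⁻¹ * e⁻¹ * k1) * k1⁻¹ * e := by rw [a3]
      _ = w⁻¹ := by rw [hw]; group
  have he1 : e = 1 := by
    apply eq_one_of_sq hS.odd_card heD
    have hinv : w * e * w⁻¹ = e⁻¹ := by
      calc w * e * w⁻¹ = w * (e * w⁻¹ * e) * e⁻¹ := by group
        _ = e⁻¹ := by rw [hwe]; group
    have hiter : ∀ n : ℕ, w ^ (2 * n) * e * (w ^ (2 * n))⁻¹ = e := by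
      intro n
      induction n with
      | zero => simp
      | succ n ih =>
        calc w ^ (2 * (n + 1)) * e * (w ^ (2 * (n + 1)))⁻¹
            = w ^ (2 * n) * (w * (w * e * w⁻¹) * w⁻¹) * (w ^ (2 * n))⁻¹ := by
              rw [show 2 * (n + 1) = 2 * n + 1 + 1 by ring, pow_succ, pow_succ]; group
          _ = w ^ (2 * n) * (w * e * w⁻¹)⁻¹ * (w ^ (2 * n))⁻¹ := by
              rw [show w * (w * e * w⁻¹) * w⁻¹ = (w * e * w⁻¹)⁻¹ by
                rw [hinv, inv_inv]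
                calc w * e⁻¹ * w⁻¹ = (w * e * w⁻¹)⁻¹ := by group
                  _ = e := by rw [hinv, inv_inv]]
          _ = e := by rw [hinv, inv_inv]; exact ih
    have h4 := hiter ((Nat.card ↥(𝔻) + 1) / 2)
    rw [pow_mul, (sqrt_pow hS.odd_card hwD).2, hinv] at h4
    calc e * e = e⁻¹⁻¹ * e := by rw [inv_inv]
      _ = 1 := by rw [h4]; group
  rw [he1, one_mul] at hrel
  exact (mul_left_cancel hrel).symm

theorem transitive {s s' : G} (hs : s ∈ Cfsg.involutionsIn (𝔸 : Set G))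
    (hs' : s' ∈ Cfsg.involutionsIn (𝔸 : Set G)) :
    ∃ k ∈ Cfsg.invertedBy 𝔻 t, k⁻¹ * s * k = s' :=
  bij_of_inj hS hs (inj_any hS hs) hs'

/-! ### Bruhat form -/

omit [Finite G] in
theorem bruhat {g : G} (hg : g ∉ 𝔸) :
    ∃! p : G × G, p.1 ∈ 𝔸 ∧ p.2 ∈ Q ∧ g = p.1 * t * p.2 := by
  have hga : g⁻¹ • a ≠ a := fun h => hg (by rw [mem_stabilizer_iff]; exact (inv_smul_eq_iff.mp h).symm)
  obtain ⟨q, hq, hqb⟩ := Q_trans hS hga (b_ne hS)
  refine ⟨(g * q⁻¹ * t, q), ⟨?_, hq, ?_⟩, ?_⟩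
  · rw [mem_stabilizer_iff, mul_smul, mul_smul, ← hqb, inv_smul_smul, smul_inv_smul]
  · rw [mul_assoc _ t t, hS.mul_self, mul_one, inv_mul_cancel_right]
  · rintro ⟨p1, p2⟩ ⟨h1, h2, h3⟩
    simp only at h1 h2 h3
    have : p2 = q := Q_eq hS h2 hq hga (by
      rw [hqb, h3, mul_inv_rev, mul_inv_rev, t_inv hS, ← mul_smul, mul_inv_cancel_left, mul_smul,
        mem_stabilizer_iff.mp (inv_mem h1)])
    subst this
    refine Prod.ext ?_ rfl
    show p1 = g * p2⁻¹ * t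
    rw [h3, mul_inv_cancel_right, mul_assoc, hS.mul_self, mul_one]

omit [Finite G] in
theorem form_unique {g h f g' h' f' : G} (hg : g ∈ Q) (hh : h ∈ 𝔻) (hf : f ∈ Q) (hg' : g' ∈ Q)
    (hh' : h' ∈ 𝔻) (hf' : f' ∈ Q) (e : g * h * t * f = g' * h' * t * f') :
    g = g' ∧ h = h' ∧ f = f' := by
  have hA : ∀ {g h : G}, g ∈ Q → h ∈ 𝔻 → g * h ∈ 𝔸 := fun hg hh => mul_mem (hS.le hg) hh.1
  have hx : g * h * t * f ∉ 𝔸 := fun hm => hS.not_mem (by
    have := mul_mem (mul_mem (inv_mem (hA hg hh)) hm) (inv_mem (hS.le hf))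
    rwa [show (g * h)⁻¹ * (g * h * t * f) * f⁻¹ = t by group] at this)
  obtain ⟨p, -, hp⟩ := bruhat hS hx
  have h1 := hp (g * h, f) ⟨hA hg hh, hf, rfl⟩
  have h2 := hp (g' * h', f') ⟨hA hg' hh', hf', e⟩
  have h3 := h1.trans h2.symm
  simp only [Prod.mk.injEq] at h3
  obtain ⟨a1, a2⟩ := qd_unique hS hg hg' hh hh' h3.1
  exact ⟨a1, a2, h3.2⟩

/-! ### Fixed sets of subsets of `D` -/

omit [Finite G] in
theorem comm_Q {X : Set G} (hX : X ⊆ (𝔸 : Set G)) {y z : Ω} (hy : y ≠ a) (hz : z ≠ a)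
    (hXy : ∀ x ∈ X, x • y = y) (hXz : ∀ x ∈ X, x • z = z) :
    ∃ q ∈ Subgroup.centralizer X ⊓ Q, q • y = z := by
  obtain ⟨q, hq, hqy⟩ := Q_trans hS hy hz
  refine ⟨q, Subgroup.mem_inf.mpr ⟨fun x hx => ?_, hq⟩, hqy⟩
  refine mul_inv_eq_iff_eq_mul.mp (Q_eq hS (hS.conj_mem x (hX hx) q hq) hq hy ?_)
  have : x⁻¹ • y = y := inv_smul_eq_iff.mpr (hXy x hx).symm
  rw [mul_smul, mul_smul, this, hqy, hXz x hx]

omit [Finite G] in
theorem fixed_move {X : Set G} {f y z : Ω} (hf : ∀ x ∈ X, x • f = f) (hy : ∀ x ∈ X, x • y = y)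
    (hz : ∀ x ∈ X, x • z = z) (hyf : y ≠ f) (hzf : z ≠ f) :
    ∃ g ∈ Subgroup.centralizer X, g • f = f ∧ g • y = z := by
  obtain ⟨g0, hg0⟩ := trans hS f a
  have hfix : ∀ w : Ω, (∀ x ∈ X, x • w = w) → ∀ x ∈ X, (g0 * x * g0⁻¹) • (g0 • w) = g0 • w := fun w hw x hx => by
    rw [mul_smul, mul_smul, inv_smul_smul, hw x hx]
  have hX' : (fun x => g0 * x * g0⁻¹) '' X ⊆ (𝔸 : Set G) := by
    rintro _ ⟨x, hx, rfl⟩
    show (g0 * x * g0⁻¹) • a = a
    rw [← hg0]; exact hfix f hf x hx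
  have hne : ∀ w, w ≠ f → g0 • w ≠ a := fun w hw h => hw (MulAction.injective g0 (h.trans hg0.symm))
  obtain ⟨q, hq, hqy⟩ := comm_Q hS hX' (hne y hyf) (hne z hzf)
    (fun w hw => by obtain ⟨x, hx, rfl⟩ := hw; exact hfix y hy x hx)
    (fun w hw => by obtain ⟨x, hx, rfl⟩ := hw; exact hfix z hz x hx)
  refine ⟨g0⁻¹ * q * g0, fun x hx => ?_, ?_, ?_⟩
  · have h := hq.1 (g0 * x * g0⁻¹) ⟨x, hx, rfl⟩
    calc x * (g0⁻¹ * q * g0) = g0⁻¹ * ((g0 * x * g0⁻¹) * q) * g0 := by group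
      _ = g0⁻¹ * (q * (g0 * x * g0⁻¹)) * g0 := by rw [h]
      _ = g0⁻¹ * q * g0 * x := by group
  · rw [mul_smul, mul_smul, hg0, Q_fix hS hq.2, ← hg0, inv_smul_smul]
  · rw [mul_smul, mul_smul, hqy, inv_smul_smul]

omit [Finite G] in
theorem fixed_two_trans {X : Set G}
    (h3 : ∃ b c d : Ω, b ≠ c ∧ b ≠ d ∧ c ≠ d ∧ ∀ x ∈ X, x • b = b ∧ x • c = c ∧ x • d = d)
    {b₁ b₂ c₁ c₂ : Ω} (hb1 : ∀ x ∈ X, x • b₁ = b₁) (hb2 : ∀ x ∈ X, x • b₂ = b₂)
    (hc1 : ∀ x ∈ X, x • c₁ = c₁) (hc2 : ∀ x ∈ X, x • c₂ = c₂) (hb : b₁ ≠ b₂) (hc : c₁ ≠ c₂) :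
    ∃ g ∈ Subgroup.centralizer X, g • b₁ = c₁ ∧ g • b₂ = c₂ := by
  obtain ⟨b, c, d, hbc, hbd, hcd, hfix⟩ := h3
  have hg1 : ∃ g ∈ Subgroup.centralizer X, g • b₁ = c₁ := by
    by_cases h : b₁ = c₁
    · exact ⟨1, one_mem _, by rw [one_smul, h]⟩
    obtain ⟨f, hf, hf1, hf2⟩ : ∃ f, (∀ x ∈ X, x • f = f) ∧ b₁ ≠ f ∧ c₁ ≠ f := by
      by_contra hcon
      push Not at hcon
      have hb' : b₁ = b ∨ c₁ = b := by
        by_cases e : b₁ = b
        · exact Or.inl e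
        · exact Or.inr (hcon b (fun x hx => (hfix x hx).1) e)
      have hc' : b₁ = c ∨ c₁ = c := by
        by_cases e : b₁ = c
        · exact Or.inl e
        · exact Or.inr (hcon c (fun x hx => (hfix x hx).2.1) e)
      have hd' : b₁ = d ∨ c₁ = d := by
        by_cases e : b₁ = d
        · exact Or.inl e
        · exact Or.inr (hcon d (fun x hx => (hfix x hx).2.2) e)
      rcases hb' with rfl | rfl <;> rcases hc' with rfl | rfl <;> rcases hd' with rfl | rfl <;>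
        first | exact hbc rfl | exact hbd rfl | exact hcd rfl
    obtain ⟨g, hg, -, hgb⟩ := fixed_move hS hf hb1 hc1 hf1 hf2
    exact ⟨g, hg, hgb⟩
  obtain ⟨g1, hg1, hgb⟩ := hg1
  have hfix2 : ∀ x ∈ X, x • (g1 • b₂) = g1 • b₂ := fun x hx => by
    rw [← mul_smul, hg1 x hx, mul_smul, hb2 x hx]
  obtain ⟨g2, hg2, hgc, hg2b⟩ := fixed_move hS hc1 hfix2 hc2
    (fun h => hb (MulAction.injective g1 (hgb.trans h.symm))) (Ne.symm hc)
  exact ⟨g2 * g1, mul_mem hg2 hg1, by rw [mul_smul, hgb, hgc], by rw [mul_smul, hg2b]⟩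

theorem fixed_swap {X : Set G} (hX : X ⊆ (𝔻 : Set G))
    (h3 : ∃ b c d : Ω, b ≠ c ∧ b ≠ d ∧ c ≠ d ∧ ∀ x ∈ X, x • b = b ∧ x • c = c ∧ x • d = d) :
    ∃ u ∈ Subgroup.centralizer X, u * u = 1 ∧ u • a = t • a := by
  have hXa : ∀ x ∈ X, x • a = a := fun x hx => ((mem_D hS).mp (hX hx)).1
  have hXb : ∀ x ∈ X, x • (t • a) = t • a := fun x hx => ((mem_D hS).mp (hX hx)).2
  obtain ⟨g, hg, hga, hgb⟩ := fixed_two_trans hS h3 hXa hXb hXb hXa (b_ne hS).symm (b_ne hS)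
  have hg2 : g * g ∈ 𝔻 := (mem_D hS).mpr ⟨by rw [mul_smul, hga, hgb], by rw [mul_smul, hgb, hga]⟩
  obtain ⟨m, hm⟩ := Odd.of_dvd_nat hS.odd_card (Subgroup.orderOf_dvd_natCard _ hg2)
  have h1 : (g * g) ^ (2 * m + 1) = 1 := by rw [← hm]; exact pow_orderOf_eq_one _
  refine ⟨g * (g * g) ^ m, mul_mem hg (pow_mem (mul_mem hg hg) m), ?_, ?_⟩
  · rw [show g * g = g ^ 2 from (pow_two g).symm, ← pow_mul, ← pow_succ', ← pow_add,
      show 2 * m + 1 + (2 * m + 1) = 2 * (2 * m + 1) by ring, pow_mul, pow_two]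
    exact h1
  · have : (g * g) ^ m • a = a := ((mem_D hS).mp (pow_mem hg2 m)).1
    rw [mul_smul, this, hga]

end CfsgLib.RankOne
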