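import Cfsg.Agent.Lib.RankOne.Nilpotent
import Cfsg.Agent.Lib.OddConseq.OddTransitive
import Cfsg.Agent.Lib.OddConseq.Unconditional
import Cfsg.Agent.S1127

/-!
The torus of the rank-one set-up: the set of inverted elements of the two-point stabiliser is a
cyclic normal subgroup, and the centraliser of the involution is cyclic modulo the kernel.
-/

set_option autoImplicit false
set_option linter.style.haveILetI false

namespace CfsgLib.RankOne.Torus

open MulAction

theorem pow_two_eq_self_inv {M : Type*} [Group M] [Finite M] (hodd : Odd (Nat.card M)) {x : M}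
    (h : x = x⁻¹) : x = 1 :=
  eq_one_of_sq (X := ⊤) (by rwa [Subgroup.card_top]) (Subgroup.mem_top x)
    (by nth_rewrite 1 [h]; exact inv_mul_cancel x)

variable {G Ω : Type*} [Group G] [Finite G] [MulAction G Ω] {a : Ω} {t : G} {Q : Subgroup G}

local notation "𝔸" => stabilizer G a
local notation "𝔻" => (stabilizer G a ⊓ stabilizer G (t • a))

variable (hS : Cfsg.IsRankOneSetup G Ω a t Q)
variable (h2 : ∃ x y : G, x ≠ 1 ∧ y ≠ 1 ∧ x ≠ y ∧ x * x = 1 ∧ y * y = 1 ∧ x * y = y * x)
include hS h2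

theorem invol_comm {x y : G} (hx : x ∈ 𝔸 ∧ x * x = 1) (hy : y ∈ 𝔸 ∧ y * y = 1) : x * y = y * x := by
  by_cases h : x = 1
  · rw [h, one_mul, mul_one]
  · exact invol_central hS h2 ⟨hx.1, h, hx.2⟩ (mem_Q_of_invol hS hy.1 hy.2)

/-- The involutions of the point stabiliser, with the identity. -/
def invols : Subgroup G where
  carrier := {x | x ∈ 𝔸 ∧ x * x = 1}
  mul_mem' := fun {x y} hx hy => ⟨mul_mem hx.1 hy.1, by
    calc x * y * (x * y) = x * (y * x) * y := by group
      _ = (x * x) * (y * y) := by rw [← invol_comm hS h2 hx hy]; group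
      _ = 1 := by rw [hx.2, hy.2, one_mul]⟩
  one_mem' := ⟨one_mem _, one_mul 1⟩
  inv_mem' := fun {x} hx => by
    rw [invol_inv hx.2]
    exact hx

theorem conj_invols {d x : G} (hd : d ∈ 𝔸) (hx : x ∈ invols hS h2) :
    d * x * d⁻¹ ∈ invols hS h2 := by
  refine ⟨mul_mem (mul_mem hd hx.1) (inv_mem hd), ?_⟩
  calc d * x * d⁻¹ * (d * x * d⁻¹) = d * (x * x) * d⁻¹ := by group
    _ = 1 := by rw [hx.2]; group

/-- The action of the two-point stabiliser on the involutions. -/
def actHom : ↥(𝔻) →* MulAut ↥(invols hS h2) where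
  toFun d :=
    { toFun := fun x => ⟨(d : G) * x * (d : G)⁻¹, conj_invols hS h2 d.2.1 x.2⟩
      invFun := fun x => ⟨(d : G)⁻¹ * x * (d : G), by
        have := conj_invols hS h2 (inv_mem d.2.1) x.2
        rwa [inv_inv] at this⟩
      left_inv := fun x => Subtype.ext (by simp [mul_assoc])
      right_inv := fun x => Subtype.ext (by simp [mul_assoc])
      map_mul' := fun x y => Subtype.ext (by simp [mul_assoc]) }
  map_one' := MulEquiv.ext fun x => Subtype.ext (by simp)
  map_mul' := fun c d => MulEquiv.ext fun x => Subtype.ext (by simp [mul_assoc])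

theorem actHom_val (d : ↥(𝔻)) (x : ↥(invols hS h2)) :
    ((actHom hS h2 d x : ↥(invols hS h2)) : G) = (d : G) * x * (d : G)⁻¹ := rfl

/-- The group induced by the two-point stabiliser on the involutions. -/
noncomputable abbrev proj : ↥(𝔻) →* ↥((actHom hS h2).range) := (actHom hS h2).rangeRestrict

theorem proj_surj : Function.Surjective (proj hS h2) := (actHom hS h2).rangeRestrict_surjective

/-- The distinguished involution, as an element of the group of involutions. -/
noncomputable def base : ↥(invols hS h2) := ⟨strS hS, (strS_mem hS).1, (strS_mem hS).2.2⟩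

theorem proj_fix {d : ↥(𝔻)} :
    (proj hS h2 d : MulAut _) (base hS h2) = base hS h2 ↔ (d : G) * t = t * d := by
  rw [Subtype.ext_iff]
  show (d : G) * strS hS * (d : G)⁻¹ = strS hS ↔ _
  rw [mul_inv_eq_iff_eq_mul]
  refine ⟨fun h => ?_, fun h => comm_strS hS d.2 h⟩
  have e := (Cfsg.Agent.S1127.result hS).1 (strS hS) (strR hS) (strS_mem hS) (strR_mem hS) (strS_eq hS)
  have hmem : (d : G) ∈ 𝔻 ⊓ Subgroup.centralizer {strS hS} :=
    Subgroup.mem_inf.mpr ⟨d.2, Subgroup.mem_centralizer_singleton_iff.mpr h⟩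
  rw [← e] at hmem
  exact Subgroup.mem_centralizer_singleton_iff.mp (Subgroup.mem_inf.mp hmem).2

theorem proj_eq_one {d : ↥(𝔻)} :
    proj hS h2 d = 1 ↔
      (d : G) ∈ 𝔻 ⊓ Subgroup.centralizer (Cfsg.involutionsIn (𝔸 : Set G)) := by
  rw [Subgroup.mem_inf, Subtype.ext_iff]
  refine ⟨fun h => ⟨d.2, fun s hs => ?_⟩, fun h => MulEquiv.ext fun x => Subtype.ext ?_⟩
  · have h1 := congrArg (fun f : MulAut ↥(invols hS h2) => ((f ⟨s, hs.1, hs.2.2⟩ : ↥(invols hS h2)) : G)) h
    exact (mul_inv_eq_iff_eq_mul.mp (show (d : G) * s * (d : G)⁻¹ = s from h1)).symm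
  · show (d : G) * x * (d : G)⁻¹ = x
    by_cases hx : (x : G) = 1
    · rw [hx]; group
    · rw [mul_inv_eq_iff_eq_mul]
      exact (h.2 x ⟨x.2.1, hx, x.2.2⟩).symm

theorem range_odd : Odd (Nat.card ↥((actHom hS h2).range)) :=
  hS.odd_card.of_dvd_nat (Subgroup.card_dvd_of_surjective _ (proj_surj hS h2))

theorem range_trans {x y : ↥(invols hS h2)} (hx : x ≠ 1) (hy : y ≠ 1) :
    ∃ g : ↥((actHom hS h2).range), (g : MulAut _) x = y := by
  have m : ∀ {x : ↥(invols hS h2)}, x ≠ 1 → (x : G) ∈ Cfsg.involutionsIn (𝔸 : Set G) :=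
    fun {x} hx => ⟨x.2.1, fun h => hx (Subtype.ext h), x.2.2⟩
  obtain ⟨k, hk, hkx⟩ := transitive hS (m hx) (m hy)
  refine ⟨proj hS h2 ⟨k⁻¹, inv_mem hk.1⟩, Subtype.ext ?_⟩
  show k⁻¹ * x * k⁻¹⁻¹ = y
  rw [inv_inv]
  exact hkx

theorem exists_semilinear_base :
    ∃ (V : Type) (_ : Field V) (_ : Finite V) (S : ↥((actHom hS h2).range) →* RingAut V),
      ∀ g : ↥((actHom hS h2).range),
        (g : MulAut _) (base hS h2) = base hS h2 → S g = 1 → g = 1 := by
  classical
  letI : CommGroup ↥(invols hS h2) :=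
    { (inferInstance : Group ↥(invols hS h2)) with
      mul_comm := fun x y => Subtype.ext (invol_comm hS h2 x.2 y.2) }
  have hp : ∀ e : Additive ↥(invols hS h2), 2 • e = 0 := fun e =>
    congrArg Additive.ofMul (Subtype.ext (show ((Additive.toMul e ^ 2 : ↥(invols hS h2)) : G) = 1 by
      rw [SubgroupClass.coe_pow, pow_two]; exact (Additive.toMul e).2.2))
  haveI : Fact (Nat.Prime 2) := ⟨Nat.prime_two⟩
  letI : Module (ZMod 2) (Additive ↥(invols hS h2)) := AddCommGroup.zmodModule hp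
  let ρ : ↥((actHom hS h2).range) →* (Additive ↥(invols hS h2) ≃ₗ[ZMod 2] Additive ↥(invols hS h2)) :=
    { toFun := fun b =>
        { (MulEquiv.toAdditive (b : MulAut ↥(invols hS h2))) with
          map_smul' := fun c x => ZMod.map_smul
            ((MulEquiv.toAdditive (b : MulAut ↥(invols hS h2))).toAddMonoidHom) c x }
      map_one' := by ext; rfl
      map_mul' := fun _ _ => by ext; rfl }
  have hρa : ∀ (b : ↥((actHom hS h2).range)) (x : ↥(invols hS h2)), ρ b (Additive.ofMul x) = Additive.ofMul ((b : MulAut ↥(invols hS h2)) x) :=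
    fun _ _ => rfl
  have hρ : Function.Injective ρ := fun b c h => Subtype.ext (MulEquiv.ext fun x =>
    Additive.ofMul.injective (by rw [← hρa, ← hρa, h]))
  have htr : ∀ v w : Additive ↥(invols hS h2), v ≠ 0 → w ≠ 0 → ∃ g, ρ g v = w := fun v w hv hw => by
    obtain ⟨g, hg⟩ := range_trans hS h2 (x := Additive.toMul v) (y := Additive.toMul w)
      (fun h => hv (congrArg Additive.ofMul h)) (fun h => hw (congrArg Additive.ofMul h))
    exact ⟨g, (hρa g _).trans (congrArg Additive.ofMul hg)⟩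
  haveI : Group.IsSolvable ↥((actHom hS h2).range) := CfsgLib.OddOrder.odd_order_solvable (range_odd hS h2)
  haveI : Nontrivial (Additive ↥(invols hS h2)) := by
    refine ⟨Additive.ofMul (base hS h2), 0, fun h => (strS_mem hS).2.1 ?_⟩
    exact congrArg (fun x : Additive ↥(invols hS h2) => ((Additive.toMul x : ↥(invols hS h2)) : G)) h
  rcases TransLinear.transitive_main hρ htr with ⟨V, hV, hVf, e, he⟩ | h
  swap
  · exfalso
    have heven : 2 ∣ Nat.card (Additive ↥(invols hS h2)) := by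
      rw [Nat.card_congr Additive.toMul]
      have h1 := orderOf_dvd_natCard (base hS h2)
      rwa [← Subgroup.orderOf_coe,
        show ((base hS h2 : ↥(invols hS h2)) : G) = strS hS from rfl,
        orderOf_invol (strS_mem hS).2.1 (strS_mem hS).2.2] at h1
    simp only [Set.mem_insert_iff, Set.mem_singleton_iff] at h
    rcases h with h | h | h | h | h | h <;> rw [h] at heven <;> omega
  choose c σ hσ using he
  have hone : e (e.symm 1) = (1 : V) := e.apply_symm_apply 1
  have hc0 : ∀ g, c g ≠ 0 := fun g h => by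
    have h1 := hσ g (ρ g⁻¹ (e.symm 1))
    rw [← LinearEquiv.mul_apply, ← map_mul, mul_inv_cancel, map_one, h, zero_mul] at h1
    rw [show ((1 : Additive ↥(invols hS h2) ≃ₗ[ZMod 2] Additive ↥(invols hS h2))) (e.symm 1) = e.symm 1 from rfl, hone] at h1
    exact one_ne_zero h1
  have he1 : ∀ g, e (ρ g (e.symm 1)) = c g := fun g => by rw [hσ, hone, map_one, mul_one]
  have hmul : ∀ g h, σ (g * h) = σ g * σ h := fun g h => RingEquiv.ext fun x => by
    have hc : c (g * h) = c g * σ g (c h) := by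
      rw [← he1, map_mul, LinearEquiv.mul_apply, hσ, he1]
    refine mul_left_cancel₀ (hc0 (g * h)) ?_
    calc c (g * h) * σ (g * h) x = e (ρ (g * h) (e.symm x)) := by rw [hσ, e.apply_symm_apply]
      _ = c g * σ g (c h * σ h x) := by
        rw [map_mul, LinearEquiv.mul_apply, hσ, hσ, e.apply_symm_apply]
      _ = c (g * h) * (σ g * σ h) x := by rw [map_mul (σ g), hc, mul_assoc]; rfl
  refine ⟨V, hV, Finite.of_fintype V, MonoidHom.mk' σ hmul, fun g hg h1 => ?_⟩
  have hb : e (Additive.ofMul (base hS h2)) ≠ 0 := fun h => (strS_mem hS).2.1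
    (congrArg (fun x : Additive ↥(invols hS h2) => ((Additive.toMul x : ↥(invols hS h2)) : G)) (e.map_eq_zero_iff.mp h))
  have hcg : c g = 1 := by
    have h3 := hσ g (Additive.ofMul (base hS h2))
    rw [hρa, hg, show σ g = 1 from h1] at h3
    exact mul_right_cancel₀ hb (by rw [one_mul]; exact h3.symm)
  refine hρ (LinearEquiv.ext fun v => e.injective ?_)
  rw [hσ, hcg, show σ g = 1 from h1, map_one, one_mul]
  rfl

theorem cyclic_centraliser :
    ∃ v ∈ 𝔻 ⊓ Subgroup.centralizer {t}, ∀ x ∈ 𝔻 ⊓ Subgroup.centralizer {t}, ∃ n : ℤ,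
      x * (v ^ n)⁻¹ ∈ 𝔻 ⊓ Subgroup.centralizer (Cfsg.involutionsIn (𝔸 : Set G)) := by
  classical
  obtain ⟨V, _, _, S, hinj⟩ := exists_semilinear_base hS h2
  haveI := Fintype.ofFinite V
  obtain ⟨p, hp⟩ := CharP.exists V
  haveI := hp
  haveI : Fact p.Prime := ⟨CharP.char_is_prime V p⟩
  letI : Algebra (ZMod p) V := ZMod.algebra V p
  let ι : RingAut V →* (V ≃ₐ[ZMod p] V) :=
    { toFun := fun s => AlgEquiv.ofRingEquiv (f := s) fun x =>
        RingHom.congr_fun (Subsingleton.elim ((s : V →+* V).comp (algebraMap (ZMod p) V))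
          (algebraMap (ZMod p) V)) x
      map_one' := by ext; rfl
      map_mul' := fun _ _ => by ext; rfl }
  have hι : Function.Injective ι := fun s u h => RingEquiv.ext fun x => AlgEquiv.congr_fun h x
  let X : Subgroup G := 𝔻 ⊓ Subgroup.centralizer {t}
  let θ : ↥X →* ↥((actHom hS h2).range) :=
    (proj hS h2).comp (Subgroup.inclusion (inf_le_left : X ≤ 𝔻))
  have hθ : ∀ x : ↥X, (θ x : MulAut _) (base hS h2) = base hS h2 := fun x =>
    (proj_fix hS h2).mpr (Subgroup.mem_centralizer_singleton_iff.mp (Subgroup.mem_inf.mp x.2).2)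
  let f : ↥(θ.range) →* (V ≃ₐ[ZMod p] V) := ι.comp (S.comp θ.range.subtype)
  have hf : Function.Injective f := (injective_iff_map_eq_one f).mpr fun g hg => by
    obtain ⟨x, hx⟩ := g.2
    exact Subtype.ext (hinj g (hx ▸ hθ x) (hι (by rw [map_one]; exact hg)))
  haveI := isCyclic_of_injective f hf
  obtain ⟨⟨_, ⟨v, rfl⟩⟩, hv⟩ := IsCyclic.exists_generator (α := ↥(θ.range))
  refine ⟨v, v.2, fun x hx => ?_⟩
  obtain ⟨n, hn⟩ := Subgroup.mem_zpowers_iff.mp (hv ⟨θ ⟨x, hx⟩, ⟨_, rfl⟩⟩)
  refine ⟨n, ?_⟩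
  have h1 : θ (⟨x, hx⟩ * (v ^ n)⁻¹) = 1 := by
    rw [map_mul, map_inv, map_zpow, show θ v ^ n = θ ⟨x, hx⟩ from congrArg Subtype.val hn,
      mul_inv_cancel]
  have h3 := (proj_eq_one hS h2).mp h1
  simpa using h3

theorem inverted_cyclic :
    ∃ i₀ ∈ Cfsg.invertedBy 𝔻 t, ∀ i ∈ Cfsg.invertedBy 𝔻 t, ∃ n : ℕ, i = i₀ ^ n := by
  classical
  set φ := proj hS h2
  have hBodd : Odd (Nat.card ↥((actHom hS h2).range)) := range_odd hS h2
  letI : CommGroup ↥(invols hS h2) :=
    { (inferInstance : Group ↥(invols hS h2)) with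
      mul_comm := fun x y => Subtype.ext (invol_comm hS h2 x.2 y.2) }
  have hp : ∀ e : Additive ↥(invols hS h2), 2 • e = 0 := fun e =>
    congrArg Additive.ofMul (Subtype.ext (show ((Additive.toMul e ^ 2 : ↥(invols hS h2)) : G) = 1 by
      rw [SubgroupClass.coe_pow, pow_two]; exact (Additive.toMul e).2.2))
  haveI : Nontrivial (Additive ↥(invols hS h2)) := by
    refine ⟨Additive.ofMul (base hS h2), 0, fun h => (strS_mem hS).2.1 ?_⟩
    exact congrArg (fun x : Additive ↥(invols hS h2) => ((Additive.toMul x : ↥(invols hS h2)) : G)) h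
  letI : DistribMulAction ↥((actHom hS h2).range) (Additive ↥(invols hS h2)) :=
    { smul := fun b x => Additive.ofMul ((b : MulAut ↥(invols hS h2)) (Additive.toMul x))
      one_smul := fun _ => rfl
      mul_smul := fun _ _ _ => rfl
      smul_zero := fun b => congrArg Additive.ofMul (map_one (b : MulAut ↥(invols hS h2)))
      smul_add := fun b x y =>
        congrArg Additive.ofMul (map_mul (b : MulAut ↥(invols hS h2)) (Additive.toMul x) (Additive.toMul y)) }
  have hsm : ∀ (b : ↥((actHom hS h2).range)) (x : ↥(invols hS h2)), b • Additive.ofMul x = Additive.ofMul ((b : MulAut ↥(invols hS h2)) x) :=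
    fun _ _ => rfl
  haveI : FaithfulSMul ↥((actHom hS h2).range) (Additive ↥(invols hS h2)) := ⟨fun {b c} h => Subtype.ext (MulEquiv.ext fun x =>
    Additive.ofMul.injective (h (Additive.ofMul x)))⟩
  have htr : ∀ v w : Additive ↥(invols hS h2), v ≠ 0 → w ≠ 0 → ∃ d : ↥((actHom hS h2).range), d • v = w := fun v w hv hw => by
    obtain ⟨g, hg⟩ := range_trans hS h2 (x := Additive.toMul v) (y := Additive.toMul w)
      (fun h => hv (congrArg Additive.ofMul h)) (fun h => hw (congrArg Additive.ofMul h))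
    exact ⟨g, congrArg Additive.ofMul hg⟩
  obtain ⟨hFc, hFfree, hFder⟩ := CfsgLib.OddConseq.fitting_of_odd_transitive
    (CfsgLib.OddOrder.odd_order_solvable hBodd) hBodd Nat.prime_two hp htr
  set F := Cfsg.fittingSubgroup ↥((actHom hS h2).range) with hFdef
  haveI hFn : F.Normal := Fitting.fittingSubgroup_normal
  haveI hFnil : Group.IsNilpotent ↥F := Fitting.fittingSubgroup_isNilpotent
  have hFcomm : ∀ x ∈ F, ∀ y ∈ F, x * y = y * x := fun x hx y hy => by
    letI := IsCyclic.commGroup (α := ↥F)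
    exact congrArg Subtype.val (mul_comm (⟨x, hx⟩ : ↥F) ⟨y, hy⟩)
  -- the automorphism induced by `t`
  have htt := hS.mul_self
  let τ : ↥(𝔻) →* ↥(𝔻) := MonoidHom.mk' (fun d => ⟨t * d * t, conj_t_mem hS d.2⟩) fun c d =>
    Subtype.ext (by simp [mul_assoc, invol_cancel htt])
  have hτv : ∀ d, ((τ d : ↥(𝔻)) : G) = t * d * t := fun _ => rfl
  have hττ : ∀ d, τ (τ d) = d := fun d => Subtype.ext (by simp [hτv, mul_assoc, invol_cancel htt, htt])
  have hker : φ.ker ≤ (φ.comp τ).ker := fun d hd => by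
    have h1 : φ d = 1 := hd
    have hb : (φ d : MulAut _) (base hS h2) = base hS h2 := by rw [h1]; rfl
    have h3 : τ d = d := Subtype.ext (by
      rw [hτv, mul_assoc, (proj_fix hS h2).mp hb, invol_cancel htt])
    rw [MonoidHom.mem_ker, MonoidHom.comp_apply, h3, h1]
  let τb : ↥((actHom hS h2).range) →* ↥((actHom hS h2).range) := φ.liftOfSurjective (proj_surj hS h2) ⟨φ.comp τ, hker⟩
  have hτb : ∀ d, τb (φ d) = φ (τ d) := fun d =>
    φ.liftOfRightInverse_comp_apply _ (Function.rightInverse_surjInv (proj_surj hS h2))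
      ⟨φ.comp τ, hker⟩ d
  have hinv : ∀ x, τb (τb x) = x := fun x => by
    obtain ⟨d, rfl⟩ := proj_surj hS h2 x
    rw [hτb, hτb, hττ]
  have hbij : Function.Bijective τb := Function.Involutive.bijective hinv
  have hFτ : ∀ f ∈ F, τb f ∈ F := fun f hf => by
    have hn : (F.map τb).Normal := Subgroup.Normal.map hFn τb hbij.2
    haveI : Group.IsNilpotent ↥(F.map τb) :=
      Group.nilpotent_of_surjective (F.equivMapOfInjective τb hbij.1).toMonoidHom
        (F.equivMapOfInjective τb hbij.1).surjective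
    exact Fitting.le_fittingSubgroup hn inferInstance ⟨f, hf, rfl⟩
  have hfree : ∀ g ∈ F, (g : MulAut ↥(invols hS h2)) (base hS h2) = base hS h2 → g = 1 := fun g hg h => by
    by_contra hg1
    have h3 := hFfree g hg hg1 (Additive.ofMul (base hS h2)) (by rw [hsm, h])
    exact (strS_mem hS).2.1 (congrArg (fun x : Additive ↥(invols hS h2) => ((Additive.toMul x : ↥(invols hS h2)) : G)) h3)
  -- fixed points of `t` fix the base involution
  have hdec : ∀ x : ↥((actHom hS h2).range), ∃ c i : ↥(𝔻), τ c = c ∧ τ i = i⁻¹ ∧ x = φ (c * i) := fun x => by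
    obtain ⟨⟨d, hd⟩, rfl⟩ := proj_surj hS h2 x
    obtain ⟨c, i, hc, hct, hi, hit, rfl⟩ :=
      exists_decomp htt hS.odd_card (fun x hx => conj_t_mem hS hx) hd
    exact ⟨⟨c, hc⟩, ⟨i, hi⟩, Subtype.ext hct, Subtype.ext hit, rfl⟩
  have hcfix : ∀ c : ↥(𝔻), τ c = c → (φ c : MulAut ↥(invols hS h2)) (base hS h2) = base hS h2 := fun c hc => by
    rw [proj_fix hS h2]
    have h : t * (c : G) * t = c := congrArg Subtype.val hc
    calc (c : G) * t = t * c * t * t := by rw [h]
      _ = t * c := by rw [mul_assoc _ t t, htt, mul_one]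
  have hfix : ∀ x : ↥((actHom hS h2).range), τb x = x → (x : MulAut ↥(invols hS h2)) (base hS h2) = base hS h2 := fun x hx => by
    obtain ⟨c, i, hc, hi, rfl⟩ := hdec x
    rw [hτb, map_mul τ, hc, hi, map_mul, map_mul, map_inv] at hx
    have hi1 : φ i = 1 := pow_two_eq_self_inv hBodd (mul_left_cancel hx).symm
    rw [map_mul, hi1, mul_one]
    exact hcfix c hc
  have hFinv : ∀ f ∈ F, τb f = f⁻¹ := fun f hf => by
    have h : τb (f * τb f) = f * τb f := by rw [map_mul, hinv, hFcomm _ (hFτ f hf) f hf]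
    have h1 := hfree _ (mul_mem hf (hFτ f hf)) (hfix _ h)
    exact (inv_eq_of_mul_eq_one_right h1).symm
  -- inverted elements lie in the Fitting subgroup
  have hC : Subgroup.centralizer (F : Set ↥((actHom hS h2).range)) ≤ F := by
    set C := Subgroup.centralizer (F : Set ↥((actHom hS h2).range))
    refine Fitting.le_fittingSubgroup inferInstance ?_
    refine Subgroup.isNilpotent_of_ker_le_center (Abelianization.of (G := ↥C)) ?_
    rw [Abelianization.ker_of]
    intro x hx
    have hxF : (x : ↥((actHom hS h2).range)) ∈ F := by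
      have h1 : (commutator ↥C).map C.subtype ≤ F := by
        refine le_trans ?_ hFder
        rw [commutator_def, Subgroup.map_commutator]
        exact Subgroup.commutator_mono le_top le_top
      exact h1 ⟨x, hx, rfl⟩
    exact Subgroup.mem_center_iff.mpr fun y => Subtype.ext (y.2 x hxF).symm
  have hIF : ∀ i : ↥(𝔻), τ i = i⁻¹ → φ i ∈ F := fun i hi => by
    refine hC fun f hf => ?_
    set g := φ i
    have hg : τb g = g⁻¹ := by rw [hτb, hi, map_inv]
    have h1 := hFinv _ (hFn.conj_mem f hf g)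
    rw [map_mul, map_mul, map_inv τb g, hg, hFinv f hf, inv_inv] at h1
    -- conjugation by `g` and by its inverse agree on `f`
    have h3 : Commute (g ^ 2) f := by
      have h4 : g⁻¹ * f * g = g * f * g⁻¹ := by
        calc g⁻¹ * f * g = (g⁻¹ * f⁻¹ * g)⁻¹ := by group
          _ = g * f * g⁻¹ := by rw [h1, inv_inv]
      show g ^ 2 * f = f * g ^ 2
      calc g ^ 2 * f = g * (g * f * g⁻¹) * g := by rw [pow_two]; group
        _ = g * (g⁻¹ * f * g) * g := by rw [h4]
        _ = f * g ^ 2 := by rw [pow_two]; group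
    have h5 := h3.pow_left ((Nat.card ↥(⊤ : Subgroup ↥((actHom hS h2).range)) + 1) / 2)
    rw [(sqrt_pow (X := ⊤) (by rwa [Subgroup.card_top]) (Subgroup.mem_top g)).2] at h5
    exact h5.eq.symm
  have hFI : ∀ f ∈ F, ∃ i : ↥(𝔻), τ i = i⁻¹ ∧ φ i = f := fun f hf => by
    obtain ⟨c, i, hc, hi, rfl⟩ := hdec f
    have hcF : φ c ∈ F := by
      rw [show φ c = φ (c * i) * (φ i)⁻¹ by rw [map_mul, mul_inv_cancel_right]]
      exact mul_mem hf (inv_mem (hIF i hi))
    have hc1 : φ c = 1 := hfree _ hcF (hcfix c hc)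
    exact ⟨i, hi, by rw [map_mul, hc1, one_mul]⟩
  obtain ⟨⟨g, hgF⟩, hg⟩ := IsCyclic.exists_generator (α := ↥F)
  obtain ⟨i₀, hi₀, rfl⟩ := hFI g hgF
  have hi₀I : (i₀ : G) ∈ Cfsg.invertedBy 𝔻 t := (inverted_iff hS).mpr ⟨i₀.2, by
    have := congrArg Subtype.val hi₀
    rwa [hτv, InvMemClass.coe_inv] at this⟩
  refine ⟨i₀, hi₀I, fun i hi => ?_⟩
  obtain ⟨hiD, hit⟩ := (inverted_iff hS).mp hi
  have hiτ : τ ⟨i, hiD⟩ = ⟨i, hiD⟩⁻¹ := Subtype.ext hit
  obtain ⟨n, hn⟩ := Submonoid.mem_powers_iff _ _ |>.mp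
    (mem_powers_iff_mem_zpowers.mpr (hg ⟨φ ⟨i, hiD⟩, hIF _ hiτ⟩))
  have hn' : φ i₀ ^ n = φ ⟨i, hiD⟩ := congrArg Subtype.val hn
  refine ⟨n, ?_⟩
  have hd : φ (⟨i, hiD⟩ * (i₀ ^ n)⁻¹) = 1 := by
    rw [map_mul, map_inv, map_pow, hn', mul_inv_cancel]
  have hb : (φ (⟨i, hiD⟩ * (i₀ ^ n)⁻¹) : MulAut _) (base hS h2) = base hS h2 := by rw [hd]; rfl
  have hdt : i * ((i₀ : G) ^ n)⁻¹ * t = t * (i * ((i₀ : G) ^ n)⁻¹) := by
    have h3 := (proj_fix hS h2).mp hb
    simpa using h3
  obtain ⟨hpD, hpt⟩ := (inverted_iff hS).mp (inverted_pow hi₀I n)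
  have h4 : t * (i * ((i₀ : G) ^ n)⁻¹) * t = i * ((i₀ : G) ^ n)⁻¹ := by
    rw [← hdt, mul_assoc, htt, mul_one]
  exact (decomp_unique htt hS.odd_card (show t * 1 * t = 1 by rw [mul_one, htt]) hiD hit h4 hpD hpt
    (by rw [one_mul, inv_mul_cancel_right])).2

end CfsgLib.RankOne.Torus
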